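import Mathlib
import Cfsg.Prelude.Def_CaseTheorems
import Cfsg.Agent.Lib.PGroup.Frattini

/-!
`2`-constrained groups with a simple top of order `168` and sectional `2`-rank at most `4`:
definitions and general tools.
-/

set_option autoImplicit false

namespace Cfsg.Agent.Lib.L32Core58

variable {X : Type*} [Group X]

/-- Every section `P/D` of exponent two has order at most `16`. -/
def Rank4 (X : Type*) [Group X] : Prop :=
  ∀ P D : Subgroup X, D ≤ P → (∀ x ∈ P, ∀ y ∈ D, x * y * x⁻¹ ∈ D) → (∀ x ∈ P, x * x ∈ D) →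
    Nat.card P ≤ 16 * Nat.card D

theorem rank4_of_sectional (h : Cfsg.SectionalPRankLE 2 4 X) : Rank4 X := by
  intro P D hDP hn hsq
  haveI hN : (D.subgroupOf P).Normal :=
    ⟨fun n hn' g => Subgroup.mem_subgroupOf.mpr (hn g g.2 n (Subgroup.mem_subgroupOf.mp hn'))⟩
  have hexp : ∀ v : ↥P ⧸ D.subgroupOf P, v * v = 1 := by
    intro v
    induction v using QuotientGroup.induction_on with
    | _ x =>
      rw [← QuotientGroup.mk_mul, QuotientGroup.eq_one_iff]
      exact Subgroup.mem_subgroupOf.mpr (hsq x x.2)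
  have h1 := h P (D.subgroupOf P) ⊤ ⟨⟨fun a b => Subtype.ext ?_⟩⟩ fun a _ => by rw [pow_two]; exact hexp a
  · have h2 : Nat.card ↥P = Nat.card (↥P ⧸ D.subgroupOf P) * Nat.card ↥D := by
      rw [Subgroup.card_eq_card_quotient_mul_card_subgroup (D.subgroupOf P),
        Nat.card_congr (Subgroup.subgroupOfEquivOfLe hDP).toEquiv]
    rw [Subgroup.card_top] at h1
    rw [h2]
    exact Nat.mul_le_mul_right _ h1
  · have hinv : ∀ v : ↥P ⧸ D.subgroupOf P, v⁻¹ = v := fun v => inv_eq_of_mul_eq_one_right (hexp v)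
    show (a : ↥P ⧸ D.subgroupOf P) * b = b * a
    calc (a : ↥P ⧸ D.subgroupOf P) * b = ((a : ↥P ⧸ D.subgroupOf P) * b)⁻¹ := (hinv _).symm
      _ = _ := by rw [mul_inv_rev, hinv, hinv]

/-- The hypotheses: `Q` is a self-centralising normal `2`-subgroup with simple quotient of order
`168`, and the sectional `2`-rank is at most `4`. -/
structure Hyp (Q : Subgroup X) : Prop where
  normal : Q.Normal
  pgrp : IsPGroup 2 Q
  cen : Subgroup.centralizer (Q : Set X) ≤ Q
  index : Q.index = 168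
  simple : ∀ N : Subgroup X, N.Normal → Q ≤ N → N = Q ∨ N = ⊤
  rank : Rank4 X

/-- `Q` is commutative of order `32` with exactly two squares. -/
def Good32 (Q : Subgroup X) : Prop :=
  Nat.card Q = 32 ∧ (∀ a ∈ Q, ∀ b ∈ Q, a * b = b * a) ∧
    ∃ z ∈ Q, z ≠ 1 ∧ z * z = 1 ∧ (∀ q ∈ Q, q * q = 1 ∨ q * q = z) ∧ ∃ q ∈ Q, q * q = z

/-- The two possible conclusions. -/
def Good (Q : Subgroup X) : Prop :=
  ((Nat.card Q = 8 ∨ Nat.card Q = 16) ∧ ∀ q ∈ Q, q * q = 1) ∨ Good32 Q

theorem Good.card_le {Q : Subgroup X} (h : Good Q) : Nat.card Q ≤ 32 := by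
  rcases h with ⟨h | h, -⟩ | ⟨h, -⟩ <;> omega

/-- The subgroup generated by the squares of elements of `Q`. -/
def sqSub (Q : Subgroup X) : Subgroup X := Subgroup.closure {y | ∃ q ∈ Q, y = q * q}

theorem mul_self_mem_sqSub {Q : Subgroup X} {q : X} (hq : q ∈ Q) : q * q ∈ sqSub Q :=
  Subgroup.subset_closure ⟨q, hq, rfl⟩

theorem sqSub_le (Q : Subgroup X) : sqSub Q ≤ Q := by
  rw [sqSub, Subgroup.closure_le]
  rintro _ ⟨q, hq, rfl⟩
  exact mul_mem hq hq

theorem sqSub_normal {Q : Subgroup X} (hQ : Q.Normal) : (sqSub Q).Normal := by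
  constructor
  intro y hy g
  induction hy using Subgroup.closure_induction with
  | mem y hy =>
    obtain ⟨q, hq, rfl⟩ := hy
    rw [show g * (q * q) * g⁻¹ = g * q * g⁻¹ * (g * q * g⁻¹) by group]
    exact mul_self_mem_sqSub (hQ.conj_mem q hq g)
  | one => simp
  | mul a b _ _ ha hb =>
    rw [show g * (a * b) * g⁻¹ = g * a * g⁻¹ * (g * b * g⁻¹) by group]
    exact mul_mem ha hb
  | inv a _ ha =>
    rw [show g * a⁻¹ * g⁻¹ = (g * a * g⁻¹)⁻¹ by group]
    exact inv_mem ha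

theorem comm_mem_of_sq_mem {B A : Subgroup X} (hsq : ∀ b ∈ B, b * b ∈ A)
    (hn : ∀ x ∈ B, ∀ y ∈ A, x * y * x⁻¹ ∈ A) {a b : X} (ha : a ∈ B) (hb : b ∈ B) :
    a * b * a⁻¹ * b⁻¹ ∈ A := by
  have h3 : a * b * a⁻¹ * b⁻¹ =
      (a * b) * (a * b) * ((b⁻¹ * a⁻¹ * a⁻¹) * (a * a) * (b⁻¹ * a⁻¹ * a⁻¹)⁻¹)⁻¹ * (b * b)⁻¹ := by
    group
  rw [h3]
  exact mul_mem (mul_mem (hsq _ (mul_mem ha hb)) (inv_mem (hn _ (mul_mem (mul_mem (inv_mem hb)
    (inv_mem ha)) (inv_mem ha)) _ (hsq a ha)))) (inv_mem (hsq b hb))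

/-- In a finite `2`-subgroup, a subgroup containing all squares and generating with them is
everything: squares are non-generators. -/
theorem eq_of_sup_sqSub [Finite X] {Q H : Subgroup X} (hQ : IsPGroup 2 Q) (hHQ : H ≤ Q)
    (h : Q ≤ H ⊔ sqSub Q) : H = Q := by
  haveI : Fact (Nat.Prime 2) := ⟨Nat.prime_two⟩
  have hle : sqSub Q ≤ (frattini ↥Q).map Q.subtype := by
    rw [sqSub, Subgroup.closure_le]
    rintro _ ⟨q, hq, rfl⟩
    refine ⟨⟨q, hq⟩ * ⟨q, hq⟩, ?_, rfl⟩
    rw [SetLike.mem_coe, ← pow_two]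
    exact Cfsg.Agent.Lib.PFrattini.pow_mem_frattini hQ _
  have h' : Q ≤ H ⊔ (frattini ↥Q).map Q.subtype := h.trans (sup_le_sup_left hle H)
  have h2 : H.subgroupOf Q ⊔ frattini ↥Q = ⊤ := by
    apply Subgroup.map_injective Q.subtype_injective
    rw [Subgroup.map_sup, Subgroup.map_subgroupOf_eq_of_le hHQ, ← MonoidHom.range_eq_map,
      Subgroup.range_subtype]
    exact le_antisymm (sup_le hHQ (Subgroup.map_subtype_le _)) h'
  have h3 : H.subgroupOf Q = ⊤ := frattini_nongenerating h2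
  exact le_antisymm hHQ (Subgroup.subgroupOf_eq_top.mp h3)

namespace Hyp

variable [Finite X] {Q : Subgroup X}

theorem card_sq (h : Hyp Q) : Nat.card Q ≤ 16 * Nat.card (sqSub Q) :=
  h.rank Q (sqSub Q) (sqSub_le Q) (fun x _ y hy => (sqSub_normal h.normal).conj_mem y hy x)
    fun _ hx => mul_self_mem_sqSub hx

theorem ne_top (h : Hyp Q) : Q ≠ ⊤ := fun hQ => by
  have := h.index; rw [hQ, Subgroup.index_top] at this; omega

theorem index_cases (h : Hyp Q) {S : Subgroup X} (hS : Q ≤ S) : S = ⊤ ∨ 7 ≤ S.index := by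
  by_contra hcon
  push_neg at hcon
  obtain ⟨hne, hlt⟩ := hcon
  haveI := h.normal
  rcases h.simple _ S.normalCore_normal (Subgroup.normal_le_normalCore.mpr hS) with hc | hc
  · have h1 := Subgroup.index_ker (MulAction.toPermHom X (X ⧸ S))
    rw [← Subgroup.normalCore_eq_ker, hc, h.index] at h1
    have h2 : 168 ∣ Nat.card (Equiv.Perm (X ⧸ S)) := h1 ▸ Subgroup.card_subgroup_dvd_card _
    rw [Nat.card_perm, ← Subgroup.index] at h2
    revert h2
    generalize S.index = k at hlt ⊢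
    interval_cases k <;> decide
  · exact hne (eq_top_iff.mpr (hc ▸ S.normalCore_le))

/-- Classes in a quotient on which `Q` acts trivially have one or at least seven elements. -/
theorem class_cases (h : Hyp Q) {Y : Type*} [Group Y] (f : X →* Y) (y : Y)
    (hy : ∀ q ∈ Q, f q * y * (f q)⁻¹ = y) :
    (∀ x, f x * y * (f x)⁻¹ = y) ∨
      (7 ≤ {z : Y | ∃ x, f x * y * (f x)⁻¹ = z}.ncard ∧
        {z : Y | ∃ x, f x * y * (f x)⁻¹ = z}.ncard ∣ 168) := by
  letI : MulAction X Y := MulAction.compHom Y ((MulAut.conj : Y →* MulAut Y).comp f)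
  have hsmul : ∀ (x : X) (z : Y), x • z = f x * z * (f x)⁻¹ := fun x z => rfl
  have horb : MulAction.orbit X y = {z : Y | ∃ x, f x * y * (f x)⁻¹ = z} := by
    ext z; simp [MulAction.mem_orbit_iff, hsmul]
  have hle : Q ≤ MulAction.stabilizer X y := fun q hq => hy q hq
  have hidx := MulAction.index_stabilizer X y
  rw [horb] at hidx
  rcases h.index_cases hle with hS | hS
  · exact Or.inl fun x => (hS ▸ Subgroup.mem_top x : x ∈ MulAction.stabilizer X y)
  · exact Or.inr ⟨hidx ▸ hS, hidx ▸ h.index ▸ Subgroup.index_dvd_of_le hle⟩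

theorem exists_seven (h : Hyp Q) : ∃ x : X, x ∉ Q ∧ x ^ 7 = 1 := by
  haveI : Fact (Nat.Prime 7) := ⟨by norm_num⟩
  have h7 : 7 ∣ Nat.card X := by
    rw [← Q.card_mul_index, h.index]; exact dvd_mul_of_dvd_right (by norm_num) _
  obtain ⟨x, hx⟩ := exists_prime_orderOf_dvd_card' 7 h7
  refine ⟨x, fun hxQ => ?_, hx ▸ pow_orderOf_eq_one x⟩
  obtain ⟨k, hk⟩ := h.pgrp ⟨x, hxQ⟩
  have h2 : orderOf x ∣ 2 ^ k := orderOf_dvd_of_pow_eq_one (congrArg Subtype.val hk)
  rw [hx] at h2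
  have := (Nat.prime_dvd_prime_iff_eq (by norm_num) Nat.prime_two).mp
    ((Nat.Prime.prime (by norm_num : Nat.Prime 7)).dvd_of_dvd_pow h2)
  omega

/-- An element `x` with `x ^ 7 = 1` fixing a coset of the squares fixes an element of that
coset. -/
theorem exists_fixed_rep (h : Hyp Q) {x u : X} (hx : x ^ 7 = 1) (hu : u ∈ Q)
    (hfix : u⁻¹ * (x * u * x⁻¹) ∈ sqSub Q) :
    ∃ v ∈ Q, x * v * x⁻¹ = v ∧ u⁻¹ * v ∈ sqSub Q := by
  classical
  haveI : Fact (Nat.Prime 7) := ⟨by norm_num⟩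
  haveI : Fintype X := Fintype.ofFinite X
  have hn := sqSub_normal h.normal
  have hclosed : ∀ v : X, u⁻¹ * v ∈ sqSub Q → u⁻¹ * (x * v * x⁻¹) ∈ sqSub Q := by
    intro v hv
    rw [show u⁻¹ * (x * v * x⁻¹) = u⁻¹ * (x * u * x⁻¹) * (x * (u⁻¹ * v) * x⁻¹) by group]
    exact mul_mem hfix (hn.conj_mem _ hv x)
  have hclosed' : ∀ v : X, u⁻¹ * v ∈ sqSub Q ↔ u⁻¹ * (x * v * x⁻¹) ∈ sqSub Q := by
    intro v
    refine ⟨hclosed v, fun hv => ?_⟩
    have hit : ∀ n : ℕ, ∀ w : X, u⁻¹ * w ∈ sqSub Q → u⁻¹ * (x ^ n * w * (x ^ n)⁻¹) ∈ sqSub Q := by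
      intro n
      induction n with
      | zero => intro w hw; simpa using hw
      | succ n ih =>
        intro w hw
        rw [show x ^ (n + 1) * w * (x ^ (n + 1))⁻¹ = x * (x ^ n * w * (x ^ n)⁻¹) * x⁻¹ by
          rw [pow_succ', mul_inv_rev]; group]
        exact hclosed _ (ih w hw)
    have := hit 6 _ hv
    rwa [show x ^ 6 * (x * v * x⁻¹) * (x ^ 6)⁻¹ = x ^ 7 * v * (x ^ 7)⁻¹ by
      rw [pow_succ x 6, mul_inv_rev]; group, hx, one_mul, inv_one, mul_one] at this
  let σ : Equiv.Perm {v : X // u⁻¹ * v ∈ sqSub Q} :=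
    (MulAut.conj x).toEquiv.subtypeEquiv fun v => hclosed' v
  have hpow : ∀ (n : ℕ) (v : {v : X // u⁻¹ * v ∈ sqSub Q}),
      ((σ ^ n) v).1 = x ^ n * v.1 * (x ^ n)⁻¹ := by
    intro n
    induction n with
    | zero => intro v; simp
    | succ n ih =>
      intro v
      rw [pow_succ' σ, Equiv.Perm.mul_apply, pow_succ' x, mul_inv_rev]
      show x * ((σ ^ n) v).1 * x⁻¹ = _
      rw [ih]
      group
  have hσ : σ ^ 7 ^ 1 = 1 := by
    ext v
    rw [pow_one, hpow, hx]
    simp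
  have hcard : Fintype.card {v : X // u⁻¹ * v ∈ sqSub Q} = Nat.card (sqSub Q) := by
    rw [← Nat.card_eq_fintype_card]
    exact Nat.card_congr ((Equiv.mulLeft u⁻¹).subtypeEquiv fun v => Iff.rfl)
  have hdvd : ¬ 7 ∣ Fintype.card {v : X // u⁻¹ * v ∈ sqSub Q} := by
    haveI : Fact (Nat.Prime 2) := ⟨Nat.prime_two⟩
    obtain ⟨k, hk⟩ := (h.pgrp.to_le (sqSub_le Q)).exists_card_eq
    rw [hcard, hk]
    intro h7
    have := (Nat.prime_dvd_prime_iff_eq (by norm_num) Nat.prime_two).mp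
      ((Nat.Prime.prime (by norm_num : Nat.Prime 7)).dvd_of_dvd_pow h7)
    omega
  obtain ⟨⟨v, hv⟩, hfv⟩ := Equiv.Perm.exists_fixed_point_of_prime hdvd hσ
  have hfv' : x * v * x⁻¹ = v := congrArg (fun w : {v : X // u⁻¹ * v ∈ sqSub Q} => w.1) hfv
  refine ⟨v, ?_, hfv', hv⟩
  have := mul_mem hu (sqSub_le Q hv)
  rwa [mul_inv_cancel_left] at this

/-- An element of order seven cannot centralise a series of `Q` of length two. -/
theorem seven_not_series (h : Hyp Q) {x : X} (hxQ : x ∉ Q) (hx : x ^ 7 = 1) {A : Subgroup X}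
    (hA : A ≤ Q) (hcA : ∀ a ∈ A, x * a * x⁻¹ = a) (hQA : ∀ q ∈ Q, q⁻¹ * (x * q * x⁻¹) ∈ A) :
    False := by
  apply hxQ
  apply h.cen
  rw [Subgroup.mem_centralizer_iff]
  intro q hq
  set a := q⁻¹ * (x * q * x⁻¹) with ha
  have haA : a ∈ A := hQA q hq
  have hit : ∀ n : ℕ, x ^ n * q * (x ^ n)⁻¹ = q * a ^ n := by
    intro n
    induction n with
    | zero => simp
    | succ n ih =>
      rw [pow_succ' x, mul_inv_rev,
        show x * x ^ n * q * ((x ^ n)⁻¹ * x⁻¹) = x * (x ^ n * q * (x ^ n)⁻¹) * x⁻¹ by group, ih,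
        show x * (q * a ^ n) * x⁻¹ = (x * q * x⁻¹) * (x * a ^ n * x⁻¹) by group,
        hcA _ (pow_mem haA n), show x * q * x⁻¹ = q * a by rw [ha]; group, mul_assoc, ← pow_succ']
  have h7 := hit 7
  rw [hx, one_mul, inv_one, mul_one, eq_comm, mul_eq_left] at h7
  have hone : a = 1 := by
    obtain ⟨k, hk⟩ := h.pgrp ⟨a, hA haA⟩
    have hk' : a ^ 2 ^ k = 1 := congrArg Subtype.val hk
    have h1 : orderOf a ∣ 2 ^ k := orderOf_dvd_of_pow_eq_one hk'
    have h2 : orderOf a ∣ 7 := orderOf_dvd_of_pow_eq_one h7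
    exact orderOf_eq_one_iff.mp (Nat.eq_one_of_dvd_coprimes
      (Nat.Coprime.pow_left k (by norm_num : Nat.Coprime 2 7)) h1 h2)
  have := hit 1
  rw [pow_one, hone, one_pow, mul_one, mul_inv_eq_iff_eq_mul] at this
  exact this.symm

/-- `X` does not centralise a series of `Q` of length two. -/
theorem not_series (h : Hyp Q) {A : Subgroup X} (hA : A ≤ Q)
    (hcA : ∀ x : X, ∀ a ∈ A, x * a * x⁻¹ = a)
    (hQA : ∀ x : X, ∀ q ∈ Q, q⁻¹ * (x * q * x⁻¹) ∈ A) : False := by
  obtain ⟨x, hxQ, hx⟩ := h.exists_seven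
  exact h.seven_not_series hxQ hx hA (hcA x) (hQA x)

/-- The hypotheses pass to a quotient by a normal subgroup inside the subgroup of squares. -/
theorem quotient (h : Hyp Q) (R : Subgroup X) [R.Normal] (hR : R ≤ sqSub Q) :
    Hyp (Q.map (QuotientGroup.mk' R)) := by
  haveI := h.normal
  have hRQ : R ≤ Q := hR.trans (sqSub_le Q)
  set π := QuotientGroup.mk' R with hπ
  have hs : Function.Surjective π := QuotientGroup.mk'_surjective R
  have hker : π.ker = R := QuotientGroup.ker_mk' R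
  have hcm : (Q.map π).comap π = Q := by
    rw [Subgroup.comap_map_eq, hker, sup_eq_left.mpr hRQ]
  refine ⟨h.normal.map π hs, h.pgrp.map π, ?_, ?_, ?_, ?_⟩
  · intro y hy
    obtain ⟨x, rfl⟩ := hs y
    set C := (Subgroup.centralizer ((Q.map π : Subgroup (X ⧸ R)) : Set (X ⧸ R))).comap π with hC
    haveI : (Q.map π).Normal := h.normal.map π hs
    have hxC : x ∈ C ⊔ Q := Subgroup.mem_sup_left hy
    rcases h.simple (C ⊔ Q) inferInstance le_sup_right with hc | hc
    · exact Subgroup.mem_map_of_mem π (hc ▸ hxC)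
    · exfalso
      obtain ⟨w, hwQ, hw⟩ := h.exists_seven
      have hwmem : w ∈ C ⊔ Q := hc ▸ Subgroup.mem_top w
      rw [← SetLike.mem_coe, Subgroup.mul_normal] at hwmem
      obtain ⟨c, hcC, q, hq, rfl⟩ := hwmem
      -- `c * q` and `q⁻¹ * c`-conjugation agree with `c` modulo squares
      have hfix : ∀ u ∈ Q, u⁻¹ * (c * q * u * (c * q)⁻¹) ∈ sqSub Q := by
        intro u hu
        haveI := sqSub_normal h.normal
        have hu' : q * u * q⁻¹ ∈ Q := mul_mem (mul_mem hq hu) (inv_mem hq)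
        have hc1 : π c * π (q * u * q⁻¹) = π (q * u * q⁻¹) * π c :=
          ((Subgroup.mem_centralizer_iff.mp (Subgroup.mem_comap.mp hcC)) _
            (Subgroup.mem_map_of_mem π hu')).symm
        have h1 : (q * u * q⁻¹)⁻¹ * (c * (q * u * q⁻¹) * c⁻¹) ∈ sqSub Q := by
          refine hR ?_
          rw [← hker, MonoidHom.mem_ker]
          generalize q * u * q⁻¹ = t at hc1 ⊢
          rw [map_mul, map_mul, map_mul, map_inv, map_inv, hc1]
          group
        have h2 : u⁻¹ * (q * u * q⁻¹) ∈ sqSub Q := by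
          rw [show u⁻¹ * (q * u * q⁻¹) = u⁻¹ * q * u⁻¹⁻¹ * q⁻¹ by group]
          exact comm_mem_of_sq_mem (fun b hb => mul_self_mem_sqSub hb)
            (fun b _ a ha => (sqSub_normal h.normal).conj_mem a ha b) (inv_mem hu) hq
        rw [show u⁻¹ * (c * q * u * (c * q)⁻¹) =
          u⁻¹ * (q * u * q⁻¹) * ((q * u * q⁻¹)⁻¹ * (c * (q * u * q⁻¹) * c⁻¹)) by group]
        exact mul_mem h2 h1
      -- an element of order seven fixing the quotient by squares fixes a generating coset of `Q`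
      have hgen : ∀ u ∈ Q, ∃ v ∈ Q, c * q * v * (c * q)⁻¹ = v ∧ u⁻¹ * v ∈ sqSub Q :=
        fun u hu => exists_fixed_rep h hw hu (hfix u hu)
      set F := Q ⊓ Subgroup.centralizer ({c * q} : Set X) with hF
      have hFQ : F = Q := eq_of_sup_sqSub h.pgrp inf_le_left (fun u hu => by
        obtain ⟨v, hv, hvf, hvu⟩ := hgen u hu
        have : u = v * (u⁻¹ * v)⁻¹ := by group
        rw [this]
        refine mul_mem (Subgroup.mem_sup_left (Subgroup.mem_inf.mpr ⟨hv, ?_⟩))
          (Subgroup.mem_sup_right (inv_mem hvu))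
        rw [Subgroup.mem_centralizer_singleton_iff]
        exact (mul_inv_eq_iff_eq_mul.mp hvf).symm)
      refine h.seven_not_series hwQ hw (A := ⊥) bot_le (fun a ha => ?_) fun u hu => ?_
      · rw [Subgroup.mem_bot] at ha; subst ha; group
      · rw [← hFQ] at hu
        rw [Subgroup.mem_bot, show c * q * u * (c * q)⁻¹ = u by
          rw [← Subgroup.mem_centralizer_singleton_iff.mp (Subgroup.mem_inf.mp hu).2,
            mul_inv_cancel_right]]
        group
  · rw [← Subgroup.index_comap_of_surjective _ hs, hcm]; exact h.index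
  · intro N hN hQN
    haveI := hN
    have h1 : Q ≤ N.comap π := by
      rw [← hcm]; exact Subgroup.comap_mono hQN
    rcases h.simple _ (hN.comap π) h1 with hc | hc
    · left; rw [← Subgroup.map_comap_eq_self_of_surjective hs N, hc]
    · right; rw [← Subgroup.map_comap_eq_self_of_surjective hs N, hc,
        Subgroup.map_top_of_surjective π hs]
  · intro P D hDP hn hsq
    have hk : ∀ S : Subgroup (X ⧸ R), Nat.card ↥(S.comap π) = Nat.card R * Nat.card ↥S := by
      intro S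
      have h1 := Subgroup.index_comap_of_surjective S hs
      have h2 := (S.comap π).card_mul_index
      have h3 := S.card_mul_index
      have h4 : Nat.card X = Nat.card R * Nat.card (X ⧸ R) := by
        rw [Subgroup.card_eq_card_quotient_mul_card_subgroup R, mul_comm]
      rw [h1, h4, ← h3, ← mul_assoc] at h2
      exact Nat.eq_of_mul_eq_mul_right (Nat.pos_of_ne_zero S.index_ne_zero_of_finite) h2
    have := h.rank (P.comap π) (D.comap π) (Subgroup.comap_mono hDP)
      (fun x hx y hy => by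
        simp only [Subgroup.mem_comap, map_mul, map_inv]; exact hn _ hx _ hy)
      (fun x hx => by simp only [Subgroup.mem_comap, map_mul]; exact hsq _ hx)
    rw [hk, hk, ← mul_assoc, mul_comm 16, mul_assoc] at this
    exact Nat.le_of_mul_le_mul_left this Nat.card_pos

end Hyp

end Cfsg.Agent.Lib.L32Core58
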