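import Cfsg.Agent.Lib.L32Core58.Common

/-!
The case of a fixed subgroup `R` of order two containing all squares of `Q`.
-/

set_option autoImplicit false

namespace Cfsg.Agent.Lib.L32Core58

open Matrix

variable {X : Type*} [Group X] [Finite X]

/-- The commutator with an element fixed modulo a commuting subgroup is trivial. -/
theorem comm_trivial {Q A B R : Subgroup X} (C : Chart Q A B) {c : X}
    (hRB : ∀ r ∈ R, ∀ b ∈ B, r * b = b * r) (hRfix : ∀ x : X, ∀ r ∈ R, x * r * x⁻¹ = r)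
    (hcB : ∀ b ∈ B, c * b * c⁻¹ * b⁻¹ ∈ R) (hA : ∀ a ∈ A, c * a = a * c)
    (hc : ∀ x : X, ∃ g, (∀ b ∈ B, g * b = b * g) ∧ x⁻¹ * c * x = c * g) :
    ∀ b ∈ B, c * b = b * c := by
  have key := C.invariant_trivial (fun b => c * b * c⁻¹ * b⁻¹)
    (fun a ha b hb => comm_mul_right (hRB _ (hcB b hb) a ha).symm)
    (fun a ha => by rw [hA a ha]; group) (fun x b hb => by
      obtain ⟨g, hg, hcg⟩ := hc x
      calc c * (x * b * x⁻¹) * c⁻¹ * (x * b * x⁻¹)⁻¹
          = x * ((x⁻¹ * c * x) * b * (x⁻¹ * c * x)⁻¹ * b⁻¹) * x⁻¹ := by group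
        _ = x * (c * (g * b) * g⁻¹ * c⁻¹ * b⁻¹) * x⁻¹ := by rw [hcg]; group
        _ = x * (c * b * c⁻¹ * b⁻¹) * x⁻¹ := by rw [hg b hb]; group
        _ = c * b * c⁻¹ * b⁻¹ := hRfix x _ (hcB b hb))
  intro b hb
  exact mul_inv_eq_iff_eq_mul.mp (mul_inv_eq_one.mp (key b hb))

theorem case_one {Q : Subgroup X} (h : Hyp Q) (R : Subgroup X) [R.Normal] (hcR : Nat.card R = 2)
    (hfix : ∀ x : X, ∀ r ∈ R, x * r * x⁻¹ = r) (hgen : R ≤ sqSub Q)
    (hsq : ∀ q ∈ Q, q * q ∈ R)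
    (hcQ : Nat.card Q = 8 * Nat.card R ∨ Nat.card Q = 16 * Nat.card R) : Good32 Q := by
  obtain ⟨r, hr, hr1, hR⟩ : ∃ r ∈ R, r ≠ 1 ∧ ∀ z ∈ R, z = 1 ∨ z = r := by
    obtain ⟨⟨u, hu⟩, hu', huu⟩ := (Nat.card_eq_two_iff' (1 : R)).mp hcR
    refine ⟨u, hu, fun h1 => hu' (Subtype.ext h1), fun z hz => ?_⟩
    by_cases hz1 : z = 1
    · exact Or.inl hz1
    · exact Or.inr (congrArg Subtype.val (huu ⟨z, hz⟩ fun h1 => hz1 (congrArg Subtype.val h1)))
  have hr2 : r * r = 1 := by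
    rcases hR _ (mul_mem hr hr) with h1 | h1
    · exact h1
    · exact absurd (mul_eq_left.mp h1) hr1
  have hR2 : ∀ z ∈ R, z * z = 1 := fun z hz => by
    rcases hR z hz with rfl | rfl
    · exact one_mul 1
    · exact hr2
  have hRX : ∀ z ∈ R, ∀ x : X, z * x = x * z := fun z hz x =>
    (mul_inv_eq_iff_eq_mul.mp (hfix x z hz)).symm
  have hRc : ∀ z ∈ R, ∀ q ∈ Q, z * q = q * z := fun z hz q _ => hRX z hz q
  have hRQ : R ≤ Q := hgen.trans (sqSub_le Q)
  have hcomm := comm_mem' hsq hRc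
  have hcomm2 : ∀ a ∈ Q, ∀ b ∈ Q, a * b * a⁻¹ * b⁻¹ = 1 ∨ a * b * a⁻¹ * b⁻¹ = r := fun a ha b hb =>
    hR _ (hcomm a ha b hb)
  have hsqinv : ∀ x : X, ∀ b ∈ Q, x * b * x⁻¹ * (x * b * x⁻¹) = b * b := fun x b hb => by
    rw [show x * b * x⁻¹ * (x * b * x⁻¹) = x * (b * b) * x⁻¹ by group, hfix x _ (hsq b hb)]
  have hnot : ¬ ∀ q ∈ Q, q * q = 1 := by
    intro hall
    refine hr1 (Subgroup.mem_bot.mp ?_)
    refine ((Subgroup.closure_le ⊥).mpr ?_) (hgen hr)
    rintro _ ⟨q, hq, rfl⟩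
    exact Subgroup.mem_bot.mpr (hall q hq)
  have hQR : ∀ q ∈ Q, ∀ b ∈ Q, q * b * q⁻¹ * b⁻¹ ∈ R := hcomm
  have hne := exists_seven_moves h hR2 hRc hgen
  rcases hcQ with hc8 | hc16
  · exfalso
    obtain ⟨x, -, q, hq, hxq⟩ := hne
    obtain ⟨C⟩ := exists_chart h inferInstance h.normal hRQ hc8 hsq hQR ⟨x, q, hq, hxq⟩
    have hab := C.commutative_of_comm (fun x => hfix x r hr) (fun a ha b hb => hRc a ha b hb) hcomm2
    exact hnot (C.invariant_trivial (fun b => b * b)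
      (fun a ha b hb => by rw [show a * b * (a * b) = a * (b * a) * b by group, ← hab a ha b hb]; group)
      hR2 hsqinv)
  rcases section16 h h.normal hRQ hc16 hsq hQR hne with
    ⟨H, hHn, hRH, hHQ, hcH, ⟨C⟩⟩ | ⟨f, hf, hfR, hffix, F, ⟨C⟩, hF, hswap⟩
  · have hab := C.commutative_of_comm (fun x => hfix x r hr) (fun a ha b hb => hRX a ha b)
      (fun a ha b hb => hcomm2 a (hHQ ha) b (hHQ hb))
    have hcQ2 : Nat.card Q = 2 * Nat.card H := by rw [hc16, hcH]; ring
    obtain ⟨c, hc, hcH'⟩ : ∃ c ∈ Q, c ∉ H := by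
      by_contra hcon
      push_neg at hcon
      have := Subgroup.card_le_of_le hcon
      have : 0 < Nat.card R := Nat.card_pos
      omega
    have hcH2 : ∀ b ∈ H, c * b = b * c := by
      refine comm_trivial (R := R) C (fun z hz b _ => hRX z hz b) hfix (fun b hb => hcomm c hc b (hHQ hb))
        (fun a ha => (hRX a ha c).symm) fun x => ?_
      refine ⟨c⁻¹ * (x⁻¹ * c * x), fun b hb => hab _ ?_ b hb, by rw [mul_inv_cancel_left]⟩
      have hmem : x⁻¹ * c * x ∈ Q := by simpa using h.normal.conj_mem c hc x⁻¹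
      refine (two_cosets hHQ hcQ2 hc hcH' hmem).resolve_left fun h' => hcH' ?_
      have := hHn.conj_mem _ h' x
      rwa [show x * (x⁻¹ * c * x) * x⁻¹ = c by group] at this
    have habQ : ∀ a ∈ Q, ∀ b ∈ Q, a * b = b * a := by
      have hdec : ∀ q ∈ Q, ∃ u ∈ H, q = u ∨ q = c * u := fun q hq => by
        rcases two_cosets hHQ hcQ2 hc hcH' hq with h1 | h1
        · exact ⟨q, h1, Or.inl rfl⟩
        · exact ⟨_, h1, Or.inr (mul_inv_cancel_left c q).symm⟩
      intro a ha b hb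
      obtain ⟨u, hu, ha'⟩ := hdec a ha
      obtain ⟨v, hv, hb'⟩ := hdec b hb
      have huv : Commute u v := hab u hu v hv
      have hcu : Commute c u := hcH2 u hu
      have hcv : Commute c v := hcH2 v hv
      rcases ha' with rfl | rfl <;> rcases hb' with rfl | rfl
      · exact huv
      · exact (hcu.symm.mul_right huv).eq
      · exact (hcv.mul_left huv).eq
      · exact (((Commute.refl c).mul_right hcv).mul_left (hcu.symm.mul_right huv)).eq
    refine ⟨by rw [hc16, hcR], habQ, r, hRQ hr, hr1, hr2, fun q hq => hR _ (hsq q hq), ?_⟩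
    by_contra hcon
    push_neg at hcon
    exact hnot fun q hq => (hR _ (hsq q hq)).resolve_right (hcon q hq)
  · exfalso
    have hRF : ∀ a ∈ F, a ∈ Q := fun a ha => C.le ha
    have hfQ : ∀ b ∈ Q, f * b = b * f := by
      refine comm_trivial (R := R) C hRc hfix (fun b hb => hcomm f hf b hb) (fun a ha => ?_) fun x => ?_
      · rcases (hF a).mp ha with h1 | h1
        · exact (hRX a h1 f).symm
        · calc f * a = f * (f * (f⁻¹ * a)) := by rw [mul_inv_cancel_left]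
            _ = f * ((f⁻¹ * a) * f) := by rw [hRX _ h1 f]
            _ = a * f := by group
      · refine ⟨f⁻¹ * (x⁻¹ * f * x), fun b _ => hRX _ ?_ b, by rw [mul_inv_cancel_left]⟩
        rw [show f⁻¹ * (x⁻¹ * f * x) = f⁻¹ * (x⁻¹ * f * x⁻¹⁻¹ * f⁻¹) * f⁻¹⁻¹ by group]
        exact Subgroup.Normal.conj_mem inferInstance _ (hffix x⁻¹) _
    have hAB : ∀ a ∈ F, ∀ b ∈ Q, a * b = b * a := by
      intro a ha b hb
      rcases (hF a).mp ha with h1 | h1
      · exact hRX a h1 b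
      · rw [← mul_inv_cancel_left f a]
        exact (Commute.mul_left (hfQ b hb) (hRX _ h1 b)).eq
    have hab := C.commutative_of_comm (fun x => hfix x r hr) hAB hcomm2
    have hf2 : f * f = 1 := by
      obtain ⟨b, hb, hbκ⟩ := C.onto b1
      have hbF : b ∉ F := fun h' => b_ne.1 (hbκ ▸ (C.zero b hb).mpr h')
      have hfF : f ∈ F := (hF f).mpr (Or.inr (by rw [inv_mul_cancel]; exact one_mem R))
      have hbfF : b * f ∉ F := fun h' => hbF (by
        rw [show b = b * f * f⁻¹ by group]; exact mul_mem h' (inv_mem hfF))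
      obtain ⟨x, hx⟩ := hswap (b * f) (mul_mem hb hf) b hb hbfF hbF
      have h1 := sq_eq_of_congr hR2 (fun z hz => hRX z hz b) hx
      rw [hsqinv x _ (mul_mem hb hf), show b * f * (b * f) = b * (f * b) * f by group, hfQ b hb,
        show b * (b * f) * f = b * b * (f * f) by group] at h1
      exact mul_eq_left.mp h1
    refine hnot (C.invariant_trivial (fun b => b * b) (fun a ha b hb => by
      rw [show a * b * (a * b) = a * (b * a) * b by group, ← hab a ha b hb]; group)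
      (fun a ha => ?_) hsqinv)
    rcases (hF a).mp ha with h1 | h1
    · exact hR2 a h1
    · show a * a = 1
      rw [show a * a = f * ((f⁻¹ * a) * f) * (f⁻¹ * a) by group, hRX _ h1 f,
        show f * (f * (f⁻¹ * a)) * (f⁻¹ * a) = f * f * ((f⁻¹ * a) * (f⁻¹ * a)) by group, hf2, hR2 _ h1, one_mul]

end Cfsg.Agent.Lib.L32Core58
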