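import Cfsg.Agent.Lib.L32Core58.CaseTwo
import Cfsg.Agent.Lib.L32Core58.CaseOne

/-!
The case in which the quotient of `Q` by the minimal subgroup `R` is `ℤ/4 × (ℤ/2)³`: it does not
occur.
-/

set_option autoImplicit false

namespace Cfsg.Agent.Lib.L32Core58

open Matrix

universe u

variable {X : Type u} [Group X] [Finite X]

/-- With `R` of order eight: the cyclic part would give a too large subgroup of index two. -/
theorem case_three_eight {Q : Subgroup X} (h : Hyp Q) (IH : Below.{u} (Nat.card X)) (R : Subgroup X)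
    [R.Normal] (hcR : Nat.card R = 8) (hR2 : ∀ r ∈ R, r * r = 1)
    (hRc : ∀ r ∈ R, ∀ q ∈ Q, r * q = q * r) (hfree : ∀ r ∈ R, r ≠ 1 → ∃ x : X, x * r * x⁻¹ ≠ r)
    {z : X} (hzQ : z ∈ Q) (hzR : z ∉ R) (hzz : z * z ∈ R) (hzc : ∀ q ∈ Q, z * q = q * z)
    (hzfix : ∀ x : X, x * z * x⁻¹ * z⁻¹ ∈ R) (H : Subgroup X) (hHn : H.Normal) (hHQ : H ≤ Q)
    (hmem : ∀ q ∈ Q, q ∉ H → q * q ∈ pairSub R z hzz ∧ q * q ∉ R)
    (hcH : Nat.card H = 128) (hcQ : Nat.card Q = 256) (hRQ : R ≤ Q) : False := by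
  have hz2 : z * z = 1 := by
    by_contra hne
    obtain ⟨x, hx⟩ := hfree _ hzz hne
    apply hx
    rw [show x * (z * z) * x⁻¹ = x * z * x⁻¹ * (x * z * x⁻¹) by group]
    exact sq_eq_of_congr hR2 (fun r hr => hRc r hr z hzQ) (hzfix x)
  set Φ := pairSub R z hzz with hΦ
  have hΦn : Φ.Normal := pairSub_normal hzfix
  have hΦc : ∀ a ∈ Φ, ∀ q ∈ Q, a * q = q * a := by
    intro a ha q hq
    rcases mem_pairSub.mp ha with h1 | h1
    · exact hRc a h1 q hq
    · rw [← mul_inv_cancel_left z a]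
      exact (Commute.mul_left (hzc q hq) (hRc _ h1 q hq)).eq
  have hΦQ : ∀ a ∈ Φ, a ∈ Q := by
    intro a ha
    rcases mem_pairSub.mp ha with h1 | h1
    · exact hRQ h1
    · rw [← mul_inv_cancel_left z a]; exact mul_mem hzQ (hRQ h1)
  have hΦ2 : ∀ a ∈ Φ, a * a = 1 := by
    intro a ha
    rcases mem_pairSub.mp ha with h1 | h1
    · exact hR2 a h1
    · calc a * a = z * ((z⁻¹ * a) * z) * (z⁻¹ * a) := by group
        _ = z * z * ((z⁻¹ * a) * (z⁻¹ * a)) := by rw [hRc _ h1 z hzQ]; group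
        _ = 1 := by rw [hz2, hR2 _ h1, one_mul]
  have hnofix : ∀ k ∈ Φ, k ∉ R → ∀ g : X, g ∉ Q → g * g ∈ Q → g * k * g⁻¹ ≠ k := by
    intro k hk hkR g hgQ hg2 hgk
    obtain ⟨k', hk', hk'R, hk'fix⟩ := fixed_outside (A := (⊥ : Subgroup X)) h (H := R) inferInstance
      hΦn bot_le (fun r hr => Or.inl hr) (by rw [Subgroup.card_bot, hcR])
      (by rw [Subgroup.card_bot, hΦ, card_pairSub hzR, hcR])
      (fun q hq a ha => by
        rw [Subgroup.mem_bot, ← hΦc a ha q hq, mul_inv_cancel_right, mul_inv_cancel])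
      hgQ hg2 hk hkR (by rw [Subgroup.mem_bot, hgk, mul_inv_cancel])
    have h1 := involution_bound h IH (hΦQ k' hk') (fun h1 => hk'R (h1 ▸ R.one_mem)) (hΦ2 k' hk') fun x =>
      mul_inv_eq_one.mp (Subgroup.mem_bot.mp (hk'fix x))
    omega
  obtain ⟨r, hr, hr1⟩ : ∃ r ∈ R, r ≠ 1 := by
    by_contra hcon
    push_neg at hcon
    have h1 := Subgroup.card_le_of_le (show R ≤ ⊥ from fun a ha => Subgroup.mem_bot.mpr (hcon a ha))
    rw [hcR, Subgroup.card_bot] at h1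
    omega
  obtain ⟨x, hx⟩ := hfree r hr hr1
  obtain ⟨C⟩ := exists_chart h (A := (⊥ : Subgroup X)) inferInstance (inferInstance : R.Normal) bot_le
    (by rw [hcR, Subgroup.card_bot]) (fun a ha => Subgroup.mem_bot.mpr (hR2 a ha))
    (fun q hq a ha => by
      rw [Subgroup.mem_bot, ← hRc a ha q hq, mul_inv_cancel_right, mul_inv_cancel])
    ⟨x, r, hr, fun h1 => hx (mul_inv_eq_one.mp (Subgroup.mem_bot.mp h1))⟩
  obtain ⟨c, -, -, heQ, he2⟩ := C.root_element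
  set e := c * c with he
  by_cases hyH : e * e ∈ H
  · haveI := hHn
    have := half_bound h C IH H hHQ (by omega) ⟨e, heQ, hyH⟩
    omega
  obtain ⟨h1, h2⟩ := hmem _ he2 hyH
  exact hnofix _ h1 h2 e heQ he2 (by group)

/-- With `R` of order two. -/
theorem case_three_two {Q : Subgroup X} (h : Hyp Q) (R : Subgroup X) [R.Normal] (hcR : Nat.card R = 2)
    (hfix : ∀ x : X, ∀ r ∈ R, x * r * x⁻¹ = r) (hgen : R ≤ sqSub Q)
    (hcommR : ∀ a ∈ Q, ∀ b ∈ Q, a * b * a⁻¹ * b⁻¹ ∈ R)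
    {z c : X} (hc : c ∈ Q) (hcz : c * c = z) (hzR : z ∉ R) (hzz : z * z ∈ R)
    (hzfix : ∀ x : X, x * z * x⁻¹ * z⁻¹ ∈ R) (hzc : ∀ q ∈ Q, z * q = q * z)
    (hsq : ∀ q ∈ Q, q * q ∈ R ∨ z⁻¹ * (q * q) ∈ R) (H : Subgroup X) (hHn : H.Normal)
    (hH : ∀ q, q ∈ H ↔ q ∈ Q ∧ q * q ∈ R) (hcosets : ∀ q ∈ Q, q ∈ H ∨ c⁻¹ * q ∈ H)
    (hcH : Nat.card H = 32) (hcQ : Nat.card Q = 64) : False := by
  classical
  haveI := hHn
  obtain ⟨r, hr, hr1, hR⟩ : ∃ r ∈ R, r ≠ 1 ∧ ∀ w ∈ R, w = 1 ∨ w = r := by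
    obtain ⟨⟨u, hu⟩, hu', huu⟩ := (Nat.card_eq_two_iff' (1 : R)).mp hcR
    refine ⟨u, hu, fun h1 => hu' (Subtype.ext h1), fun w hw => ?_⟩
    by_cases hw1 : w = 1
    · exact Or.inl hw1
    · exact Or.inr (congrArg Subtype.val (huu ⟨w, hw⟩ fun h1 => hw1 (congrArg Subtype.val h1)))
  have hr2 : r * r = 1 := by
    rcases hR _ (mul_mem hr hr) with h1 | h1
    · exact h1
    · exact absurd (mul_eq_left.mp h1) hr1
  have hR2 : ∀ w ∈ R, w * w = 1 := fun w hw => by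
    rcases hR w hw with rfl | rfl
    · exact one_mul 1
    · exact hr2
  have hRX : ∀ w ∈ R, ∀ x : X, w * x = x * w := fun w hw x =>
    (mul_inv_eq_iff_eq_mul.mp (hfix x w hw)).symm
  have hRQ : R ≤ Q := hgen.trans (sqSub_le Q)
  have hHQ : H ≤ Q := fun q hq => ((hH q).mp hq).1
  have hRH : R ≤ H := fun w hw => (hH w).mpr ⟨hRQ hw, by rw [hR2 w hw]; exact R.one_mem⟩
  have hzQ : z ∈ Q := hcz ▸ mul_mem hc hc
  have hzH : z ∈ H := (hH z).mpr ⟨hzQ, hzz⟩
  have hcH' : c ∉ H := fun h' => hzR (hcz ▸ ((hH c).mp h').2)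
  have hcQ2 : Nat.card Q = 2 * Nat.card H := by omega
  set Φ := pairSub R z hzz with hΦdef
  have hΦn : Φ.Normal := pairSub_normal hzfix
  have hΦH : Φ ≤ H := by
    intro a ha
    rcases mem_pairSub.mp ha with h1 | h1
    · exact hRH h1
    · rw [← mul_inv_cancel_left z a]; exact mul_mem hzH (hRH h1)
  have hcΦ : Nat.card Φ = 4 := by rw [hΦdef, card_pairSub hzR, hcR]
  have hΦc : ∀ a ∈ Φ, ∀ q ∈ Q, a * q = q * a := by
    intro a ha q hq
    rcases mem_pairSub.mp ha with h1 | h1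
    · exact hRX a h1 q
    · rw [← mul_inv_cancel_left z a]
      exact (Commute.mul_left (hzc q hq) (hRX _ h1 q)).eq
  have hΦR : ∀ x : X, ∀ a ∈ Φ, x * a * x⁻¹ * a⁻¹ ∈ R := by
    intro x a ha
    rcases mem_pairSub.mp ha with h1 | h1
    · rw [hfix x a h1, mul_inv_cancel]; exact R.one_mem
    · rw [show x * a * x⁻¹ * a⁻¹ = x * z * x⁻¹ * (x * (z⁻¹ * a) * x⁻¹) * (z⁻¹ * a)⁻¹ * z⁻¹ by group,
        hfix x _ h1, mul_inv_cancel_right]
      exact hzfix x
  have hne : ∃ x : X, ∃ b ∈ H, x * b * x⁻¹ * b⁻¹ ∉ Φ := by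
    by_contra hcon
    push_neg at hcon
    obtain ⟨x, hxQ, hx⟩ := h.exists_seven
    have h1 : ∀ b ∈ H, x * b * x⁻¹ * b⁻¹ ∈ R := fun b hb =>
      seven_lift h.pgrp (A := R) (hΦH.trans hHQ) hx (hΦR x) (hcon x b hb)
    have h2 : ∀ b ∈ H, x * b * x⁻¹ * b⁻¹ ∈ (⊥ : Subgroup X) := fun b hb =>
      seven_lift h.pgrp (A := (⊥ : Subgroup X)) hRQ hx
        (fun g hg => by rw [Subgroup.mem_bot, hfix x g hg, mul_inv_cancel]) (h1 b hb)
    refine h.seven_not_series hxQ hx (A := ⊥) bot_le (fun a ha => ?_) fun q hq => ?_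
    · rw [Subgroup.mem_bot] at ha; subst ha; group
    have hxq : x * q * x⁻¹ ∈ Q := h.normal.conj_mem q hq x
    have h3 : x * q * x⁻¹ * q⁻¹ ∈ H := by
      by_cases hqH : q ∈ H
      · exact mul_mem (hHn.conj_mem q hqH x) (inv_mem hqH)
      · have hxqH : x * q * x⁻¹ ∉ H := fun h' => hqH (by
          have := hHn.conj_mem _ h' x⁻¹
          rwa [show x⁻¹ * (x * q * x⁻¹) * x⁻¹⁻¹ = q by group] at this)
        rcases two_cosets hHQ hcQ2 hxq hxqH hq with h4 | h4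
        · exact absurd h4 hqH
        · have h5 := hHn.conj_mem _ (inv_mem h4) q
          rwa [show q * ((x * q * x⁻¹)⁻¹ * q)⁻¹ * q⁻¹ = (x * q * x⁻¹ * q⁻¹) by group] at h5
    have h4 := seven_lift h.pgrp (A := (⊥ : Subgroup X)) hHQ hx h2 h3
    rw [Subgroup.mem_bot, mul_inv_eq_one] at h4
    rw [Subgroup.mem_bot, h4, inv_mul_cancel]
  obtain ⟨C⟩ := exists_chart h hΦn hHn hΦH (by rw [hcH, hcΦ]) (fun b hb => Or.inl ((hH b).mp hb).2)
    (fun q hq b hb => Or.inl (hcommR q hq b (hHQ hb))) hne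
  have hab := C.commutative_of_comm (fun x => hfix x r hr) (fun a ha b hb => hΦc a ha b (hHQ hb))
    (fun a ha b hb => hR _ (hcommR a (hHQ ha) b (hHQ hb)))
  have hcb : ∀ b ∈ H, c * b = b * c := by
    refine comm_trivial (R := R) C (fun w hw b _ => hRX w hw b) hfix
      (fun b hb => hcommR c hc b (hHQ hb)) (fun a ha => (hΦc a ha c hc).symm) fun x => ?_
    refine ⟨c⁻¹ * (x⁻¹ * c * x), fun b hb => hab _ ?_ b hb, by rw [mul_inv_cancel_left]⟩
    have hm : x⁻¹ * c * x ∈ Q := by simpa using h.normal.conj_mem c hc x⁻¹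
    refine (hcosets _ hm).resolve_left fun h' => hcH' ?_
    have := hHn.conj_mem _ h' x
    rwa [show x * (x⁻¹ * c * x) * x⁻¹ = c by group] at this
  -- the square of `z`
  have hzz' : z * z = r := by
    refine (hR _ hzz).resolve_left fun hz2 => hzR ?_
    have hH1 : ∀ b ∈ H, b * b = 1 := by
      refine C.invariant_trivial (fun b => b * b) (fun a ha b hb => ?_) (fun a ha => ?_) fun x b hb => ?_
      · rw [show a * b * (a * b) = a * (b * a) * b by group, ← hab a ha b hb]; group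
      · rcases mem_pairSub.mp ha with h1 | h1
        · exact hR2 a h1
        · calc a * a = z * ((z⁻¹ * a) * z) * (z⁻¹ * a) := by group
            _ = z * z * ((z⁻¹ * a) * (z⁻¹ * a)) := by rw [hRX _ h1 z]; group
            _ = 1 := by rw [hz2, hR2 _ h1, one_mul]
      · rw [show x * b * x⁻¹ * (x * b * x⁻¹) = x * (b * b) * x⁻¹ by group,
          hfix x _ ((hH b).mp hb).2]
    have hZ : sqSub Q ≤ Subgroup.zpowers z := by
      rw [sqSub, Subgroup.closure_le]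
      rintro _ ⟨q, hq, rfl⟩
      rcases hcosets q hq with h1 | h1
      · rw [hH1 q h1]; exact one_mem _
      · have h2 : q * q = z * ((c⁻¹ * q) * (c⁻¹ * q)) := by
          calc q * q = c * ((c⁻¹ * q) * c) * (c⁻¹ * q) := by group
            _ = c * c * ((c⁻¹ * q) * (c⁻¹ * q)) := by rw [← hcb _ h1]; group
            _ = _ := by rw [hcz]
        rw [h2, hH1 _ h1, mul_one]
        exact Subgroup.mem_zpowers z
    obtain ⟨n, hn⟩ := Subgroup.mem_zpowers_iff.mp (hZ (hgen hr))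
    rcases Int.even_or_odd n with ⟨k, rfl⟩ | ⟨k, rfl⟩
    · exact absurd (hn.symm.trans (by rw [← two_mul, _root_.zpow_mul, zpow_two, hz2, _root_.one_zpow])) hr1
    · rw [_root_.zpow_add, _root_.zpow_mul, zpow_two, hz2, _root_.one_zpow, one_mul, zpow_one] at hn
      rw [hn]; exact hr
  -- `z` is fixed
  have hzX : ∀ x : X, x * z * x⁻¹ = z := by
    rcases h.class_cases (MonoidHom.id X) z (fun q hq => by
      show q * z * q⁻¹ = z
      rw [← hzc q hq, mul_inv_cancel_right]) with h1 | ⟨h7, -⟩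
    · exact h1
    · exfalso
      have hsub : {w : X | ∃ x, (MonoidHom.id X) x * z * ((MonoidHom.id X) x)⁻¹ = w} ⊆
          ({z, r * z} : Set X) := by
        rintro w ⟨x, rfl⟩
        rcases hR _ (hzfix x) with h1 | h1
        · exact Or.inl (mul_inv_eq_one.mp h1)
        · exact Or.inr (eq_mul_of_mul_inv_eq h1)
      have h2 := Set.ncard_le_ncard hsub
      have h3 : ({z, r * z} : Set X).ncard ≤ 2 :=
        (Set.ncard_insert_le _ _).trans (by rw [Set.ncard_singleton])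
      omega
  -- the involutions of `H`
  have hHsq : ∀ b ∈ H, b * b = 1 ∨ b * b = r := fun b hb => hR _ ((hH b).mp hb).2
  let Ω : Subgroup X :=
    { carrier := {b | b ∈ H ∧ b * b = 1}
      one_mem' := ⟨H.one_mem, one_mul 1⟩
      mul_mem' := by
        rintro a b ⟨ha, ha2⟩ ⟨hb, hb2⟩
        refine ⟨mul_mem ha hb, ?_⟩
        calc a * b * (a * b) = a * (b * a) * b := by group
          _ = a * a * (b * b) := by rw [← hab a ha b hb]; group
          _ = 1 := by rw [ha2, hb2, mul_one]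
      inv_mem' := by
        rintro a ⟨ha, ha2⟩
        exact ⟨inv_mem ha, by rw [← _root_.mul_inv_rev, ha2, inv_one]⟩ }
  have hΩmem : ∀ b, b ∈ Ω ↔ b ∈ H ∧ b * b = 1 := fun b => Iff.rfl
  haveI hΩn : Ω.Normal := ⟨fun b hb x => (hΩmem _).mpr ⟨hHn.conj_mem b hb.1 x, by
    rw [show x * b * x⁻¹ * (x * b * x⁻¹) = x * (b * b) * x⁻¹ by group, hb.2, mul_one, mul_inv_cancel]⟩⟩
  have hzΩ : z ∉ Ω := fun h' => hr1 (hzz'.symm.trans h'.2)
  have hΩH : ∀ b ∈ H, b ∈ Ω ∨ z⁻¹ * b ∈ Ω := by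
    intro b hb
    rcases hHsq b hb with h1 | h1
    · exact Or.inl ⟨hb, h1⟩
    · refine Or.inr ⟨mul_mem (inv_mem hzH) hb, ?_⟩
      calc z⁻¹ * b * (z⁻¹ * b) = z⁻¹ * (b * z⁻¹) * b := by group
        _ = (z * z)⁻¹ * (b * b) := by rw [← hab _ (inv_mem hzH) b hb]; group
        _ = 1 := by rw [hzz', h1, inv_mul_cancel]
  have hΩR : R ≤ Ω := fun w hw => ⟨hRH hw, hR2 w hw⟩
  -- `Q` is central modulo `Ω`
  set π := QuotientGroup.mk' Ω with hπdef
  have hπ1 : ∀ y, π y = 1 ↔ y ∈ Ω := fun y => QuotientGroup.eq_one_iff y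
  have hπeq : ∀ a b : X, π a = π b ↔ a⁻¹ * b ∈ Ω := fun a b => QuotientGroup.eq
  have hcen : ∀ q ∈ Q, ∀ x : X, π q * π x = π x * π q := by
    have hz' : ∀ x : X, π z * π x = π x * π z := fun x => by
      rw [← map_mul, ← map_mul, ← mul_inv_eq_iff_eq_mul.mp (hzX x)]
    have hb' : ∀ b ∈ H, ∀ x : X, π b * π x = π x * π b := by
      intro b hb x
      rcases hΩH b hb with h1 | h1
      · rw [(hπ1 b).mpr h1, one_mul, mul_one]
      · have h2 : π b = π z := ((hπeq z b).mpr h1).symm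
        rw [h2]; exact hz' x
    have hc' : ∀ x : X, π c * π x = π x * π c := by
      intro x
      have hm : x * c * x⁻¹ ∈ Q := h.normal.conj_mem c hc x
      have hu : c⁻¹ * (x * c * x⁻¹) ∈ H := (hcosets _ hm).resolve_left fun h' => hcH' (by
        have := hHn.conj_mem _ h' x⁻¹
        rwa [show x⁻¹ * (x * c * x⁻¹) * x⁻¹⁻¹ = c by group] at this)
      set u := c⁻¹ * (x * c * x⁻¹) with hudef
      have hu2 : u * u = 1 := by
        have h1 : x * (c * c) * x⁻¹ = c * c * (u * u) := by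
          calc x * (c * c) * x⁻¹ = c * (u * c) * u := by rw [hudef]; group
            _ = c * c * (u * u) := by rw [← hcb u hu]; group
        rw [hcz, hzX x] at h1
        exact mul_eq_left.mp h1.symm
      have h2 : π c = π x * π c * (π x)⁻¹ := by
        rw [← map_mul, ← map_inv, ← map_mul]
        exact (hπeq _ _).mpr ⟨hu, hu2⟩
      exact eq_mul_inv_iff_mul_eq.mp h2
    intro q hq x
    rcases hcosets q hq with h1 | h1
    · exact hb' q h1 x
    · rw [← mul_inv_cancel_left c q, map_mul]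
      exact (Commute.mul_left (hc' x) (hb' _ h1 x)).eq
  have hπH : ∀ a b, a ∈ Q → π a = π b → a ∈ H → b ∈ H := fun a b _ hab' ha => by
    have h1 := (hπeq a b).mp hab'
    rw [← mul_inv_cancel_left a b]
    exact mul_mem ha h1.1
  obtain ⟨c₁, hc₁⟩ := C.surj mC1 det_eq.2.2.1
  obtain ⟨c₂, hc₂⟩ := C.surj mC2 det_eq.2.2.2.1
  have hnotQ : ∀ g : X, C.ρ g ≠ 1 → g ∉ Q := fun g hg h' => hg ((C.ker g).mpr h')
  -- an outside element squaring into `H`
  have hx : ∃ x : X, x ∉ Q ∧ x * x ∈ H := by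
    obtain ⟨e, he⟩ := C.surj mE det_eq.1
    obtain ⟨f, hf⟩ := C.surj mF det_eq.2.1
    have he2 : e * e ∈ Q := C.sq_mem_of_ρ (by rw [he, dihedral_eq.2.2.1])
    have hf2 : f * f ∈ Q := C.sq_mem_of_ρ (by rw [hf, dihedral_eq.2.2.2.1])
    by_cases he2H : e * e ∈ H
    · exact ⟨e, hnotQ e (he ▸ ne_one.1), he2H⟩
    by_cases hf2H : f * f ∈ H
    · exact ⟨f, hnotQ f (hf ▸ ne_one.2.1), hf2H⟩
    refine ⟨e * f, hnotQ _ (by rw [map_mul, he, hf, squares_eq.2.2.2]; exact ne_one.2.2.1), ?_⟩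
    set w := e * f * e⁻¹ * f⁻¹ with hwdef
    have hw : w ∈ Q := by
      rw [← C.ker, map_mul, map_mul, map_mul, C.ρ_inv_of_sq (by rw [he, dihedral_eq.2.2.1]),
        C.ρ_inv_of_sq (by rw [hf, dihedral_eq.2.2.2.1]), he, hf]
      decide +kernel
    have hcw := fun x => hcen w hw x
    have hef : π e * π f = π w * (π f * π e) := by
      rw [hwdef, map_mul, map_mul, map_mul, map_inv, map_inv]; group
    have hwH : w ∈ H := by
      refine (hcosets w hw).resolve_right fun h1 => hzR ?_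
      have h2 : π w * π w = 1 := by
        have h3 : π (e * e) * π f = π w * π w * (π f * π (e * e)) := by
          rw [map_mul, mul_assoc (π e), hef, ← mul_assoc, ← hcw e, mul_assoc (π w), ← mul_assoc (π e),
            hef]
          group
        rw [hcen _ he2 f, right_eq_mul] at h3
        exact h3
      have h3 : w * w ∈ Ω := by rw [← hπ1, map_mul, h2]
      have h4 : w * w = z * ((c⁻¹ * w) * (c⁻¹ * w)) := by
        calc w * w = c * ((c⁻¹ * w) * c) * (c⁻¹ * w) := by group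
          _ = c * c * ((c⁻¹ * w) * (c⁻¹ * w)) := by rw [← hcb _ h1]; group
          _ = _ := by rw [hcz]
      have h5 : z ∈ Ω := by
        rw [h4] at h3
        have h6 := mul_mem h3 (inv_mem (hΩR ((hH _).mp h1).2))
        rwa [mul_inv_cancel_right] at h6
      exact absurd h5 hzΩ
    have hge : π (e * f * (e * f)) = π (e * e * (f * f) * w⁻¹) := by
      have h1 : π f * π e = (π w)⁻¹ * (π e * π f) := by rw [hef, inv_mul_cancel_left]
      have h2 : ∀ x, (π w)⁻¹ * π x = π x * (π w)⁻¹ := fun x =>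
        ((show Commute (π w) (π x) from hcw x).inv_left).eq
      simp only [map_mul, map_inv]
      calc π e * π f * (π e * π f) = π e * (π f * π e) * π f := by group
        _ = π e * (π w)⁻¹ * π e * π f * π f := by rw [h1]; group
        _ = (π w)⁻¹ * (π e * π e * (π f * π f)) := by rw [← h2 e]; group
        _ = π e * π e * (π f * π f) * (π w)⁻¹ := by
            rw [← map_mul, ← map_mul, ← map_mul, h2]
    refine hπH _ _ ?_ hge.symm ?_
    · exact mul_mem (mul_mem he2 hf2) (inv_mem hw)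
    · refine mul_mem ?_ (inv_mem hwH)
      rcases hcosets _ (mul_mem he2 hf2) with h1 | h1
      · exact h1
      exfalso
      have h2 := (hcosets _ he2).resolve_left he2H
      have h3 := (hcosets _ hf2).resolve_left hf2H
      apply hcH'
      -- two odd elements have an even product
      have h4 : c⁻¹ * (e * e * (f * f)) = c * ((c⁻¹ * (e * e)) * (c⁻¹ * (f * f))) := by
        have h5 := hcb _ h2
        generalize e * e = a at h5 ⊢
        generalize f * f = b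
        calc c⁻¹ * (a * b) = (c⁻¹ * a) * c * (c⁻¹ * b) := by group
          _ = c * ((c⁻¹ * a) * (c⁻¹ * b)) := by rw [← h5]; group
      rw [h4] at h1
      have h6 := mul_mem h1 (inv_mem (mul_mem h2 h3))
      rwa [mul_inv_cancel_right] at h6
  obtain ⟨X0, hinf, hsup, -⟩ := exists_half h C H hHQ hcQ2 hx
  haveI := h.normal
  have hlift : ∀ M : M3, M.det = 1 → ∃ x ∈ X0, C.ρ x = M := by
    intro M hM
    obtain ⟨x, rfl⟩ := C.surj M hM
    have hmem : x ∈ X0 ⊔ Q := hsup ▸ Subgroup.mem_top x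
    rw [← SetLike.mem_coe, Subgroup.mul_normal] at hmem
    obtain ⟨a, ha, q, hq, rfl⟩ := hmem
    exact ⟨a, ha, by rw [map_mul, (C.ker q).mpr hq, mul_one]⟩
  have hinH : ∀ q, q ∈ X0 → q ∈ Q → q ∈ H := fun q h1 h2 => hinf ▸ Subgroup.mem_inf.mpr ⟨h1, h2⟩
  obtain ⟨d₁, hd₁X, hd₁⟩ := hlift mC1 det_eq.2.2.1
  obtain ⟨d₂, hd₂X, hd₂⟩ := hlift mC2 det_eq.2.2.2.1
  obtain ⟨d₃, hd₃X, hd₃⟩ := hlift mC3 det_eq.2.2.2.2.1
  set e := d₁ * d₁ with hedef
  set f := d₂ * d₂ with hfdef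
  have he : C.ρ e = mE := by rw [map_mul, hd₁, squares_eq.1]
  have hf : C.ρ f = mF := by rw [map_mul, hd₂, squares_eq.2.1]
  have heX : e ∈ X0 := mul_mem hd₁X hd₁X
  have hfX : f ∈ X0 := mul_mem hd₂X hd₂X
  have hsqH : ∀ g ∈ X0, C.ρ g * C.ρ g = 1 → g * g ∈ H := fun g hg h1 =>
    hinH _ (mul_mem hg hg) (C.sq_mem_of_ρ h1)
  have he2H : e * e ∈ H := hsqH e heX (by rw [he, dihedral_eq.2.2.1])
  have hf2H : f * f ∈ H := hsqH f hfX (by rw [hf, dihedral_eq.2.2.2.1])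
  set K2 := lineOver C with hK2def
  have hfixK2 : ∀ d : X, (C.ρ d = mC1 ∨ C.ρ d = mC2 ∨ C.ρ d = mC3) → ∀ y ∈ H, d * y * d⁻¹ = y →
      y ∈ K2 := by
    intro d hd y hy hdy
    have h1 := C.equiv d y hy
    rw [hdy] at h1
    refine mem_lineOver.mpr ⟨hy, ?_⟩
    rcases hd with hd | hd | hd <;> rw [hd] at h1
    · exact (fixed_root _).1 h1.symm
    · exact (fixed_root _).2.1 h1.symm
    · exact (fixed_root _).2.2 h1.symm
  have he2K : e * e ∈ K2 := hfixK2 d₁ (Or.inl hd₁) _ he2H (by rw [hedef]; group)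
  have hf2K : f * f ∈ K2 := hfixK2 d₂ (Or.inr (Or.inl hd₂)) _ hf2H (by rw [hfdef]; group)
  have hG : C.ρ (e * f) = mG := by rw [map_mul, he, hf, squares_eq.2.2.2]
  have hef2H : e * f * (e * f) ∈ H := hsqH _ (mul_mem heX hfX) (by rw [hG, dihedral_eq.2.2.2.2])
  have hef2K : e * f * (e * f) ∈ K2 := by
    set g' := d₃ * d₃ with hg'
    have hg'ρ : C.ρ g' = mG := by rw [map_mul, hd₃, squares_eq.2.2.1]
    have hg'2 : g' * g' ∈ H := hsqH g' (mul_mem hd₃X hd₃X) (by rw [hg'ρ, dihedral_eq.2.2.2.2])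
    have hg'K : g' * g' ∈ K2 := hfixK2 d₃ (Or.inr (Or.inr hd₃)) _ hg'2 (by rw [hg']; group)
    set u := g'⁻¹ * (e * f) with hudef
    have hu : u ∈ H := hinH _ (mul_mem (inv_mem (mul_mem hd₃X hd₃X)) (mul_mem heX hfX))
      (C.mem_of_ρ_eq (hg'ρ.trans hG.symm))
    have h1 : e * f * (e * f) = g' * g' * (g'⁻¹ * u * g'⁻¹⁻¹ * u) := by rw [hudef]; group
    rw [h1]
    refine mul_mem hg'K (mem_lineOver.mpr ⟨mul_mem (C.conj_mem _ hu) hu, ?_⟩)
    rw [C.mul _ (C.conj_mem _ hu) _ hu, C.equiv _ _ hu, C.ρ_inv_of_sq (by rw [hg'ρ, dihedral_eq.2.2.2.2]),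
      hg'ρ]
    exact (act_four _).2.2
  -- a preimage of `b1` fixed by `e` and `f`
  have hΦX : ∀ x : X, ∀ a ∈ Φ, x * a * x⁻¹ = a := by
    intro x a ha
    rcases mem_pairSub.mp ha with h1 | h1
    · exact hfix x a h1
    · rw [show x * a * x⁻¹ = x * z * x⁻¹ * (x * (z⁻¹ * a) * x⁻¹) by group, hzX x, hfix x _ h1,
        mul_inv_cancel_left]
  have hmk : ∀ (g : X), g * g ∈ H → ∀ x ∈ H,
      g * (g * x * g⁻¹ * x) * g⁻¹ = g * x * g⁻¹ * x := by
    intro g hg x hx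
    calc g * (g * x * g⁻¹ * x) * g⁻¹ = g * g * x * (g * g)⁻¹ * (g * x * g⁻¹) := by group
      _ = x * (g * x * g⁻¹) := by rw [hab _ hg x hx, mul_inv_cancel_right]
      _ = g * x * g⁻¹ * x := hab _ hx _ (hHn.conj_mem x hx g)
  obtain ⟨x₃, hx₃, hκ₃⟩ := C.onto b3
  obtain ⟨x₂, hx₂, hκ₂⟩ := C.onto b2
  set μ := e * x₃ * e⁻¹ * x₃ with hμ
  have hμH : μ ∈ H := mul_mem (C.conj_mem e hx₃) hx₃
  have hμκ : C.κ μ = b1 := by
    rw [C.mul _ (C.conj_mem e hx₃) _ hx₃, C.equiv _ _ hx₃, he, hκ₃]; exact act_basis.1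
  have hμe : e * μ * e⁻¹ = μ := hmk e he2H x₃ hx₃
  have hμf : f * μ * f⁻¹ = μ := by
    set μ' := f * x₂ * f⁻¹ * x₂ with hμ'
    have hμ'κ : C.κ μ' = b1 := by
      rw [C.mul _ (C.conj_mem f hx₂) _ hx₂, C.equiv _ _ hx₂, hf, hκ₂]; exact act_basis.2.1
    have hd := C.mem_of_eq hμH (mul_mem (C.conj_mem f hx₂) hx₂) (hμκ.trans hμ'κ.symm)
    have h1 : μ = μ' * (μ⁻¹ * μ')⁻¹ := by group
    rw [h1, show f * (μ' * (μ⁻¹ * μ')⁻¹) * f⁻¹ = f * μ' * f⁻¹ * (f * (μ⁻¹ * μ') * f⁻¹)⁻¹ by group,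
      hmk f hf2H x₂ hx₂, hΦX f _ hd]
  have hK2fix : ∀ k ∈ K2, e * k * e⁻¹ = k ∧ f * k * f⁻¹ = k := by
    intro k hk
    rcases hk.2 with h0 | h0
    · have h1 := (C.zero k hk.1).mp h0
      exact ⟨hΦX e k h1, hΦX f k h1⟩
    · have h1 := C.mem_of_eq hμH hk.1 (hμκ.trans h0.symm)
      constructor
      · rw [show e * k * e⁻¹ = e * μ * e⁻¹ * (e * (μ⁻¹ * k) * e⁻¹) by group, hμe, hΦX e _ h1,
          mul_inv_cancel_left]
      · rw [show f * k * f⁻¹ = f * μ * f⁻¹ * (f * (μ⁻¹ * k) * f⁻¹) by group, hμf, hΦX f _ h1,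
          mul_inv_cancel_left]
  have hK2H : K2 ≤ H := fun k hk => hk.1
  set w := e * f * e⁻¹ * f⁻¹ with hwdef
  have hwK : w ∈ K2 := by
    have h1 : w = e * f * (e * f) * (f⁻¹ * (e * e)⁻¹ * f) * (f * f)⁻¹ := by rw [hwdef]; group
    have h2 : f⁻¹ * (e * e)⁻¹ * f = (e * e)⁻¹ := by
      conv_lhs => rw [← (hK2fix _ (inv_mem he2K)).2]
      group
    rw [h1, h2]
    exact mul_mem (mul_mem hef2K (inv_mem he2K)) (inv_mem hf2K)
  have hew : e * w = w * e := mul_inv_eq_iff_eq_mul.mp (hK2fix w hwK).1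
  have hwf : e * f * e⁻¹ = w * f := by rw [hwdef]; group
  have hwΩ : w ∈ Ω := by
    refine ⟨hK2H hwK, ?_⟩
    have h1 : e * e * f * (e * e)⁻¹ = w * w * f := by
      have h0 := (hK2fix w hwK).1
      clear_value w
      calc e * e * f * (e * e)⁻¹ = e * (e * f * e⁻¹) * e⁻¹ := by group
        _ = e * (w * f) * e⁻¹ := by rw [hwf]
        _ = e * w * e⁻¹ * (e * f * e⁻¹) := by group
        _ = w * w * f := by rw [h0, hwf, mul_assoc]
    have h2 : f * (e * e) = e * e * f := mul_inv_eq_iff_eq_mul.mp (hK2fix _ he2K).2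
    rw [← h2, mul_inv_cancel_right] at h1
    exact right_eq_mul.mp h1
  have hg2 : e * f * (e * f) = w⁻¹ * (e * e * (f * f)) := by
    have h1 : f * e = w⁻¹ * (e * f) := by rw [hwdef]; group
    have h2 : e * w⁻¹ = w⁻¹ * e := ((show Commute e w from hew).inv_right).eq
    calc e * f * (e * f) = e * (f * e) * f := by group
      _ = e * w⁻¹ * e * f * f := by rw [h1]; group
      _ = w⁻¹ * (e * e * (f * f)) := by rw [h2]; group
  have hclass : ∀ t ∈ X0, C.ρ t * C.ρ t = 1 → C.ρ t ≠ 1 → (t * t ∈ Ω ↔ e * e ∈ Ω) := by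
    intro t ht ht1 ht2
    obtain ⟨P, hP, hPE⟩ := involution_conj (C.ρ t) ht1 ht2
    obtain ⟨y, hyX, rfl⟩ := hlift P hP
    set a := y * e * y⁻¹ with hadef
    have haX : a ∈ X0 := mul_mem (mul_mem hyX heX) (inv_mem hyX)
    have haρ : C.ρ a = C.ρ t := by
      rw [map_mul, map_mul, he, hPE, mul_assoc, C.ρ_mul_inv, mul_one]
    have hu : a⁻¹ * t ∈ H := hinH _ (mul_mem (inv_mem haX) ht) (C.mem_of_ρ_eq haρ)
    set u := a⁻¹ * t with hudef
    have h1 : t * t = a * a * (a⁻¹ * u * a⁻¹⁻¹ * u) := by rw [hudef]; group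
    have h2 : a⁻¹ * u * a⁻¹⁻¹ * u ∈ Ω := by
      rw [← hπ1, map_mul, map_mul, map_mul, map_inv π a⁻¹,
        ← hcen u (hHQ hu) a⁻¹, mul_inv_cancel_right, ← map_mul, hπ1]
      refine (hΩmem _).mpr ⟨mul_mem hu hu, ?_⟩
      rcases hHsq u hu with h' | h' <;> rw [h']
      · exact one_mul 1
      · exact hr2
    rw [h1, Ω.mul_mem_cancel_right h2,
      show a * a = y * (e * e) * y⁻¹ by rw [hadef]; group]
    refine ⟨fun h' => ?_, fun h' => hΩn.conj_mem _ h' y⟩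
    have := hΩn.conj_mem _ h' y⁻¹
    rwa [show y⁻¹ * (y * (e * e) * y⁻¹) * y⁻¹⁻¹ = e * e by group] at this
  have hz2Ω : z * z ∈ Ω := hΩR hzz
  have heven : ∀ a ∈ H, a ∉ Ω → ∀ b ∈ H, b ∉ Ω → a * b ∈ Ω := by
    intro a ha ha' b hb hb'
    have h1 := (hΩH a ha).resolve_left ha'
    have h2 := (hΩH b hb).resolve_left hb'
    rw [show a * b = z * ((z⁻¹ * a) * z) * (z⁻¹ * b) by group, hab _ h1.1 z hzH,
      show z * (z * (z⁻¹ * a)) * (z⁻¹ * b) = z * z * ((z⁻¹ * a) * (z⁻¹ * b)) by group]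
    exact mul_mem hz2Ω (mul_mem h1 h2)
  have he2Ω : e * e ∈ Ω := by
    by_contra hne'
    have h1 : f * f ∉ Ω := fun h' => hne' ((hclass f hfX (by rw [hf, dihedral_eq.2.2.2.1])
      (by rw [hf]; exact ne_one.2.1)).mp h')
    apply hne'
    refine (hclass (e * f) (mul_mem heX hfX) (by rw [hG, dihedral_eq.2.2.2.2])
      (by rw [hG]; exact ne_one.2.2.1)).mp ?_
    rw [hg2]
    exact mul_mem (inv_mem hwΩ) (heven _ he2H hne' _ hf2H h1)
  have hf2Ω : f * f ∈ Ω := (hclass f hfX (by rw [hf, dihedral_eq.2.2.2.1])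
    (by rw [hf]; exact ne_one.2.1)).mpr he2Ω
  set K := Ω ⊓ K2 with hKdef
  have hzK2 : z ∈ K2 := mem_lineOver.mpr ⟨hzH, Or.inl ((C.zero z hzH).mpr mem_pairSub_self)⟩
  have hK2card : Nat.card K2 = 2 * Nat.card K :=
    card_of_two_cosets inf_le_right hzK2 (fun h' => hzΩ h'.1) fun k hk => by
      rcases hΩH k hk.1 with h1 | h1
      · exact Or.inl ⟨h1, hk⟩
      · exact Or.inr ⟨h1, K2.mul_mem (K2.inv_mem hzK2) hk⟩
  have hKH : K ≤ H := fun k hk => hk.1.1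
  have hn : ∀ g ∈ (H : Set X) ∪ {e, f}, ∀ k ∈ K, g * k * g⁻¹ ∈ K := by
    rintro g (hg | rfl | rfl) k hk
    · rw [hab g hg k (hKH hk), mul_inv_cancel_right]; exact hk
    · rw [(hK2fix k hk.2).1]; exact hk
    · rw [(hK2fix k hk.2).2]; exact hk
  have hsH : ∀ s ∈ H, s * s ∈ K := fun s hs =>
    ⟨hΩR ((hH s).mp hs).2, mem_lineOver.mpr ⟨mul_mem hs hs, Or.inl ((C.zero _ (mul_mem hs hs)).mpr
      (Or.inl ((hH s).mp hs).2))⟩⟩
  have hcommK : ∀ g : X, C.ρ g = mE ∨ C.ρ g = mF → ∀ s ∈ H, g * s * g⁻¹ * s⁻¹ ∈ K := by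
    intro g hg s hs
    have hm : g * s * g⁻¹ * s⁻¹ ∈ H := mul_mem (hHn.conj_mem s hs g) (inv_mem hs)
    refine ⟨⟨hm, ?_⟩, mem_lineOver.mpr ⟨hm, ?_⟩⟩
    · have h1 := hab _ (hHn.conj_mem s hs g) _ (inv_mem hs)
      calc g * s * g⁻¹ * s⁻¹ * (g * s * g⁻¹ * s⁻¹)
          = g * s * g⁻¹ * (s⁻¹ * (g * s * g⁻¹)) * s⁻¹ := by group
        _ = g * (s * s) * g⁻¹ * (s * s)⁻¹ := by rw [← h1]; group
        _ = 1 := by rw [hfix g _ ((hH s).mp hs).2, mul_inv_cancel]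
    · rw [C.κ_comm g hs]
      rcases hg with hg | hg <;> rw [hg]
      · exact (act_four _).1
      · exact (act_four _).2.1
  have hfour := four_contra h C hHQ hKH he hf hn hsH ⟨he2Ω, he2K⟩ ⟨hf2Ω, hf2K⟩ ⟨hwΩ, hwK⟩
    (hcommK e (Or.inl he)) (hcommK f (Or.inr hf))
  rw [card_lineOver, hcΦ] at hK2card
  omega

end Cfsg.Agent.Lib.L32Core58
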