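import Cfsg.Agent.Lib.L32Core58.Sections

/-!
The radical cannot be homocyclic `(ℤ/4)³` with natural action when the sectional rank is at most
four: lifts of a four-group of transvections generate, with a subgroup of order sixteen, a section
that is too big.
-/

set_option autoImplicit false

namespace Cfsg.Agent.Lib.L32Core58

open Matrix

variable {X : Type*} [Group X] [Finite X]

/-- The key identity on a homocyclic radical: a root `c` of a transvection fixes every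
`c²(x) * x`. -/
theorem root_fixes {Q R : Subgroup X} (h : Hyp Q) (C : Chart Q R Q) (CR : Chart Q ⊥ R)
    (hcomm : ∀ a ∈ Q, ∀ b ∈ Q, a * b = b * a) (hκ : ∀ q ∈ Q, CR.κ (q * q) = C.κ q)
    (hcR : Nat.card R = 8) {c : X} (hc : C.ρ c = mC1 ∨ C.ρ c = mC2 ∨ C.ρ c = mC3) :
    ∀ x ∈ Q, c * (c * c * x * (c * c)⁻¹ * x) * c⁻¹ = c * c * x * (c * c)⁻¹ * x := by
  classical
  obtain ⟨a₁, ha₁, hκ₁⟩ := C.onto b1
  obtain ⟨a₂, ha₂, hκ₂⟩ := C.onto b2
  obtain ⟨a₃, ha₃, hκ₃⟩ := C.onto b3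
  have hpow : ∀ (a : X), a ∈ Q → ∀ n : ℕ, C.κ (a ^ n) = (n : ZMod 2) • C.κ a := by
    intro a ha n
    induction n with
    | zero => simp [C.κ_one]
    | succ n ih => rw [pow_succ, C.mul _ (pow_mem ha n) _ ha, ih, Nat.cast_succ, add_smul, one_smul]
  have h4 : ∀ a ∈ Q, a ^ 4 = 1 := by
    intro a ha
    have hR : a * a ∈ R := C.sq_mem ha
    rw [show a ^ 4 = a * a * (a * a) by simp only [pow_succ, pow_zero, one_mul, mul_assoc],
      ← Subgroup.mem_bot]
    exact CR.sq_mem hR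
  have hmod : ∀ a ∈ Q, ∀ n : ℕ, a ^ (n % 4) = a ^ n := fun a ha n => by
    conv_rhs => rw [← Nat.mod_add_div n 4, pow_add, pow_mul, h4 a ha, one_pow, mul_one]
  let φ : (Fin 3 → ZMod 4) → X := fun v => a₁ ^ (v 0).val * a₂ ^ (v 1).val * a₃ ^ (v 2).val
  have hφQ : ∀ v, φ v ∈ Q := fun v =>
    mul_mem (mul_mem (pow_mem ha₁ _) (pow_mem ha₂ _)) (pow_mem ha₃ _)
  have hφadd : ∀ v w, φ (v + w) = φ v * φ w := by
    intro v w
    simp only [φ, Pi.add_apply, ZMod.val_add, hmod _ ha₁, hmod _ ha₂, hmod _ ha₃, pow_add]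
    generalize hA : a₁ ^ (v 0).val = A
    generalize hA' : a₁ ^ (w 0).val = A'
    generalize hB : a₂ ^ (v 1).val = B
    generalize hB' : a₂ ^ (w 1).val = B'
    generalize hD : a₃ ^ (v 2).val = D
    generalize hD' : a₃ ^ (w 2).val = D'
    have mA' : A' ∈ Q := hA' ▸ pow_mem ha₁ _
    have mB : B ∈ Q := hB ▸ pow_mem ha₂ _
    have mB' : B' ∈ Q := hB' ▸ pow_mem ha₂ _
    have mD : D ∈ Q := hD ▸ pow_mem ha₃ _
    calc A * A' * (B * B') * (D * D') = A * (A' * B) * (B' * D) * D' := by group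
      _ = A * (B * A') * (D * B') * D' := by rw [hcomm _ mA' _ mB, hcomm _ mB' _ mD]
      _ = A * B * (A' * D) * B' * D' := by group
      _ = A * B * (D * A') * B' * D' := by rw [hcomm _ mA' _ mD]
      _ = A * B * D * (A' * B' * D') := by group
  have hcast : ∀ v : Fin 3 → ZMod 4, C.κ (φ v) =
      fun i => ZMod.castHom (by norm_num : 2 ∣ 4) (ZMod 2) (v i) := by
    intro v
    rw [C.mul _ (mul_mem (pow_mem ha₁ _) (pow_mem ha₂ _)) _ (pow_mem ha₃ _),
      C.mul _ (pow_mem ha₁ _) _ (pow_mem ha₂ _), hpow _ ha₁, hpow _ ha₂, hpow _ ha₃, hκ₁, hκ₂, hκ₃]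
    revert v
    clear * -
    decide +kernel
  have hker : ∀ v, φ v = 1 → v = 0 := by
    intro v hv
    have h1 := hcast v
    rw [hv, C.κ_one] at h1
    have h2 : ∀ v : Fin 3 → ZMod 4,
        (0 : V3) = (fun i => ZMod.castHom (by norm_num : 2 ∣ 4) (ZMod 2) (v i)) → ∃ w, v = w + w := by
      decide +kernel
    obtain ⟨w, rfl⟩ := h2 v h1
    rw [hφadd] at hv
    have h3 := hκ _ (hφQ w)
    rw [hv, CR.κ_one, hcast w] at h3
    revert h3
    clear * -
    revert w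
    decide +kernel
  have hbij : Function.Bijective (fun v => (⟨φ v, hφQ v⟩ : Q)) := by
    refine (Nat.bijective_iff_injective_and_card _).mpr ⟨fun v w hvw => ?_, ?_⟩
    · have h1 : φ v = φ w := congrArg Subtype.val hvw
      have h2 : φ (v - w) = 1 := by
        have h3 := hφadd (v - w) w
        rw [sub_add_cancel, h1, eq_comm, mul_eq_right] at h3
        exact h3
      exact sub_eq_zero.mp (hker _ h2)
    · rw [C.relIndex_card, hcR]; simp
  let E := Equiv.ofBijective _ hbij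
  have hEinv : ∀ q : Q, φ (E.symm q) = q := fun q => congrArg Subtype.val (E.apply_symm_apply q)
  have hconjQ : ∀ (x : X) (v : Fin 3 → ZMod 4), x * φ v * x⁻¹ ∈ Q := fun x v =>
    h.normal.conj_mem _ (hφQ v) x
  have hφinj : ∀ v w, φ v = φ w → v = w := fun v w hvw => hbij.injective (Subtype.ext hvw)
  let T : X → (Fin 3 → ZMod 4) →ₗ[ZMod 4] (Fin 3 → ZMod 4) := fun x =>
    AddMonoidHom.toZModLinearMap 4 (AddMonoidHom.mk' (fun v => E.symm ⟨_, hconjQ x v⟩) fun v w =>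
      hφinj _ _ (by
        refine (hEinv _).trans ?_
        refine Eq.trans ?_ (hφadd _ _).symm
        rw [hEinv, hEinv]
        show x * φ (v + w) * x⁻¹ = x * φ v * x⁻¹ * (x * φ w * x⁻¹)
        rw [hφadd]; group))
  let F : X → N3 := fun x => LinearMap.toMatrix' (T x)
  have hF : ∀ x v, φ (F x *ᵥ v) = x * φ v * x⁻¹ := fun x v => by
    rw [show F x *ᵥ v = T x v from LinearMap.toMatrix'_mulVec _ _]
    exact hEinv _
  have hext : ∀ M N : N3, (∀ v, φ (M *ᵥ v) = φ (N *ᵥ v)) → M = N := fun M N hMN =>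
    Matrix.toLin'.injective (LinearMap.ext fun v => by
      rw [Matrix.toLin'_apply, Matrix.toLin'_apply]; exact hφinj _ _ (hMN v))
  have hFmul : ∀ x y, F (x * y) = F x * F y := fun x y => hext _ _ fun v => by
    rw [← mulVec_mulVec, hF, hF, hF]; group
  have hFQ : ∀ q ∈ Q, F q = 1 := fun q hq => hext _ _ fun v => by
    rw [one_mulVec, hF, hcomm q hq _ (hφQ v), mul_inv_cancel_right]
  have hred : ∀ x, red (F x) = C.ρ x := by
    intro x
    refine Matrix.toLin'.injective (LinearMap.ext fun w => ?_)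
    rw [Matrix.toLin'_apply, Matrix.toLin'_apply]
    obtain ⟨v, hv⟩ : ∃ v : Fin 3 → ZMod 4,
        (fun i => ZMod.castHom (by norm_num : 2 ∣ 4) (ZMod 2) (v i)) = w := by
      revert w; clear * -; decide +kernel
    rw [← hv, ← hcast v, ← C.equiv x _ (hφQ v), ← hF, hcast (F x *ᵥ v), hcast v]
    funext i
    exact (RingHom.map_mulVec _ _ _ i).symm
  have hdet : ∀ x, (F x).det = 1 := by
    let d : X →* ZMod 4 :=
      { toFun := fun x => (F x).det
        map_one' := by rw [hFQ 1 Q.one_mem, Matrix.det_one]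
        map_mul' := fun x y => by rw [hFmul, Matrix.det_mul] }
    rcases h.simple d.ker inferInstance (fun q hq => by
      show (F q).det = 1
      rw [hFQ q hq, Matrix.det_one]) with hd | hd
    · exfalso
      let g : X ⧸ Q → ZMod 4 := fun u => d u.out
      have hg : Function.Injective g := by
        intro u v huv
        rw [← u.out_eq', ← v.out_eq', QuotientGroup.eq]
        have h1 : d (u.out⁻¹ * v.out) = 1 := by
          rw [map_mul, ← show d u.out = d v.out from huv, ← map_mul, inv_mul_cancel, map_one]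
        rwa [← MonoidHom.mem_ker, hd] at h1
      have h1 := Nat.card_le_card_of_injective g hg
      rw [← Subgroup.index, h.index, Nat.card_zmod] at h1
      omega
    · intro x
      have h1 : x ∈ d.ker := hd ▸ Subgroup.mem_top x
      exact h1
  have hF4 : F c * F c * (F c * F c) = 1 := by
    rw [← hFmul, ← hFmul]
    refine hFQ _ ((C.ker _).mp ?_)
    rw [map_mul, map_mul]
    rcases hc with hc | hc | hc <;> rw [hc]
    · rw [squares_eq.1, dihedral_eq.2.2.1]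
    · rw [squares_eq.2.1, dihedral_eq.2.2.2.1]
    · rw [squares_eq.2.2.1, dihedral_eq.2.2.2.2]
  have hid : F c * (F c * F c + 1) = F c * F c + 1 := by
    obtain ⟨δ, hδ⟩ := exists_lift4 (F c)
    rw [hred] at hδ
    rw [hδ] at hF4 ⊢
    have hd := hdet c
    rw [hδ] at hd
    rcases hc with hc | hc | hc <;> rw [hc] at hd hF4 ⊢
    · exact (lift_identity δ).1 hd hF4
    · exact (lift_identity δ).2.1 hd hF4
    · exact (lift_identity δ).2.2 hd hF4
  intro x hx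
  obtain ⟨v, hv⟩ := hbij.surjective ⟨x, hx⟩
  have hv' : φ v = x := congrArg Subtype.val hv
  have h1 := congrArg (fun M => φ (M *ᵥ v)) hid
  simp only [← mulVec_mulVec, add_mulVec, one_mulVec, hF, hφadd, hv'] at h1
  simpa only [_root_.mul_inv_rev, mul_assoc] using h1

theorem Chart.ρ_inv_of_sq {Q A B : Subgroup X} (C : Chart Q A B) {g : X}
    (hg : C.ρ g * C.ρ g = 1) : C.ρ g⁻¹ = C.ρ g := by
  calc C.ρ g⁻¹ = C.ρ g⁻¹ * (C.ρ g * C.ρ g) := by rw [hg, mul_one]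
    _ = C.ρ g := by rw [← mul_assoc, C.ρ_inv_mul, one_mul]

/-- No homocyclic radical of exponent four and order sixty-four. -/
theorem homocyclic_contra {Q R : Subgroup X} (h : Hyp Q) (C : Chart Q R Q) (CR : Chart Q ⊥ R)
    (hρ : CR.ρ = C.ρ) (hcomm : ∀ a ∈ Q, ∀ b ∈ Q, a * b = b * a)
    (hκ : ∀ q ∈ Q, CR.κ (q * q) = C.κ q) (hcR : Nat.card R = 8) : False := by
  classical
  set D := lineOver CR with hDdef
  set S := lineOver C with hSdef
  have hroot := fun {c : X} hc => root_fixes h C CR hcomm hκ hcR (c := c) hc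
  -- squares of lifts of a transvection
  have hlift : ∀ c g : X, (C.ρ c = mC1 ∨ C.ρ c = mC2 ∨ C.ρ c = mC3) → C.ρ g = C.ρ c * C.ρ c →
      (C.κ (g * g) = 0 ∨ C.κ (g * g) = b1) ∧ (C.κ (g * g) = 0 → g * g ∈ D) ∧ g * g ∈ Q := by
    intro c g hc hg
    have hsq : C.ρ (c * c) * C.ρ (c * c) = 1 := by
      rw [map_mul]
      rcases hc with hc | hc | hc <;> rw [hc]
      · rw [squares_eq.1, dihedral_eq.2.2.1]
      · rw [squares_eq.2.1, dihedral_eq.2.2.2.1]
      · rw [squares_eq.2.2.1, dihedral_eq.2.2.2.2]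
    have he2 : c * c * (c * c) ∈ Q := C.sq_mem_of_ρ hsq
    have hx : (c * c)⁻¹ * g ∈ Q := C.mem_of_ρ_eq (by rw [hg, map_mul])
    have hgQ : g * g ∈ Q := C.sq_mem_of_ρ (by rw [hg, ← map_mul]; exact hsq)
    obtain ⟨x, hxQ, rfl⟩ : ∃ x ∈ Q, g = c * c * x :=
      ⟨_, hx, by rw [mul_inv_cancel_left]⟩
    have hfix : c * (c * c * x * (c * c * x)) * c⁻¹ = c * c * x * (c * c * x) := by
      have h3 : c * c * x * (c * c * x) = c * c * (c * c) * (c * c * x * (c * c)⁻¹ * x) := by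
        have h1 := hcomm _ he2 _ hxQ
        generalize c * c = e at h1 ⊢
        calc e * x * (e * x) = e * (x * (e * e)) * (e⁻¹ * x) := by group
          _ = e * (e * e * x) * (e⁻¹ * x) := by rw [h1]
          _ = e * e * (e * x * e⁻¹ * x) := by group
      rw [h3, show c * (c * c * (c * c) * (c * c * x * (c * c)⁻¹ * x)) * c⁻¹ =
        c * c * (c * c) * (c * (c * c * x * (c * c)⁻¹ * x) * c⁻¹) by group, hroot hc x hxQ]
    have hfR : ∀ {A B : Subgroup X} (C' : Chart Q A B), C'.ρ = C.ρ → ∀ y ∈ B, c * y * c⁻¹ = y →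
        C'.κ y = 0 ∨ C'.κ y = b1 := by
      intro A B C' hC' y hy hcy
      have h1 := C'.equiv c y hy
      rw [hcy, hC'] at h1
      rcases hc with hc | hc | hc <;> rw [hc] at h1
      · exact (fixed_root _).1 h1.symm
      · exact (fixed_root _).2.1 h1.symm
      · exact (fixed_root _).2.2 h1.symm
    refine ⟨hfR C rfl _ hgQ hfix, fun h0 => ?_, hgQ⟩
    have hR : c * c * x * (c * c * x) ∈ R := (C.zero _ hgQ).mp h0
    exact mem_lineOver.mpr ⟨hR, hfR CR hρ _ hR hfix⟩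
  have hmul : ∀ g x : X, x ∈ Q → C.ρ g * C.ρ g = 1 →
      C.κ (g * x * (g * x)) = C.κ (g * g) + (C.ρ g *ᵥ C.κ x + C.κ x) := by
    intro g x hx hg
    rw [show g * x * (g * x) = g * g * (g⁻¹ * x * g⁻¹⁻¹ * x) by group,
      C.mul _ (C.sq_mem_of_ρ hg) _ (mul_mem (h.normal.conj_mem x hx _) hx),
      C.mul _ (h.normal.conj_mem x hx _) _ hx, C.equiv _ x hx, C.ρ_inv_of_sq hg]
  obtain ⟨c₁, hc₁⟩ := C.surj mC1 det_eq.2.2.1
  obtain ⟨c₂, hc₂⟩ := C.surj mC2 det_eq.2.2.2.1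
  obtain ⟨c₃, hc₃⟩ := C.surj mC3 det_eq.2.2.2.2.1
  obtain ⟨a₂, ha₂, hκ₂⟩ := C.onto b2
  obtain ⟨a₃, ha₃, hκ₃⟩ := C.onto b3
  have hEE : mE * mE = 1 := dihedral_eq.2.2.1
  have hFF : mF * mF = 1 := dihedral_eq.2.2.2.1
  obtain ⟨e₀, he₀, he₀κ⟩ : ∃ e, C.ρ e = mE ∧ C.κ (e * e) = 0 := by
    have he : C.ρ (c₁ * c₁) = mE := by rw [map_mul, hc₁, squares_eq.1]
    rcases (hlift c₁ (c₁ * c₁) (Or.inl hc₁) (map_mul _ _ _)).1 with h0 | h1
    · exact ⟨_, he, h0⟩
    · refine ⟨c₁ * c₁ * a₃, by rw [map_mul, he, (C.ker a₃).mpr ha₃, mul_one], ?_⟩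
      rw [hmul _ _ ha₃ (by rw [he, hEE]), h1, he, hκ₃, act_basis.1, add_self3]
  obtain ⟨f, hf, hfκ⟩ : ∃ f, C.ρ f = mF ∧ C.κ (f * f) = 0 := by
    have he : C.ρ (c₂ * c₂) = mF := by rw [map_mul, hc₂, squares_eq.2.1]
    rcases (hlift c₂ (c₂ * c₂) (Or.inr (Or.inl hc₂)) (map_mul _ _ _)).1 with h0 | h1
    · exact ⟨_, he, h0⟩
    · refine ⟨c₂ * c₂ * a₂, by rw [map_mul, he, (C.ker a₂).mpr ha₂, mul_one], ?_⟩
      rw [hmul _ _ ha₂ (by rw [he, hFF]), h1, he, hκ₂, act_basis.2.1, add_self3]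
  have hG : ∀ e, C.ρ e = mE → C.ρ (e * f) = C.ρ c₃ * C.ρ c₃ := fun e he => by
    rw [map_mul, he, hf, hc₃, squares_eq.2.2.1, squares_eq.2.2.2]
  obtain ⟨e, he, heκ, hefκ⟩ : ∃ e, C.ρ e = mE ∧ C.κ (e * e) = 0 ∧ C.κ (e * f * (e * f)) = 0 := by
    rcases (hlift c₃ (e₀ * f) (Or.inr (Or.inr hc₃)) (hG e₀ he₀)).1 with h0 | h1
    · exact ⟨e₀, he₀, he₀κ, h0⟩
    · refine ⟨e₀ * a₂, by rw [map_mul, he₀, (C.ker a₂).mpr ha₂, mul_one], ?_, ?_⟩
      · rw [hmul _ _ ha₂ (by rw [he₀, hEE]), he₀κ, he₀, hκ₂, act_basis.2.2.1, add_zero]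
      · have hGG : C.ρ (e₀ * f) * C.ρ (e₀ * f) = 1 := by
          rw [map_mul, he₀, hf, squares_eq.2.2.2, dihedral_eq.2.2.2.2]
        rw [show e₀ * a₂ * f = e₀ * f * (f⁻¹ * a₂ * f⁻¹⁻¹) by group,
          hmul _ _ (h.normal.conj_mem _ ha₂ _) hGG, h1, C.equiv _ _ ha₂,
          C.ρ_inv_of_sq (by rw [hf, hFF]), map_mul, he₀, hf, hκ₂]
        decide +kernel
  have he2 := (hlift c₁ e (Or.inl hc₁) (by rw [he, hc₁, squares_eq.1])).2.1 heκ
  have hf2 := (hlift c₂ f (Or.inr (Or.inl hc₂)) (by rw [hf, hc₂, squares_eq.2.1])).2.1 hfκ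
  have hef2 := (hlift c₃ (e * f) (Or.inr (Or.inr hc₃)) (hG e he)).2.1 hefκ
  have hDR : ∀ d ∈ D, d ∈ R := fun d hd => hd.1
  have hRQ : R ≤ Q := C.le
  -- `e` and `f` fix `D`
  have hfixD : ∀ g : X, C.ρ g = mE ∨ C.ρ g = mF → ∀ d ∈ D, g * d * g⁻¹ = d := by
    intro g hg d hd
    have hd' : d ∈ R := hd.1
    have hgd : g * d * g⁻¹ ∈ R := CR.normalB.conj_mem d hd' g
    have h1 : CR.κ (g * d * g⁻¹) = CR.κ d := by
      rw [CR.equiv g d hd', hρ]
      rcases hd.2 with h0 | h0 <;> rw [h0]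
      · exact mulVec_zero _
      · rcases hg with hg | hg <;> rw [hg]
        · exact act_basis.2.2.2.2.1
        · exact act_basis.2.2.2.2.2.1
    have h2 := CR.mem_of_eq hgd hd' h1
    rw [Subgroup.mem_bot, inv_mul_eq_one] at h2
    exact h2
  have hef : e * f * e⁻¹ * f⁻¹ ∈ D := by
    have h1 : e * f * e⁻¹ * f⁻¹ =
        e * f * (e * f) * (f⁻¹ * (e * e)⁻¹ * f) * (f * f)⁻¹ := by group
    rw [h1]
    have hfd : f⁻¹ * (e * e)⁻¹ * f ∈ D := by
      have h2 := hfixD f (Or.inr hf) _ (inv_mem he2)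
      have h3 : f⁻¹ * (e * e)⁻¹ * f = (e * e)⁻¹ := by
        conv_lhs => rw [← h2]
        group
      rw [h3]; exact inv_mem he2
    exact mul_mem (mul_mem hef2 hfd) (inv_mem hf2)
  -- a fixed preimage of `b1`
  set ν := e * a₃ * e⁻¹ * a₃ with hν
  have hνQ : ν ∈ Q := mul_mem (h.normal.conj_mem _ ha₃ _) ha₃
  have hνκ : C.κ ν = b1 := by
    rw [C.mul _ (h.normal.conj_mem _ ha₃ _) _ ha₃, C.equiv _ _ ha₃, he, hκ₃]
    exact act_basis.1
  have hνe : e * ν * e⁻¹ = ν := by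
    have he2Q : e * e ∈ Q := hRQ (hDR _ he2)
    calc e * ν * e⁻¹ = e * e * a₃ * (e * e)⁻¹ * (e * a₃ * e⁻¹) := by rw [hν]; group
      _ = a₃ * (e * a₃ * e⁻¹) := by rw [hcomm _ he2Q _ ha₃, mul_inv_cancel_right]
      _ = ν := hcomm _ ha₃ _ (h.normal.conj_mem _ ha₃ _)
  have hse : ∀ s ∈ S, ∀ g : X, C.ρ g = mE ∨ C.ρ g = mF → g * s * g⁻¹ * s⁻¹ ∈ D := by
    have hR : ∀ r ∈ R, ∀ g : X, C.ρ g = mE ∨ C.ρ g = mF → g * r * g⁻¹ * r⁻¹ ∈ D := by
      intro r hr g hg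
      refine mem_lineOver.mpr ⟨mul_mem (CR.normalB.conj_mem r hr g) (inv_mem hr), ?_⟩
      rw [CR.κ_comm g hr, hρ]
      rcases hg with hg | hg <;> rw [hg]
      · exact (act_four _).1
      · exact (act_four _).2.1
    have hν' : ∀ g : X, C.ρ g = mE ∨ C.ρ g = mF → g * ν * g⁻¹ * ν⁻¹ ∈ D := by
      rintro g (hg | hg)
      · have : g * ν * g⁻¹ = ν := by
          have h1 : e⁻¹ * g ∈ Q := C.mem_of_ρ_eq (by rw [he, hg])
          rw [show g * ν * g⁻¹ = e * (e⁻¹ * g * ν * (e⁻¹ * g)⁻¹) * e⁻¹ by group,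
            hcomm _ h1 _ hνQ, mul_inv_cancel_right, hνe]
        rw [this, mul_inv_cancel]
        exact one_mem D
      · set r := g * ν * g⁻¹ * ν⁻¹ with hr
        have hgν : C.ρ g *ᵥ C.κ ν + C.κ ν = 0 := by
          rw [hg, hνκ, act_basis.2.2.2.2.2.1, add_self3]
        have hrR : r ∈ R := (C.zero _ (mul_mem (h.normal.conj_mem _ hνQ g) (inv_mem hνQ))).mp
          ((C.κ_comm g hνQ).trans hgν)
        refine mem_lineOver.mpr ⟨hrR, fixed_four _ ?_ ?_⟩
        · -- `e` fixes `r`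
          have hq : (g * e)⁻¹ * (e * g) ∈ Q :=
            C.mem_of_ρ_eq (by rw [map_mul, map_mul, hg, he]; decide +kernel)
          have h1 : e * (g * ν * g⁻¹) * e⁻¹ = g * ν * g⁻¹ := by
            calc e * (g * ν * g⁻¹) * e⁻¹
                = g * e * ((g * e)⁻¹ * (e * g) * ν * ((g * e)⁻¹ * (e * g))⁻¹) * (g * e)⁻¹ := by group
              _ = g * (e * ν * e⁻¹) * g⁻¹ := by rw [hcomm _ hq _ hνQ, mul_inv_cancel_right]; group
              _ = g * ν * g⁻¹ := by rw [hνe]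
          have h2 : e * r * e⁻¹ = r := by
            rw [hr, show e * (g * ν * g⁻¹ * ν⁻¹) * e⁻¹ = e * (g * ν * g⁻¹) * e⁻¹ * (e * ν * e⁻¹)⁻¹ by
              group, h1, hνe]
          have h3 := CR.equiv e r hrR
          rw [h2, hρ, he] at h3
          exact h3.symm
        · -- `g` fixes `r`, as its square acts trivially
          have hg2 : g * g ∈ Q := C.sq_mem_of_ρ (by rw [hg, hFF])
          have h1 : g * r * g⁻¹ * r = 1 := by
            calc g * r * g⁻¹ * r = g * g * ν * (g * g)⁻¹ * ν⁻¹ := by rw [hr]; group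
              _ = 1 := by rw [hcomm _ hg2 _ hνQ]; group
          have h2 := CR.mul _ (CR.normalB.conj_mem r hrR g) _ hrR
          rw [h1, CR.κ_one, CR.equiv g r hrR, hρ, hg] at h2
          calc mF *ᵥ CR.κ r = mF *ᵥ CR.κ r + (CR.κ r + CR.κ r) := by rw [add_self3, add_zero]
            _ = CR.κ r := by rw [← add_assoc, ← h2, zero_add]
    intro s hs g hg
    rcases hs.2 with h0 | h0
    · exact hR s ((C.zero s hs.1).mp h0) g hg
    · have hr : ν⁻¹ * s ∈ R := C.mem_of_eq hνQ hs.1 (hνκ.trans h0.symm)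
      have h1 := mul_mem (hν' g hg) (hR _ hr g hg)
      have h2 : g * s * g⁻¹ * s⁻¹ = g * ν * g⁻¹ * ν⁻¹ * (ν * (g * (ν⁻¹ * s) * g⁻¹ * (ν⁻¹ * s)⁻¹) * ν⁻¹) := by
        group
      rw [h2, hcomm ν hνQ _ (hRQ (hDR _ (hR _ hr g hg))), mul_inv_cancel_right]
      exact h1
  have hS2 : ∀ s ∈ S, s * s ∈ D := fun s hs =>
    mem_lineOver.mpr ⟨C.sq_mem hs.1, by rw [hκ s hs.1]; exact hs.2⟩
  have hn : ∀ g ∈ (S : Set X) ∪ {e, f}, ∀ k ∈ D, g * k * g⁻¹ ∈ D := by
    rintro g (hg | rfl | rfl) k hk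
    · rw [hcomm g hg.1 k (hRQ (hDR k hk)), mul_inv_cancel_right]; exact hk
    · rw [hfixD g (Or.inl he) k hk]; exact hk
    · rw [hfixD g (Or.inr hf) k hk]; exact hk
  have hKS : D ≤ S := fun d hd =>
    mem_lineOver.mpr ⟨hRQ (hDR d hd), Or.inl ((C.zero d (hRQ (hDR d hd))).mpr (hDR d hd))⟩
  have hfour := four_contra h C (S := S) (fun s hs => hs.1) hKS he hf hn hS2 he2 hf2 hef
    (fun s hs => hse s hs e (Or.inl he)) (fun s hs => hse s hs f (Or.inr hf))
  rw [card_lineOver, card_lineOver, hcR, Subgroup.card_bot] at hfour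
  omega

end Cfsg.Agent.Lib.L32Core58
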