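import Cfsg.Agent.Lib.L32Core58.Common
import Cfsg.Agent.Lib.L32Core58.Homocyclic

/-!
The case of a fixed point free subgroup `R` of order eight containing all squares of `Q`.
-/

set_option autoImplicit false

namespace Cfsg.Agent.Lib.L32Core58

open Matrix

variable {X : Type*} [Group X] [Finite X]

/-- A central element of order two gives a bound by induction. -/
theorem involution_bound.{u} {X : Type u} [Group X] [Finite X] {Q : Subgroup X} (h : Hyp Q)
    (IH : Below.{u} (Nat.card X)) {k : X} (hk : k ∈ Q) (hk1 : k ≠ 1) (hk2 : k * k = 1)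
    (hfix : ∀ x, x * k * x⁻¹ = k) : Nat.card Q ≤ 64 := by
  refine (central_bound h IH hk hk1 hfix).trans ?_
  rw [Nat.card_zpowers]
  have : orderOf k ≤ 2 := orderOf_le_of_pow_eq_one two_pos (by rw [pow_two]; exact hk2)
  omega

theorem Chart.root_element {Q A B : Subgroup X} (C : Chart Q A B) :
    ∃ c : X, C.ρ c = mC1 ∧ C.ρ (c * c) = mE ∧ c * c ∉ Q ∧ c * c * (c * c) ∈ Q := by
  obtain ⟨c, hc⟩ := C.surj mC1 det_eq.2.2.1
  have he : C.ρ (c * c) = mE := by rw [map_mul, hc, squares_eq.1]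
  refine ⟨c, hc, he, fun h' => ne_one.1 ?_, C.sq_mem_of_ρ (by rw [he, dihedral_eq.2.2.1])⟩
  rw [← he, C.ker]
  exact h'

theorem case_two.{u} {X : Type u} [Group X] [Finite X] {Q : Subgroup X} (h : Hyp Q)
    (IH : Below.{u} (Nat.card X)) (R : Subgroup X) [R.Normal] (hcR : Nat.card R = 8)
    (hR2 : ∀ r ∈ R, r * r = 1) (hRc : ∀ r ∈ R, ∀ q ∈ Q, r * q = q * r)
    (hfree : ∀ r ∈ R, r ≠ 1 → ∃ x : X, x * r * x⁻¹ ≠ r) (hgen : R ≤ sqSub Q)
    (hsq : ∀ q ∈ Q, q * q ∈ R)
    (hcQ : Nat.card Q = 8 * Nat.card R ∨ Nat.card Q = 16 * Nat.card R) : False := by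
  classical
  have hRQ : R ≤ Q := hgen.trans (sqSub_le Q)
  have hQR' : ∀ q ∈ Q, ∀ r ∈ R, q * r * q⁻¹ = r := fun q hq r hr => by
    rw [← hRc r hr q hq, mul_inv_cancel_right]
  have hfixone : ∀ r ∈ R, (∀ x : X, x * r * x⁻¹ = r) → r = 1 := fun r hr hx => by
    by_contra hr1
    obtain ⟨x, hx'⟩ := hfree r hr hr1
    exact hx' (hx x)
  have hcomm := comm_mem' hsq hRc
  have hnot : ¬ ∀ q ∈ Q, q * q = 1 := by
    intro hall
    have h1 : R ≤ ⊥ := hgen.trans ((Subgroup.closure_le ⊥).mpr (by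
      rintro _ ⟨q, hq, rfl⟩
      exact Subgroup.mem_bot.mpr (hall q hq)))
    have h2 := Subgroup.card_le_of_le h1
    rw [hcR, Subgroup.card_bot] at h2
    omega
  have hne := exists_seven_moves h hR2 hRc hgen
  rcases hcQ with hc8 | hc16
  · obtain ⟨x, -, q, hq, hxq⟩ := hne
    obtain ⟨C⟩ := exists_chart h inferInstance h.normal hRQ hc8 hsq hcomm ⟨x, q, hq, hxq⟩
    rcases squares_chart h C inferInstance hcR hR2 hQR' hfree hRc hR2 (fun a ha b hb => hRc a ha b hb)
      hsq with h1 | ⟨hab, CR, hρ, hκ⟩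
    · exact hnot h1
    · exact homocyclic_contra h C CR hρ hab hκ hcR
  have hQ128 : Nat.card Q = 128 := by rw [hc16, hcR]
  have hsq1 : ∀ c ∈ Q, (∀ x : X, x * c * x⁻¹ * c⁻¹ ∈ R) → c * c = 1 := fun c hc hcfix =>
    hfixone _ (hsq c hc) fun x => by
      rw [show x * (c * c) * x⁻¹ = x * c * x⁻¹ * (x * c * x⁻¹) by group]
      exact sq_eq_of_congr hR2 (fun r hr => hRc r hr c hc) (hcfix x)
  rcases section16 h h.normal hRQ hc16 hsq hcomm hne with
    ⟨H, hHn, hRH, hHQ, hcH, ⟨C⟩⟩ | ⟨f, hf, hfR, hffix, F, ⟨C⟩, hF, hswap⟩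
  · -- an invariant natural submodule
    haveI := hHn
    rcases squares_chart h C inferInstance hcR hR2 hQR' hfree (fun r hr b hb => hRc r hr b (hHQ hb))
      hR2 (fun a ha b hb => hRc a ha b (hHQ hb)) (fun b hb => hsq b (hHQ hb))
      with h1 | ⟨hab, CR, hρ, hκ⟩
    · have h2 := h.rank H ⊥ bot_le
        (fun x _ y hy => by rw [Subgroup.mem_bot] at hy ⊢; rw [hy]; group)
        (fun x hx => Subgroup.mem_bot.mpr (h1 x hx))
      rw [hcH, hcR, Subgroup.card_bot] at h2
      omega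
    have hcQ2 : Nat.card Q = 2 * Nat.card H := by rw [hc16, hcH]; ring
    obtain ⟨c₁, hc₁, he, heQ, he2⟩ := C.root_element
    set e := c₁ * c₁ with hedef
    set y := e * e with hydef
    by_cases hyH : y ∈ H
    · have := half_bound h C IH H hHQ hcQ2 ⟨e, heQ, hyH⟩
      rw [hcH, hcR] at this
      omega
    obtain ⟨c, hc, hcH', hcfix⟩ := fixed_outside (A := R) h hHn h.normal hRH hHQ hcH hc16 hcomm heQ he2
      he2 hyH (by rw [hydef, show e * (e * e) * e⁻¹ * (e * e)⁻¹ = 1 by group]; exact R.one_mem)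
    have hc2 : c * c = 1 := hsq1 c hc hcfix
    have hc2R : c * c ∈ R := hc2 ▸ R.one_mem
    have hydec : c⁻¹ * y ∈ H := (two_cosets hHQ hcQ2 hc hcH' he2).resolve_left hyH
    have hgc : ∀ x : X, x * c * x⁻¹ = (x * c * x⁻¹ * c⁻¹) * c := fun x => by group
    -- `c` commutes with `H`
    let φ : X → X := fun b => c * b * c⁻¹ * b⁻¹
    have hφR : ∀ b ∈ H, φ b ∈ R := fun b hb => hcomm c hc b (hHQ hb)
    have hφκ : ∀ a ∈ H, ∀ b ∈ H, C.κ a = C.κ b → φ a = φ b := by
      intro a ha b hb hab'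
      have h1 := C.mem_of_eq ha hb hab'
      have h2 : φ (a⁻¹ * b) = 1 := by
        show c * (a⁻¹ * b) * c⁻¹ * (a⁻¹ * b)⁻¹ = 1
        rw [← hRc _ h1 c hc]; group
      have h3 := comm_mul_right (c := c) (a := a) (b := a⁻¹ * b)
        (hRc _ (hφR _ (mul_mem (inv_mem ha) hb)) a (hHQ ha)).symm
      rw [mul_inv_cancel_left] at h3
      show φ a = φ b
      calc φ a = φ a * φ (a⁻¹ * b) := by rw [h2, mul_one]
        _ = φ b := h3.symm
    have hφconj : ∀ (x : X), ∀ b ∈ H, x * φ b * x⁻¹ = φ (x * b * x⁻¹) := by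
      intro x b hb
      have hg := hcfix x
      calc x * φ b * x⁻¹ = (x * c * x⁻¹) * (x * b * x⁻¹) * (x * c * x⁻¹)⁻¹ * (x * b * x⁻¹)⁻¹ := by
            show x * (c * b * c⁻¹ * b⁻¹) * x⁻¹ = _
            group
        _ = φ (x * b * x⁻¹) := by
            have hxb : x * b * x⁻¹ ∈ Q := h.normal.conj_mem b (hHQ hb) x
            show _ = c * (x * b * x⁻¹) * c⁻¹ * (x * b * x⁻¹)⁻¹
            generalize x * b * x⁻¹ = b' at hxb ⊢
            rw [hgc x]
            generalize x * c * x⁻¹ * c⁻¹ = g at hg ⊢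
            have h1 : g * (c * b' * c⁻¹) = (c * b' * c⁻¹) * g :=
              hRc g hg _ (mul_mem (mul_mem hc hxb) (inv_mem hc))
            calc g * c * b' * (g * c)⁻¹ * b'⁻¹ = g * (c * b' * c⁻¹) * g⁻¹ * b'⁻¹ := by group
              _ = c * b' * c⁻¹ * b'⁻¹ := by rw [h1]; group
    obtain ⟨x₂, hx₂, hx₂κ⟩ := C.onto b2
    have hφ0 : φ x₂ = 1 := by
      have hd : CR.κ (φ x₂) = 0 ∨ CR.κ (φ x₂) = b2 := by
        refine point_fixed _ fun M hM hMb => ?_
        obtain ⟨x, hx⟩ := C.surj M hM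
        have h1 := CR.equiv x _ (hφR _ hx₂)
        rw [hφconj x _ hx₂, hρ, hx] at h1
        rw [← h1]
        congr 1
        exact hφκ _ (C.conj_mem x hx₂) _ hx₂ (by rw [C.equiv x _ hx₂, hx, hx₂κ, hMb])
      rcases hd with h0 | h2
      · exact Subgroup.mem_bot.mp ((CR.zero _ (hφR _ hx₂)).mp h0)
      exfalso
      -- `e²` induces `(1 + E)` on the coset of `x₂`
      set g := x₂⁻¹ * (e * x₂ * e⁻¹) with hgdef
      have hgR : g ∈ R := C.mem_of_eq hx₂ (C.conj_mem e hx₂) (by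
        rw [C.equiv e _ hx₂, he, hx₂κ]
        have := act_basis.2.2.1
        calc b2 = mE *ᵥ b2 + b2 + b2 := by rw [this, zero_add]
          _ = mE *ᵥ b2 := by rw [add_assoc, add_self3, add_zero])
      have hu : c * x₂ * c⁻¹ * x₂⁻¹ = g * (e * g * e⁻¹) := by
        have hy1 : y * x₂ * y⁻¹ = x₂ * (g * (e * g * e⁻¹)) := by
          calc y * x₂ * y⁻¹ = e * (x₂ * g) * e⁻¹ := by rw [hgdef, hydef]; group
            _ = e * x₂ * e⁻¹ * (e * g * e⁻¹) := by group
            _ = x₂ * (g * (e * g * e⁻¹)) := by rw [← mul_assoc x₂, hgdef, mul_inv_cancel_left]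
        have hy2 : y * x₂ * y⁻¹ = c * x₂ * c⁻¹ := by
          have h1 := hab _ hydec _ hx₂
          calc y * x₂ * y⁻¹ = c * ((c⁻¹ * y) * x₂ * (c⁻¹ * y)⁻¹) * c⁻¹ := by group
            _ = c * x₂ * c⁻¹ := by rw [h1, mul_inv_cancel_right]
        have hmem : g * (e * g * e⁻¹) ∈ R :=
          mul_mem hgR (Subgroup.Normal.conj_mem inferInstance g hgR e)
        rw [← hy2, hy1, ← hRc _ hmem x₂ (hHQ hx₂), mul_inv_cancel_right]
      change CR.κ (c * x₂ * c⁻¹ * x₂⁻¹) = b2 at h2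
      rw [hu, CR.mul _ hgR _ (Subgroup.Normal.conj_mem inferInstance g hgR e), CR.equiv e g hgR, hρ, he,
        add_comm] at h2
      rcases (act_four (CR.κ g)).1 with h1 | h1 <;> rw [h1] at h2
      · exact b_ne.2.1 h2.symm
      · exact b_ne.2.2.2.1 h2
    have hcH2 : ∀ b ∈ H, c * b = b * c := by
      intro b hb
      apply mul_inv_eq_iff_eq_mul.mp ∘ mul_inv_eq_one.mp
      show φ b = 1
      by_cases hb0 : C.κ b = 0
      · show c * b * c⁻¹ * b⁻¹ = 1
        rw [← hRc _ ((C.zero b hb).mp hb0) c hc]; group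
      obtain ⟨x, hx⟩ := C.exists_conj hx₂ (hx₂κ ▸ b_ne.2.1) hb0
      rw [← hφκ _ (C.conj_mem x hx₂) b hb hx, ← hφconj x _ hx₂, hφ0]
      group
    have hcQc : ∀ q ∈ Q, q * c = c * q := by
      intro q hq
      rcases two_cosets hHQ hcQ2 hc hcH' hq with h1 | h1
      · exact (hcH2 q h1).symm
      · have h2 := hcH2 _ h1
        calc q * c = c * ((c⁻¹ * q) * c) := by group
          _ = c * (c * (c⁻¹ * q)) := by rw [h2]
          _ = c * q := by group
    -- the elementary group `K`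
    let K := pairSub R c hc2R
    have hKn : K.Normal := pairSub_normal hcfix
    have hcR' : c ∉ R := fun h' => hcH' (hRH h')
    have hKc : Nat.card K = 2 * Nat.card R := card_pairSub hcR'
    have hKQ : ∀ q ∈ Q, ∀ b ∈ K, q * b * q⁻¹ * b⁻¹ ∈ (⊥ : Subgroup X) := by
      intro q hq b hb
      rw [Subgroup.mem_bot]
      rcases mem_pairSub.mp hb with hb | hb
      · rw [hQR' q hq b hb, mul_inv_cancel]
      · have h1 : Commute q c := hcQc q hq
        have h2 : Commute q (c⁻¹ * b) := (hRc _ hb q hq).symm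
        have h3 := h1.mul_right h2
        rw [mul_inv_cancel_left] at h3
        rw [h3.eq, mul_inv_cancel_right, mul_inv_cancel]
    have hK2 : ∀ k ∈ K, k * k = 1 := by
      intro k hk
      rcases mem_pairSub.mp hk with hk | hk
      · exact hR2 k hk
      · calc k * k = c * ((c⁻¹ * k) * c) * (c⁻¹ * k) := by group
          _ = c * c * ((c⁻¹ * k) * (c⁻¹ * k)) := by rw [hRc _ hk c hc]; group
          _ = 1 := by rw [hc2, hR2 _ hk, one_mul]
    have hnofix : ∀ k ∈ K, k ∉ R → ∀ g : X, g ∉ Q → g * g ∈ Q → g * k * g⁻¹ ≠ k := by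
      intro k hk hkR g hgQ hg2 hgk
      obtain ⟨k', hk', hk'R, hk'fix⟩ := fixed_outside (A := (⊥ : Subgroup X)) h (H := R) inferInstance hKn
        bot_le (fun r hr => Or.inl hr) (by rw [Subgroup.card_bot, hcR]) (by
          rw [Subgroup.card_bot, hKc, hcR]) hKQ hgQ hg2 hk hkR (by
          rw [Subgroup.mem_bot, hgk, mul_inv_cancel])
      have hk'Q : k' ∈ Q := by
        rcases mem_pairSub.mp hk' with h1 | h1
        · exact hRQ h1
        · rw [← mul_inv_cancel_left c k']; exact mul_mem hc (hRQ h1)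
      have h1 := involution_bound h IH hk'Q (fun h1 => hk'R (h1 ▸ R.one_mem)) (hK2 k' hk') fun x =>
        mul_inv_eq_one.mp (Subgroup.mem_bot.mp (hk'fix x))
      omega
    have hey : e * y * e⁻¹ = y := by rw [hydef]; group
    set b := c⁻¹ * y with hbdef
    have hby : y = c * b := by rw [hbdef, mul_inv_cancel_left]
    have hκb : C.κ b = 0 ∨ C.κ b = b1 := by
      refine (fixed_root _).1 ?_
      have hb' : b⁻¹ * (c₁ * b * c₁⁻¹) ∈ R := by
        have h1 : c₁ * b * c₁⁻¹ = (c₁ * c * c₁⁻¹)⁻¹ * y := by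
          rw [hbdef, hydef, hedef]; group
        have h2 : c₁ * b * c₁⁻¹ = c⁻¹ * (c₁ * c * c₁⁻¹ * c⁻¹)⁻¹ * c⁻¹⁻¹ * b := by
          rw [h1, hbdef]; group
        rw [h2, ← mul_assoc]
        have h3 := Subgroup.Normal.conj_mem (inferInstance : R.Normal) _ (inv_mem (hcfix c₁)) c⁻¹
        have h4 := Subgroup.Normal.conj_mem (inferInstance : R.Normal) _ h3 b⁻¹
        rwa [inv_inv b] at h4
      have h1 := C.eq_of_mem hydec (C.conj_mem c₁ hydec) hb'
      rw [C.equiv c₁ b hydec, hc₁] at h1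
      exact h1.symm
    rcases hκb with h0 | h1
    · refine hnofix y (mem_pairSub.mpr (Or.inr ((C.zero b hydec).mp h0))) (fun h' => hyH (hRH h')) e heQ he2 ?_
      exact hey
    · obtain ⟨x₃, hx₃, hx₃κ⟩ := C.onto b3
      set ν := e * x₃ * e⁻¹ * x₃ with hν
      have hνH : ν ∈ H := mul_mem (C.conj_mem e hx₃) hx₃
      have hνκ : C.κ ν = b1 := by
        rw [C.mul _ (C.conj_mem e hx₃) _ hx₃, C.equiv _ _ hx₃, he, hx₃κ]
        exact act_basis.1
      have hνe : e * ν * e⁻¹ = ν := by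
        calc e * ν * e⁻¹ = y * x₃ * y⁻¹ * (e * x₃ * e⁻¹) := by rw [hν, hydef]; group
          _ = x₃ * (e * x₃ * e⁻¹) := by
              congr 1
              rw [hby, show c * b * x₃ * (c * b)⁻¹ = c * (b * x₃) * b⁻¹ * c⁻¹ by group,
                hab b hydec x₃ hx₃, show c * (x₃ * b) * b⁻¹ * c⁻¹ = c * x₃ * c⁻¹ by group,
                hcH2 x₃ hx₃, mul_inv_cancel_right]
          _ = ν := hab _ hx₃ _ (C.conj_mem e hx₃)
      have hr : ν⁻¹ * b ∈ R := C.mem_of_eq hνH hydec (hνκ.trans h1.symm)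
      refine hnofix (c * (ν⁻¹ * b)) (mem_pairSub.mpr (Or.inr (by rwa [inv_mul_cancel_left])))
        (fun h' => hcR' (by
          rw [show c = c * (ν⁻¹ * b) * (ν⁻¹ * b)⁻¹ by group]; exact mul_mem h' (inv_mem hr))) e heQ he2 ?_
      have h2 : c * (ν⁻¹ * b) = ν⁻¹ * y := by
        calc c * (ν⁻¹ * b) = c * ν⁻¹ * b := by rw [mul_assoc]
          _ = ν⁻¹ * c * b := by rw [hcH2 _ (inv_mem hνH)]
          _ = ν⁻¹ * y := by rw [mul_assoc, ← hby]
      rw [h2]
      calc e * (ν⁻¹ * y) * e⁻¹ = (e * ν * e⁻¹)⁻¹ * (e * y * e⁻¹) := by group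
        _ = ν⁻¹ * y := by rw [hνe, hey]
  · -- a fixed coset and a single class outside
    have hf2 : f * f = 1 := hsq1 f hf hffix
    have hFQ : F ≤ Q := C.le
    have hfF : f ∈ F := (hF f).mpr (Or.inr (by rw [inv_mul_cancel]; exact one_mem R))
    have hRF : R ≤ F := fun a ha => (hF a).mpr (Or.inl ha)
    have hnotF : ∀ b ∈ Q, C.κ b ≠ 0 → b ∉ F := fun b hb hb0 h' => hb0 ((C.zero b hb).mpr h')
    obtain ⟨b, hb, hbκ⟩ := C.onto b1
    have hb0 : C.κ b ≠ 0 := hbκ ▸ b_ne.1
    have hbfF : b * f ∉ F := fun h' => hnotF b hb hb0 (by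
      rw [show b = b * f * f⁻¹ by group]; exact mul_mem h' (inv_mem hfF))
    obtain ⟨x, hx⟩ := hswap b hb (b * f) (mul_mem hb hf) (hnotF b hb hb0) hbfF
    have hxρ : C.ρ x *ᵥ b1 = b1 := by
      have h1 : (x * b * x⁻¹)⁻¹ * b ∈ F := by
        have h2 : (x * b * x⁻¹ * (b * f)⁻¹) ∈ F := hRF hx
        have h3 : (x * b * x⁻¹)⁻¹ * b = (b * f)⁻¹ * (x * b * x⁻¹ * (b * f)⁻¹)⁻¹ * (b * f)⁻¹⁻¹ * f⁻¹ := by
          group
        rw [h3]
        exact mul_mem (C.normalA.conj_mem _ (inv_mem h2) _) (inv_mem hfF)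
      have h2 := C.eq_of_mem (C.conj_mem x hb) hb h1
      rw [C.equiv x b hb, hbκ] at h2
      exact h2
    let φ : X → X := fun d => f * d * f⁻¹ * d⁻¹
    have hφR : ∀ d ∈ Q, φ d ∈ R := fun d hd => hcomm f hf d hd
    have hφF : ∀ a ∈ F, φ a = 1 := by
      intro a ha
      show f * a * f⁻¹ * a⁻¹ = 1
      rcases (hF a).mp ha with h1 | h1
      · rw [← hRc a h1 f hf]; group
      · calc f * a * f⁻¹ * a⁻¹ = f * (f * (f⁻¹ * a)) * f⁻¹ * (f⁻¹ * a)⁻¹ * f⁻¹ := by group
          _ = f * ((f⁻¹ * a) * f) * f⁻¹ * (f⁻¹ * a)⁻¹ * f⁻¹ := by rw [hRc _ h1 f hf]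
          _ = 1 := by group
    have hφκ : ∀ a ∈ Q, ∀ d ∈ Q, C.κ a = C.κ d → φ a = φ d := by
      intro a ha d hd had
      have h1 := hφF _ (C.mem_of_eq ha hd had)
      have h3 := comm_mul_right (c := f) (a := a) (b := a⁻¹ * d)
        (hRc _ (hφR _ (mul_mem (inv_mem ha) hd)) a ha).symm
      rw [mul_inv_cancel_left] at h3
      calc φ a = φ a * φ (a⁻¹ * d) := by rw [h1, mul_one]
        _ = φ d := h3.symm
    have hφconj : ∀ (z : X), ∀ d ∈ Q, z * φ d * z⁻¹ = φ (z * d * z⁻¹) := by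
      intro z d hd
      have hzd : z * d * z⁻¹ ∈ Q := h.normal.conj_mem d hd z
      have hg := hffix z
      show z * (f * d * f⁻¹ * d⁻¹) * z⁻¹ = f * (z * d * z⁻¹) * f⁻¹ * (z * d * z⁻¹)⁻¹
      rw [show z * (f * d * f⁻¹ * d⁻¹) * z⁻¹ =
        (z * f * z⁻¹ * f⁻¹) * (f * (z * d * z⁻¹) * f⁻¹) * (z * f * z⁻¹ * f⁻¹)⁻¹ *
          (z * d * z⁻¹)⁻¹ by group, hRc _ hg _ (mul_mem (mul_mem hf hzd) (inv_mem hf))]
      group
    by_cases hφ : ∃ d ∈ Q, φ d ≠ 1
    · -- `f` is not central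
      have hinj : ∀ a ∈ Q, ∀ d ∈ Q, φ a = φ d → C.κ a = C.κ d := by
        intro a ha d hd had
        have h3 := comm_mul_right (c := f) (a := a) (b := a⁻¹ * d)
          (hRc _ (hφR _ (mul_mem (inv_mem ha) hd)) a ha).symm
        rw [mul_inv_cancel_left] at h3
        have h1 : φ (a⁻¹ * d) = 1 := by
          have h4 : φ a * φ (a⁻¹ * d) = φ a := (h3.symm.trans had.symm : _)
          exact mul_eq_left.mp h4
        by_contra hne'
        obtain ⟨d₀, hd₀, hd₀1⟩ := hφ
        apply hd₀1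
        by_cases hd₀κ : C.κ d₀ = 0
        · exact hφF _ ((C.zero d₀ hd₀).mp hd₀κ)
        have hu : a⁻¹ * d ∈ Q := mul_mem (inv_mem ha) hd
        have hu0 : C.κ (a⁻¹ * d) ≠ 0 := fun h0 =>
          hne' (C.eq_of_mem ha hd ((C.zero _ hu).mp h0))
        obtain ⟨z, hz⟩ := C.exists_conj hu hu0 hd₀κ
        rw [← hφκ _ (C.conj_mem z hu) d₀ hd₀ hz, ← hφconj z _ hu, h1]
        group
      choose s hs hsκ using C.onto
      have hbij : Function.Bijective (fun v => (⟨φ (s v), hφR _ (hs v)⟩ : R)) := by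
        refine (Nat.bijective_iff_injective_and_card _).mpr ⟨fun u v huv => ?_, by rw [hcR]; simp⟩
        have h1 := hinj _ (hs u) _ (hs v) (congrArg Subtype.val huv)
        rwa [hsκ, hsκ] at h1
      -- `b²` is fixed by `x`
      have hb2fix : x * (b * b) * x⁻¹ = b * b := by
        obtain ⟨v, hv⟩ := hbij.surjective ⟨b * b, hsq b hb⟩
        have hv' : φ (s v) = b * b := congrArg Subtype.val hv
        have hroot : ∀ c : X, C.ρ c *ᵥ b1 = b1 → C.ρ (c * c) *ᵥ v = v := by
          intro c hc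
          have h1 : ∀ d ∈ Q, C.κ d = b1 → d * b⁻¹ ∈ R ∨ d * (b * f)⁻¹ ∈ R := by
            intro d hd hdκ
            rcases (hF _).mp (C.mem_of_eq hb hd (hbκ.trans hdκ.symm)) with h1 | h1
            · left
              rw [show d * b⁻¹ = b * (b⁻¹ * d) * b⁻¹ by group]
              exact Subgroup.Normal.conj_mem inferInstance _ h1 _
            · right
              rw [show d * (b * f)⁻¹ = b * f * (f⁻¹ * (b⁻¹ * d)) * (b * f)⁻¹ by group]
              exact Subgroup.Normal.conj_mem inferInstance _ h1 _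
          have hcb : c * b * c⁻¹ ∈ Q := h.normal.conj_mem b hb c
          have hfc := hffix c
          have h2 : c * c * b * (c * c)⁻¹ * b⁻¹ ∈ R := by
            rcases h1 _ hcb (by rw [C.equiv c b hb, hbκ, hc]) with h2 | h2
            · rw [show c * c * b * (c * c)⁻¹ * b⁻¹ =
                c * (c * b * c⁻¹ * b⁻¹) * c⁻¹ * (c * b * c⁻¹ * b⁻¹) by group]
              exact mul_mem (Subgroup.Normal.conj_mem inferInstance _ h2 c) h2
            · have e1 : c * c * b * (c * c)⁻¹ * b⁻¹ =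
                  c * (c * b * c⁻¹ * (b * f)⁻¹) * c⁻¹ *
                    ((c * b * c⁻¹ * (b * f)⁻¹) * (b * f * (c * f * c⁻¹ * f⁻¹) * (b * f)⁻¹) *
                      (b * (f * f) * b⁻¹)) := by
                group
              rw [e1, hf2]
              refine mul_mem (Subgroup.Normal.conj_mem inferInstance _ h2 c) (mul_mem (mul_mem h2
                (Subgroup.Normal.conj_mem inferInstance _ hfc _)) ?_)
              rw [mul_one, mul_inv_cancel]
              exact R.one_mem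
          have h3 := sq_eq_of_congr hR2 (fun r hr => hRc r hr b hb) h2
          have h4 : φ (c * c * s v * (c * c)⁻¹) = φ (s v) := by
            rw [← hφconj _ _ (hs v), hv', show c * c * (b * b) * (c * c)⁻¹ =
              c * c * b * (c * c)⁻¹ * (c * c * b * (c * c)⁻¹) by group]
            exact h3
          have h5 := hinj _ (h.normal.conj_mem _ (hs v) _) _ (hs v) h4
          rwa [C.equiv _ _ (hs v), hsκ] at h5
        obtain ⟨c₁, hc₁⟩ := C.surj mC1 det_eq.2.2.1
        obtain ⟨c₂, hc₂⟩ := C.surj mC2 det_eq.2.2.2.1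
        have hE : mE *ᵥ v = v := by
          have := hroot c₁ (by rw [hc₁]; decide +kernel)
          rwa [map_mul, hc₁, squares_eq.1] at this
        have hFv : mF *ᵥ v = v := by
          have := hroot c₂ (by rw [hc₂]; decide +kernel)
          rwa [map_mul, hc₂, squares_eq.2.1] at this
        rw [← hv', hφconj x _ (hs v)]
        refine hφκ _ (C.conj_mem x (hs v)) _ (hs v) ?_
        rw [C.equiv x _ (hs v), hsκ]
        rcases fixed_four v hE hFv with h0 | h1
        · rw [h0, mulVec_zero]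
        · rw [h1, hxρ]
      -- but the squares over `b1` differ
      have h1 : b * f * (b * f) = x * (b * b) * x⁻¹ := by
        rw [show x * (b * b) * x⁻¹ = x * b * x⁻¹ * (x * b * x⁻¹) by group]
        exact (sq_eq_of_congr hR2 (fun r hr => hRc r hr _ (mul_mem hb hf)) hx).symm
      rw [hb2fix] at h1
      have h2 : φ b = 1 := by
        have h3 : b * (f * b) * f = b * b * (f * f) := by
          rw [hf2, mul_one, ← h1]; group
        have h4 : f * b = b * f := by
          calc f * b = b⁻¹ * (b * (f * b) * f) * f⁻¹ := by group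
            _ = b * f := by rw [h3]; group
        show f * b * f⁻¹ * b⁻¹ = 1
        rw [h4]; group
      obtain ⟨d₀, hd₀, hd₀1⟩ := hφ
      apply b_ne.1
      rw [← hbκ, ← C.κ_one]
      exact hinj b hb 1 Q.one_mem (h2.trans (hφF 1 F.one_mem).symm)
    push_neg at hφ
    have hfc : ∀ q ∈ Q, f * q = q * f := fun q hq =>
      mul_inv_eq_iff_eq_mul.mp (mul_inv_eq_one.mp (hφ q hq))
    have hFc : ∀ a ∈ F, ∀ q ∈ Q, a * q = q * a := by
      intro a ha q hq
      rcases (hF a).mp ha with h1 | h1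
      · exact hRc a h1 q hq
      · rw [← mul_inv_cancel_left f a]
        exact (Commute.mul_left (hfc q hq) (hRc _ h1 q hq)).eq
    have hF2 : ∀ a ∈ F, a * a = 1 := by
      intro a ha
      rcases (hF a).mp ha with h1 | h1
      · exact hR2 a h1
      · calc a * a = f * ((f⁻¹ * a) * f) * (f⁻¹ * a) := by group
          _ = f * f * ((f⁻¹ * a) * (f⁻¹ * a)) := by rw [hRc _ h1 f hf]; group
          _ = 1 := by rw [hf2, hR2 _ h1, one_mul]
    rcases squares_chart h C inferInstance hcR hR2 hQR' hfree hRc hF2 hFc hsq with h1 | ⟨hab, -⟩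
    · exact hnot h1
    have hFcard : Nat.card F = 16 := by
      have := C.relIndex_card
      rw [hQ128] at this
      omega
    -- every involution fixing `b1` fixes the coset of `b`
    set π := QuotientGroup.mk' R with hπ
    set P : Subgroup X := (Subgroup.centralizer {π b}).comap π with hPdef
    have hπ1 : ∀ z, π z = 1 ↔ z ∈ R := fun z => QuotientGroup.eq_one_iff z
    have hP : ∀ z, z ∈ P ↔ z * b * z⁻¹ * b⁻¹ ∈ R := fun z => by
      rw [hPdef, Subgroup.mem_comap, Subgroup.mem_centralizer_singleton_iff, ← hπ1, map_mul, map_mul,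
        map_mul, map_inv, map_inv, mul_inv_eq_one, mul_inv_eq_iff_eq_mul, eq_comm]
    have hQP : ∀ q ∈ Q, q ∈ P := fun q hq => (hP q).mpr (hcomm q hq b hb)
    have hinvol : ∀ t : X, C.ρ t * C.ρ t = 1 → C.ρ t ≠ 1 → C.ρ t *ᵥ b1 = b1 → t ∈ P := by
      intro t ht ht1 htb
      set g := b⁻¹ * (t * b * t⁻¹) with hgdef
      have hgF : g ∈ F := C.mem_of_eq hb (C.conj_mem t hb) (by rw [C.equiv t b hb, hbκ, htb])
      have ht2 : t * t ∈ Q := C.sq_mem_of_ρ ht
      have htg : t * g * t⁻¹ = g := by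
        have h1 : t * t * b * (t * t)⁻¹ = b := by rw [hab _ ht2 b hb, mul_inv_cancel_right]
        have h2 : g * (t * g * t⁻¹) = 1 := by
          calc g * (t * g * t⁻¹) = b⁻¹ * (t * t * b * (t * t)⁻¹) := by rw [hgdef]; group
            _ = 1 := by rw [h1, inv_mul_cancel]
        calc t * g * t⁻¹ = g * g * (t * g * t⁻¹) := by rw [hF2 g hgF, one_mul]
          _ = g := by rw [mul_assoc, h2, mul_one]
      by_cases hgR : g ∈ R
      · rw [hP, show t * b * t⁻¹ * b⁻¹ = b * g * b⁻¹ by rw [hgdef]; group]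
        exact Subgroup.Normal.conj_mem inferInstance g hgR b
      exfalso
      obtain ⟨k, hk, hkR, hkfix⟩ := fixed_outside (A := (⊥ : Subgroup X)) h (H := R) inferInstance
        C.normalA bot_le hRF (by rw [Subgroup.card_bot, hcR]) (by rw [Subgroup.card_bot, hFcard])
        (fun q hq a ha => by
          rw [Subgroup.mem_bot, ← hFc a ha q hq, mul_inv_cancel_right, mul_inv_cancel])
        (fun h' => ht1 ((C.ker t).mpr h')) ht2 hgF hgR (by rw [Subgroup.mem_bot, htg, mul_inv_cancel])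
      have h1 := involution_bound h IH (hFQ hk) (fun h1 => hkR (h1 ▸ R.one_mem)) (hF2 k hk) fun z =>
        mul_inv_eq_one.mp (Subgroup.mem_bot.mp (hkfix z))
      omega
    have hwords : ∀ (n : ℕ) (W : M3), W ∈ stabWords n → ∀ z, C.ρ z = W → z ∈ P := by
      intro n
      induction n with
      | zero =>
        intro W hW z hz
        rw [stabWords, List.mem_singleton] at hW
        exact hQP z ((C.ker z).mp (hz.trans hW))
      | succ n ih =>
        intro W hW z hz
        rw [stabWords, List.mem_append, List.mem_flatMap] at hW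
        rcases hW with hW | ⟨W', hW', hmem⟩
        · exact ih W hW z hz
        obtain ⟨T, hT, hT1, hTb, hTd, rfl⟩ : ∃ T : M3, T * T = 1 ∧ T ≠ 1 ∧ T *ᵥ b1 = b1 ∧ T.det = 1 ∧
            W = W' * T := by
          simp only [List.mem_cons, List.not_mem_nil, or_false] at hmem
          rcases hmem with rfl | rfl | rfl
          · exact ⟨mT1, stab_gens.1, stab_gens.2.1, stab_gens.2.2.1, det_eq.2.2.2.2.2.2.1, rfl⟩
          · exact ⟨mT2, stab_gens.2.2.2.1, stab_gens.2.2.2.2.1, stab_gens.2.2.2.2.2,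
              det_eq.2.2.2.2.2.2.2, rfl⟩
          · exact ⟨mE, dihedral_eq.2.2.1, ne_one.1, act_basis.2.2.2.2.1, det_eq.1, rfl⟩
        obtain ⟨t, rfl⟩ := C.surj T hTd
        rw [← inv_mul_cancel_right z t]
        refine mul_mem (ih W' hW' _ ?_) (hinvol t hT hT1 hTb)
        rw [map_mul, hz, mul_assoc, C.ρ_mul_inv, mul_one]
    have hxP : x ∈ P := hwords 4 _ (stab_words _ (C.det x) hxρ) x rfl
    apply hfR
    have h1 := mul_mem (inv_mem hx) ((hP x).mp hxP)
    rw [show (x * b * x⁻¹ * (b * f)⁻¹)⁻¹ * (x * b * x⁻¹ * b⁻¹) = b * f * b⁻¹ by group] at h1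
    have h2 := Subgroup.Normal.conj_mem (inferInstance : R.Normal) _ h1 b⁻¹
    rwa [show b⁻¹ * (b * f * b⁻¹) * b⁻¹⁻¹ = f by group] at h2

end Cfsg.Agent.Lib.L32Core58
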