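import Mathlib

/-!
Computations in `GL(3,2)` and in its lifts over `ℤ/4`, used for `2`-constrained groups with top
`L₃(2)` and sectional `2`-rank at most `4`.
-/

set_option autoImplicit false

namespace Cfsg.Agent.Lib.L32Core58

open Matrix

/-- `3 × 3` matrices over the field with two elements. -/
abbrev M3 : Type := Matrix (Fin 3) (Fin 3) (ZMod 2)

/-- Column vectors of length three over the field with two elements. -/
abbrev V3 : Type := Fin 3 → ZMod 2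

/-- The first unit vector. -/
def b1 : V3 := ![1, 0, 0]

/-- The second unit vector. -/
def b2 : V3 := ![0, 1, 0]

/-- The third unit vector. -/
def b3 : V3 := ![0, 0, 1]

/-- The transvection with centre `b1` and axis `⟨b1, b2⟩`. -/
def mE : M3 := !![1, 0, 1; 0, 1, 0; 0, 0, 1]

/-- The transvection with centre `b1` and axis `⟨b1, b3⟩`. -/
def mF : M3 := !![1, 1, 0; 0, 1, 0; 0, 0, 1]

/-- The product of `mE` and `mF`. -/
def mG : M3 := !![1, 1, 1; 0, 1, 0; 0, 0, 1]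

/-- A square root of `mE`. -/
def mC1 : M3 := !![1, 1, 0; 0, 1, 1; 0, 0, 1]

/-- A square root of `mF`. -/
def mC2 : M3 := !![1, 0, 1; 0, 1, 0; 0, 1, 1]

/-- A square root of `mG`. -/
def mC3 : M3 := !![1, 1, 0; 0, 0, 1; 0, 1, 0]

/-- An involution inverting `mC1`. -/
def mD1 : M3 := !![1, 0, 0; 0, 1, 1; 0, 0, 1]

/-- An involution fixing `b1`. -/
def mT1 : M3 := !![1, 0, 0; 0, 0, 1; 0, 1, 0]

/-- A second involution fixing `b1`. -/
def mT2 : M3 := !![1, 0, 0; 0, 1, 0; 0, 1, 1]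

/-- The matrix with rows read from nine entries. -/
def mk9 (f : Fin 3 → Fin 3 → ZMod 2) : M3 := Matrix.of f

theorem forall_M3 {P : M3 → Prop} (h : ∀ f : Fin 3 → Fin 3 → ZMod 2, P (mk9 f)) (M : M3) : P M :=
  h (fun i j => M i j)

theorem card_det_one : Fintype.card {M : M3 // M.det = 1} = 168 := by decide +kernel

theorem squares_eq : mC1 * mC1 = mE ∧ mC2 * mC2 = mF ∧ mC3 * mC3 = mG ∧ mE * mF = mG := by
  decide +kernel

theorem det_eq :
    mE.det = 1 ∧ mF.det = 1 ∧ mC1.det = 1 ∧ mC2.det = 1 ∧ mC3.det = 1 ∧ mD1.det = 1 ∧ mT1.det = 1 ∧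
      mT2.det = 1 := by decide +kernel

theorem ne_one : mE ≠ 1 ∧ mF ≠ 1 ∧ mG ≠ 1 ∧ mC1 ≠ 1 := by decide +kernel

theorem dihedral_eq :
    mD1 * mD1 = 1 ∧ mC1 * mD1 * (mC1 * mD1) = 1 ∧ mE * mE = 1 ∧ mF * mF = 1 ∧ mG * mG = 1 := by
  decide +kernel

theorem fixed_root (v : V3) :
    (mC1 *ᵥ v = v → v = 0 ∨ v = b1) ∧ (mC2 *ᵥ v = v → v = 0 ∨ v = b1) ∧
      (mC3 *ᵥ v = v → v = 0 ∨ v = b1) := by
  revert v; decide +kernel

theorem fixed_four (v : V3) : mE *ᵥ v = v → mF *ᵥ v = v → v = 0 ∨ v = b1 := by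
  revert v; decide +kernel

theorem act_four (v : V3) :
    (mE *ᵥ v + v = 0 ∨ mE *ᵥ v + v = b1) ∧ (mF *ᵥ v + v = 0 ∨ mF *ᵥ v + v = b1) ∧
      (mG *ᵥ v + v = 0 ∨ mG *ᵥ v + v = b1) := by
  revert v; decide +kernel

theorem act_basis :
    mE *ᵥ b3 + b3 = b1 ∧ mF *ᵥ b2 + b2 = b1 ∧ mE *ᵥ b2 + b2 = 0 ∧ mG *ᵥ b2 + b2 = b1 ∧
      mE *ᵥ b1 = b1 ∧ mF *ᵥ b1 = b1 ∧ mG *ᵥ b1 = b1 := by decide +kernel

theorem b_ne : b1 ≠ 0 ∧ b2 ≠ 0 ∧ b3 ≠ 0 ∧ b1 ≠ b2 ∧ b1 + b2 ≠ 0 := by decide +kernel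

/-- Transitivity on the ordered pairs of distinct nonzero vectors. -/
theorem exists_move (u v : V3) : u ≠ 0 → v ≠ 0 → u ≠ v →
    ∃ M : M3, M.det = 1 ∧ M *ᵥ b1 = u ∧ M *ᵥ b2 = v := by
  revert u v; decide +kernel

/-- Transitivity on the nonzero vectors. -/
theorem exists_move_one (v : V3) : v ≠ 0 → ∃ M : M3, M.det = 1 ∧ M *ᵥ b1 = v := by
  revert v; decide +kernel

/-- No nonzero vector is fixed by the stabiliser of the line through `b1` and `b2`. -/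
theorem line_fixed (v : V3) : (∀ M : M3, M.det = 1 →
    (M *ᵥ b1 = b2 ∧ M *ᵥ b2 = b1 + b2 ∨ M *ᵥ b1 = b1 ∧ M *ᵥ b2 = b2) → M *ᵥ v = v) → v = 0 := by
  revert v; decide +kernel

/-- Only `0` and `u` are fixed by the stabiliser of `u = b2`. -/
theorem point_fixed (v : V3) : (∀ M : M3, M.det = 1 → M *ᵥ b2 = b2 → M *ᵥ v = v) → v = 0 ∨ v = b2 := by
  revert v; decide +kernel

/-- Every involution is conjugate to `mE`. -/
theorem involution_conj (M : M3) : M * M = 1 → M ≠ 1 →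
    ∃ P : M3, P.det = 1 ∧ P * mE = M * P := by
  revert M; decide +kernel

/-- Words of bounded length in three involutions fixing `b1`. -/
def stabWords : ℕ → List M3
  | 0 => [1]
  | k + 1 => stabWords k ++ (stabWords k).flatMap fun W => [W * mT1, W * mT2, W * mE]

theorem stab_words (M : M3) : M.det = 1 → M *ᵥ b1 = b1 → M ∈ stabWords 4 := by
  revert M; decide +kernel

theorem stab_gens :
    mT1 * mT1 = 1 ∧ mT1 ≠ 1 ∧ mT1 *ᵥ b1 = b1 ∧ mT2 * mT2 = 1 ∧ mT2 ≠ 1 ∧ mT2 *ᵥ b1 = b1 := by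
  decide +kernel

/-! ### Lifts over `ℤ/4` -/

/-- `3 × 3` matrices over `ℤ/4`. -/
abbrev N3 : Type := Matrix (Fin 3) (Fin 3) (ZMod 4)

/-- Reduction modulo two. -/
def red (A : N3) : M3 := A.map (ZMod.castHom (by norm_num : 2 ∣ 4) (ZMod 2))

/-- The lift with digit matrix `d` of a matrix over the field with two elements. -/
def lift4 (M : M3) (d : Fin 3 → Fin 3 → Fin 2) : N3 :=
  Matrix.of fun i j => ((M i j).val : ZMod 4) + 2 * ((d i j).val : ZMod 4)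

theorem exists_lift4 (A : N3) : ∃ d, A = lift4 (red A) d := by
  have h : ∀ x : ZMod 4, ∃ d : Fin 2, x =
      (((ZMod.castHom (by norm_num : 2 ∣ 4) (ZMod 2)) x).val : ZMod 4) + 2 * (d.val : ZMod 4) := by
    decide +kernel
  choose d hd using h
  exact ⟨fun i j => d (A i j), by ext i j; exact hd (A i j)⟩

/-- A lift of determinant one of each root of an involution, of order dividing four, satisfies
`(C - 1)(C² + 1) = 0`. -/
theorem lift_identity (d : Fin 3 → Fin 3 → Fin 2) :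
    ((lift4 mC1 d).det = 1 → lift4 mC1 d * lift4 mC1 d * (lift4 mC1 d * lift4 mC1 d) = 1 →
      lift4 mC1 d * (lift4 mC1 d * lift4 mC1 d + 1) = lift4 mC1 d * lift4 mC1 d + 1) ∧
    ((lift4 mC2 d).det = 1 → lift4 mC2 d * lift4 mC2 d * (lift4 mC2 d * lift4 mC2 d) = 1 →
      lift4 mC2 d * (lift4 mC2 d * lift4 mC2 d + 1) = lift4 mC2 d * lift4 mC2 d + 1) ∧
    ((lift4 mC3 d).det = 1 → lift4 mC3 d * lift4 mC3 d * (lift4 mC3 d * lift4 mC3 d) = 1 →
      lift4 mC3 d * (lift4 mC3 d * lift4 mC3 d + 1) = lift4 mC3 d * lift4 mC3 d + 1) := by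
  revert d; decide +kernel

end Cfsg.Agent.Lib.L32Core58
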