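import Cfsg.Agent.Lib.L32Core58.Basic
import Cfsg.Agent.Lib.L32Core58.Matrices

/-!
Charts: an elementary section `B/A` of order eight not centralised by `X` is the natural module,
read off by a map to column vectors and a representation onto the `3 × 3` matrices of
determinant one.
-/

set_option autoImplicit false

namespace Cfsg.Agent.Lib.L32Core58

open Matrix

variable {X : Type*} [Group X]

/-- A natural-module chart on the section `B/A`. -/
structure Chart (Q A B : Subgroup X) where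
  /-- the representation -/
  ρ : X →* M3
  /-- the coordinates -/
  κ : X → V3
  det : ∀ x, (ρ x).det = 1
  surj : ∀ M : M3, M.det = 1 → ∃ x, ρ x = M
  ker : ∀ x, ρ x = 1 ↔ x ∈ Q
  le : A ≤ B
  normalA : A.Normal
  normalB : B.Normal
  mul : ∀ a ∈ B, ∀ b ∈ B, κ (a * b) = κ a + κ b
  zero : ∀ a ∈ B, (κ a = 0 ↔ a ∈ A)
  onto : ∀ v, ∃ b ∈ B, κ b = v
  equiv : ∀ x, ∀ b ∈ B, κ (x * b * x⁻¹) = ρ x *ᵥ κ b

theorem add_self3 (v : V3) : v + v = 0 := by
  revert v; decide

namespace Chart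

variable {Q A B : Subgroup X} (C : Chart Q A B)

theorem κ_one : C.κ 1 = 0 := (C.zero 1 B.one_mem).mpr A.one_mem

theorem κ_inv {b : X} (hb : b ∈ B) : C.κ b⁻¹ = C.κ b := by
  have h := C.mul b hb b⁻¹ (inv_mem hb)
  rw [mul_inv_cancel, κ_one] at h
  calc C.κ b⁻¹ = C.κ b + C.κ b + C.κ b⁻¹ := by rw [add_self3, zero_add]
    _ = C.κ b := by rw [add_assoc, ← h, add_zero]

include C in
theorem conj_mem (x : X) {b : X} (hb : b ∈ B) : x * b * x⁻¹ ∈ B := C.normalB.conj_mem b hb x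

theorem mem_of_eq {a b : X} (ha : a ∈ B) (hb : b ∈ B) (h : C.κ a = C.κ b) : a⁻¹ * b ∈ A := by
  rw [← C.zero _ (mul_mem (inv_mem ha) hb), C.mul _ (inv_mem ha) _ hb, C.κ_inv ha, h, add_self3]

theorem eq_of_mem {a b : X} (ha : a ∈ B) (hb : b ∈ B) (h : a⁻¹ * b ∈ A) : C.κ a = C.κ b := by
  have h1 := (C.zero _ (mul_mem (inv_mem ha) hb)).mpr h
  rw [C.mul _ (inv_mem ha) _ hb, C.κ_inv ha] at h1
  calc C.κ a = C.κ a + (C.κ a + C.κ b) := by rw [h1, add_zero]
    _ = C.κ b := by rw [← add_assoc, add_self3, zero_add]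

theorem κ_mul_right {b a : X} (hb : b ∈ B) (ha : a ∈ A) : C.κ (b * a) = C.κ b := by
  rw [C.mul _ hb _ (C.le ha), (C.zero a (C.le ha)).mpr ha, add_zero]

theorem κ_conj_Q {q b : X} (hq : q ∈ Q) (hb : b ∈ B) : C.κ (q * b * q⁻¹) = C.κ b := by
  rw [C.equiv q b hb, (C.ker q).mpr hq, one_mulVec]

/-- The coordinates of a commutator. -/
theorem κ_comm (x : X) {b : X} (hb : b ∈ B) :
    C.κ (x * b * x⁻¹ * b⁻¹) = C.ρ x *ᵥ C.κ b + C.κ b := by
  rw [C.mul _ (C.conj_mem x hb) _ (inv_mem hb), C.equiv x b hb, C.κ_inv hb]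

theorem ρ_inv_mul (x : X) : C.ρ x⁻¹ * C.ρ x = 1 := by
  rw [← map_mul, inv_mul_cancel, map_one]

theorem ρ_mul_inv (x : X) : C.ρ x * C.ρ x⁻¹ = 1 := by
  rw [← map_mul, mul_inv_cancel, map_one]

theorem mem_of_ρ_eq {x y : X} (h : C.ρ x = C.ρ y) : x⁻¹ * y ∈ Q := by
  rw [← C.ker, map_mul, ← h, ρ_inv_mul]

theorem sq_mem_of_ρ {x : X} (h : C.ρ x * C.ρ x = 1) : x * x ∈ Q := by
  rw [← C.ker, map_mul, h]

/-- An involution of the top is conjugate to any given lift of `mE`, up to `Q`. -/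
theorem involution_lift {e x : X} (he : C.ρ e = mE) (hx : x ∉ Q) (hx2 : x * x ∈ Q) :
    ∃ y : X, ∃ q ∈ Q, x = y * e * y⁻¹ * q := by
  have h2 : C.ρ x * C.ρ x = 1 := by rw [← map_mul, C.ker]; exact hx2
  obtain ⟨P, hP, hPE⟩ := involution_conj (C.ρ x) h2 fun h => hx ((C.ker x).mp h)
  obtain ⟨y, rfl⟩ := C.surj P hP
  refine ⟨y, (y * e * y⁻¹)⁻¹ * x, C.mem_of_ρ_eq ?_, by group⟩
  rw [map_mul, map_mul, he, hPE, mul_assoc, ρ_mul_inv, mul_one]

include C in
theorem relIndex_card [Finite X] : Nat.card B = 8 * Nat.card A := by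
  classical
  haveI : Fintype X := Fintype.ofFinite X
  choose s hs hsκ using C.onto
  let f : V3 × A → B := fun p => ⟨s p.1 * p.2, mul_mem (hs p.1) (C.le p.2.2)⟩
  have hf : Function.Bijective f := by
    constructor
    · rintro ⟨v, a⟩ ⟨w, b⟩ h
      have h' : s v * a = s w * b := congrArg Subtype.val h
      have hv : v = w := by
        have := congrArg C.κ h'
        rwa [C.κ_mul_right (hs v) a.2, C.κ_mul_right (hs w) b.2, hsκ, hsκ] at this
      subst hv
      exact Prod.ext rfl (Subtype.ext (mul_left_cancel h'))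
    · rintro ⟨b, hb⟩
      exact ⟨⟨C.κ b, (s (C.κ b))⁻¹ * b, C.mem_of_eq (hs _) hb (hsκ _)⟩,
        Subtype.ext (mul_inv_cancel_left _ _)⟩
  rw [← Nat.card_congr (Equiv.ofBijective f hf), Nat.card_prod, Nat.card_eq_fintype_card (α := V3)]
  simp

end Chart

/-- Coordinates on an elementary section of order eight. -/
theorem exists_coords [Finite X] {A B : Subgroup X} (hA : A.Normal) (hle : A ≤ B)
    (hcard : Nat.card B = 8 * Nat.card A) (hsq : ∀ b ∈ B, b * b ∈ A) :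
    ∃ κ : X → V3, (∀ a ∈ B, ∀ b ∈ B, κ (a * b) = κ a + κ b) ∧ (∀ a ∈ B, κ a = 0 ↔ a ∈ A) ∧
      ∀ v, ∃ b ∈ B, κ b = v := by
  classical
  have hexp : ∀ v : ↥B ⧸ A.subgroupOf B, v * v = 1 := by
    intro v
    induction v using QuotientGroup.induction_on with
    | _ x =>
      rw [← QuotientGroup.mk_mul, QuotientGroup.eq_one_iff]
      exact Subgroup.mem_subgroupOf.mpr (hsq x x.2)
  have hinv : ∀ v : ↥B ⧸ A.subgroupOf B, v⁻¹ = v := fun v =>
    inv_eq_of_mul_eq_one_right (hexp v)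
  letI hcomm : CommGroup (↥B ⧸ A.subgroupOf B) :=
    { (inferInstance : Group (↥B ⧸ A.subgroupOf B)) with
      mul_comm := fun a b => by
        calc a * b = (a * b)⁻¹ := (hinv _).symm
          _ = b * a := by rw [_root_.mul_inv_rev, hinv, hinv] }
  letI hmod : Module (ZMod 2) (Additive (↥B ⧸ A.subgroupOf B)) :=
    AddCommGroup.zmodModule fun x => by
      rw [two_nsmul]; exact hexp (Additive.toMul x)
  have hc8 : Nat.card (Additive (↥B ⧸ A.subgroupOf B)) = 8 := by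
    have h1 := Subgroup.card_eq_card_quotient_mul_card_subgroup (A.subgroupOf B)
    rw [hcard, Nat.card_congr (Subgroup.subgroupOfEquivOfLe hle).toEquiv] at h1
    exact (Nat.eq_of_mul_eq_mul_right Nat.card_pos h1).symm
  have hfin : Module.finrank (ZMod 2) (Additive (↥B ⧸ A.subgroupOf B)) = 3 := by
    have h2 : Nat.card (Additive (↥B ⧸ A.subgroupOf B)) =
        Nat.card (ZMod 2) ^ Module.finrank (ZMod 2) (Additive (↥B ⧸ A.subgroupOf B)) :=
      Module.natCard_eq_pow_finrank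
    rw [hc8, Nat.card_zmod] at h2
    exact (Nat.pow_right_injective le_rfl (h2.symm.trans (by norm_num : (8:ℕ) = 2 ^ 3)))
  let e : Additive (↥B ⧸ A.subgroupOf B) ≃ₗ[ZMod 2] V3 :=
    (Module.finBasisOfFinrankEq (ZMod 2) _ hfin).equivFun
  refine ⟨fun x => if hx : x ∈ B then e (Additive.ofMul ((⟨x, hx⟩ : B) : ↥B ⧸ A.subgroupOf B)) else 0,
    ?_, ?_, ?_⟩
  · intro a ha b hb
    dsimp only
    rw [dif_pos (mul_mem ha hb), dif_pos ha, dif_pos hb, ← map_add]
    rfl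
  · intro a ha
    dsimp only
    rw [dif_pos ha, ← Subgroup.mem_subgroupOf (h := (⟨a, ha⟩ : B)),
      ← QuotientGroup.eq_one_iff, LinearEquiv.map_eq_zero_iff]
    rfl
  · intro v
    obtain ⟨w, hw⟩ := e.surjective v
    obtain ⟨⟨x, hx⟩, hxw⟩ := QuotientGroup.mk_surjective (Additive.toMul w)
    refine ⟨x, hx, ?_⟩
    dsimp only
    rw [dif_pos hx, hxw]
    exact hw

/-- A section of order eight which `Q` centralises and `X` does not is a natural module. -/
theorem exists_chart [Finite X] {Q A B : Subgroup X} (h : Hyp Q) (hA : A.Normal) (hB : B.Normal)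
    (hle : A ≤ B) (hcard : Nat.card B = 8 * Nat.card A) (hsq : ∀ b ∈ B, b * b ∈ A)
    (hQ : ∀ q ∈ Q, ∀ b ∈ B, q * b * q⁻¹ * b⁻¹ ∈ A)
    (hne : ∃ x : X, ∃ b ∈ B, x * b * x⁻¹ * b⁻¹ ∉ A) : Nonempty (Chart Q A B) := by
  classical
  obtain ⟨κ, hmul, hzero, honto⟩ := exists_coords hA hle hcard hsq
  choose s hs hsκ using honto
  have hκ1 : κ 1 = 0 := (hzero 1 B.one_mem).mpr A.one_mem
  have hwd : ∀ (x a b : X), a ∈ B → b ∈ B → κ a = κ b →
      κ (x * a * x⁻¹) = κ (x * b * x⁻¹) := by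
    intro x a b ha hb hab
    have h1 : a⁻¹ * b ∈ A := by
      rw [← hzero _ (mul_mem (inv_mem ha) hb), hmul _ (inv_mem ha) _ hb, ← hab, ← hmul _ (inv_mem ha) _ ha,
        inv_mul_cancel, hκ1]
    rw [show x * b * x⁻¹ = x * a * x⁻¹ * (x * (a⁻¹ * b) * x⁻¹) by group,
      hmul _ (hB.conj_mem a ha x) _ (hle (hA.conj_mem _ h1 x)),
      (hzero _ (hle (hA.conj_mem _ h1 x))).mpr (hA.conj_mem _ h1 x), add_zero]
  let f : X → V3 →ₗ[ZMod 2] V3 := fun x => AddMonoidHom.toZModLinearMap 2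
    (AddMonoidHom.mk' (fun v => κ (x * s v * x⁻¹)) fun v w => by
      show κ (x * s (v + w) * x⁻¹) = κ (x * s v * x⁻¹) + κ (x * s w * x⁻¹)
      rw [← hmul _ (hB.conj_mem _ (hs v) x) _ (hB.conj_mem _ (hs w) x),
        show x * s v * x⁻¹ * (x * s w * x⁻¹) = x * (s v * s w) * x⁻¹ by group]
      exact hwd x _ _ (hs _) (mul_mem (hs v) (hs w)) (by rw [hsκ, hmul _ (hs v) _ (hs w), hsκ, hsκ]))
  have hf : ∀ x, ∀ b ∈ B, f x (κ b) = κ (x * b * x⁻¹) := fun x b hb =>
    hwd x _ _ (hs _) hb (hsκ _)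
  have hone : LinearMap.toMatrix' (f 1) = 1 := by
    rw [← LinearMap.toMatrix'_id]
    congr 1
    refine LinearMap.ext fun v => ?_
    show κ (1 * s v * 1⁻¹) = v
    rw [one_mul, inv_one, mul_one, hsκ]
  have hmulρ : ∀ x y, LinearMap.toMatrix' (f (x * y)) =
      LinearMap.toMatrix' (f x) * LinearMap.toMatrix' (f y) := by
    intro x y
    rw [← LinearMap.toMatrix'_comp]
    congr 1
    refine LinearMap.ext fun v => ?_
    show κ (x * y * s v * (x * y)⁻¹) = f x (κ (y * s v * y⁻¹))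
    rw [hf x _ (hB.conj_mem _ (hs v) y)]
    congr 1
    group
  let ρ : X →* M3 :=
    { toFun := fun x => LinearMap.toMatrix' (f x), map_one' := hone, map_mul' := hmulρ }
  have hequiv : ∀ x, ∀ b ∈ B, κ (x * b * x⁻¹) = ρ x *ᵥ κ b := fun x b hb => by
    show _ = LinearMap.toMatrix' (f x) *ᵥ κ b
    rw [LinearMap.toMatrix'_mulVec, hf x b hb]
  have hdet : ∀ x, (ρ x).det = 1 := by
    intro x
    have h1 : (ρ x).det * (ρ x⁻¹).det = 1 := by
      rw [← Matrix.det_mul, ← map_mul, mul_inv_cancel, map_one, Matrix.det_one]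
    have h2 : ∀ a b : ZMod 2, a * b = 1 → a = 1 := by decide
    exact h2 _ _ h1
  have hker : ∀ x, ρ x = 1 ↔ x ∈ Q := by
    haveI hN : ρ.ker.Normal := inferInstance
    have hQk : Q ≤ ρ.ker := by
      intro q hq
      rw [MonoidHom.mem_ker]
      refine Matrix.toLin'.injective (LinearMap.ext fun v => ?_)
      rw [Matrix.toLin'_apply, Matrix.toLin'_apply, one_mulVec, ← hsκ v, ← hequiv q _ (hs v)]
      conv_rhs => rw [← zero_add (κ (s v)), ← (hzero _ (hle (hQ q hq _ (hs v)))).mpr (hQ q hq _ (hs v)),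
        ← hmul _ (hle (hQ q hq _ (hs v))) _ (hs v)]
      congr 1
      group
    rcases h.simple _ hN hQk with hk | hk
    · intro x; rw [← MonoidHom.mem_ker, hk]
    · exfalso
      obtain ⟨x, b, hb, hxb⟩ := hne
      apply hxb
      have hx1 : ρ x = 1 := by rw [← MonoidHom.mem_ker, hk]; trivial
      rw [← hzero _ (mul_mem (hB.conj_mem b hb x) (inv_mem hb)), hmul _ (hB.conj_mem b hb x) _ (inv_mem hb),
        hequiv x b hb, hx1, one_mulVec, ← hmul b hb _ (inv_mem hb), mul_inv_cancel, hκ1]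
  have hsurj : ∀ M : M3, M.det = 1 → ∃ x, ρ x = M := by
    have hlift : ∀ u v : X, u⁻¹ * v ∈ Q ↔ ρ u = ρ v := by
      intro u v
      rw [← hker, map_mul]
      constructor
      · intro huv
        calc ρ u = ρ u * (ρ u⁻¹ * ρ v) := by rw [huv, mul_one]
          _ = ρ v := by rw [← mul_assoc, ← map_mul, mul_inv_cancel, map_one, one_mul]
      · intro huv; rw [← huv, ← map_mul, inv_mul_cancel, map_one]
    let g : X ⧸ Q → {M : M3 // M.det = 1} := fun c => ⟨ρ c.out, hdet _⟩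
    have hg : Function.Injective g := by
      intro c d hcd
      rw [← c.out_eq', ← d.out_eq', QuotientGroup.eq, hlift]
      exact congrArg Subtype.val hcd
    haveI : Fintype (X ⧸ Q) := Fintype.ofFinite _
    have hb := (Fintype.bijective_iff_injective_and_card g).mpr ⟨hg, by
      rw [card_det_one, ← Nat.card_eq_fintype_card]; exact h.index⟩
    intro M hM
    obtain ⟨c, hc⟩ := hb.surjective ⟨M, hM⟩
    exact ⟨c.out, congrArg Subtype.val hc⟩
  exact ⟨⟨ρ, κ, hdet, hsurj, hker, hle, hA, hB, hmul, hzero, fun v => ⟨s v, hs v, hsκ v⟩, hequiv⟩⟩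

end Cfsg.Agent.Lib.L32Core58
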