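import Cfsg.Agent.Lib.L32Core58.Sections

/-!
Small common tools for the case analysis.
-/

set_option autoImplicit false

namespace Cfsg.Agent.Lib.L32Core58

open Matrix

variable {X : Type*} [Group X]

/-- A subgroup whose complement is one coset. -/
theorem card_of_two_cosets {H Q : Subgroup X} (hHQ : H ≤ Q) {c : X} (hc : c ∈ Q) (hcH : c ∉ H)
    (h : ∀ q ∈ Q, q ∈ H ∨ c⁻¹ * q ∈ H) : Nat.card Q = 2 * Nat.card H := by
  let g : Fin 2 × H → Q := fun p => ⟨c ^ p.1.val * p.2, mul_mem (pow_mem hc _) (hHQ p.2.2)⟩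
  have hg : Function.Bijective g := by
    constructor
    · rintro ⟨i, a⟩ ⟨j, b⟩ hh
      have hh' : c ^ i.val * a = c ^ j.val * b := congrArg Subtype.val hh
      have hne : ∀ a b : H, (a : X) = c * b → False := fun a b hab => hcH (by
        rw [show c = c * b * (b : X)⁻¹ by group, ← hab]
        exact mul_mem a.2 (inv_mem b.2))
      fin_cases i <;> fin_cases j <;> simp at hh'
      · exact Prod.ext rfl hh'
      · exact (hne a b hh').elim
      · exact (hne b a hh'.symm).elim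
      · exact Prod.ext rfl hh'
    · rintro ⟨q, hq⟩
      rcases h q hq with hq' | hq'
      · exact ⟨⟨0, q, hq'⟩, Subtype.ext (by simp [g])⟩
      · exact ⟨⟨1, c⁻¹ * q, hq'⟩, Subtype.ext (by simp [g])⟩
  rw [← Nat.card_congr (Equiv.ofBijective g hg), Nat.card_prod, Nat.card_fin]

/-- In a subgroup of index two the outside is one coset. -/
theorem two_cosets [Finite X] {H Q : Subgroup X} (hHQ : H ≤ Q)
    (hcard : Nat.card Q = 2 * Nat.card H) {c q : X} (hc : c ∈ Q) (hcH : c ∉ H) (hq : q ∈ Q) :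
    q ∈ H ∨ c⁻¹ * q ∈ H := by
  have hidx : (H.subgroupOf Q).index = 2 := by
    have h1 := (H.subgroupOf Q).card_mul_index
    rw [Nat.card_congr (Subgroup.subgroupOfEquivOfLe hHQ).toEquiv, hcard, mul_comm 2] at h1
    exact Nat.eq_of_mul_eq_mul_left Nat.card_pos h1
  by_cases hqH : q ∈ H
  · exact Or.inl hqH
  right
  have h1 := Subgroup.mul_mem_iff_of_index_two hidx (a := (⟨c⁻¹, inv_mem hc⟩ : Q)) (b := ⟨q, hq⟩)
  rw [Subgroup.mem_subgroupOf, Subgroup.mem_subgroupOf, Subgroup.mem_subgroupOf] at h1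
  exact h1.mpr ⟨fun h' => absurd (inv_inv c ▸ inv_mem h') hcH, fun h' => absurd h' hqH⟩

/-- The subgroup `R ∪ fR`. -/
def pairSub (R : Subgroup X) [R.Normal] (f : X) (hf : f * f ∈ R) : Subgroup X where
  carrier := {z | z ∈ R ∨ f⁻¹ * z ∈ R}
  one_mem' := Or.inl R.one_mem
  mul_mem' := by
    have hn : ∀ r ∈ R, f⁻¹ * r * f ∈ R := fun r hr => by
      simpa using Subgroup.Normal.conj_mem inferInstance r hr f⁻¹
    rintro a b (ha | ha) (hb | hb)
    · exact Or.inl (mul_mem ha hb)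
    · refine Or.inr ?_
      rw [show f⁻¹ * (a * b) = f⁻¹ * a * f * (f⁻¹ * b) by group]
      exact mul_mem (hn a ha) hb
    · exact Or.inr (by rw [← mul_assoc]; exact mul_mem ha hb)
    · refine Or.inl ?_
      rw [show a * b = f * f * (f⁻¹ * (f⁻¹ * a) * f) * (f⁻¹ * b) by group]
      exact mul_mem (mul_mem hf (hn _ ha)) hb
  inv_mem' := by
    rintro a (ha | ha)
    · exact Or.inl (inv_mem ha)
    · refine Or.inr ?_
      rw [show f⁻¹ * a⁻¹ = f⁻¹ * (f⁻¹ * a)⁻¹ * f⁻¹⁻¹ * (f * f)⁻¹ by group]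
      exact mul_mem (Subgroup.Normal.conj_mem inferInstance _ (inv_mem ha) _) (inv_mem hf)

theorem mem_pairSub {R : Subgroup X} [R.Normal] {f : X} {hf : f * f ∈ R} {z : X} :
    z ∈ pairSub R f hf ↔ z ∈ R ∨ f⁻¹ * z ∈ R := Iff.rfl

theorem pairSub_normal {R : Subgroup X} [R.Normal] {f : X} {hf : f * f ∈ R}
    (hfix : ∀ x : X, x * f * x⁻¹ * f⁻¹ ∈ R) : (pairSub R f hf).Normal := by
  constructor
  rintro z (hz | hz) x
  · exact Or.inl (Subgroup.Normal.conj_mem inferInstance z hz x)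
  · refine Or.inr ?_
    rw [show f⁻¹ * (x * z * x⁻¹) =
      f⁻¹ * (x * f * x⁻¹ * f⁻¹) * f⁻¹⁻¹ * (x * (f⁻¹ * z) * x⁻¹) by group]
    exact mul_mem (Subgroup.Normal.conj_mem inferInstance _ (hfix x) _)
      (Subgroup.Normal.conj_mem inferInstance _ hz x)

theorem mem_pairSub_self {R : Subgroup X} [R.Normal] {f : X} {hf : f * f ∈ R} :
    f ∈ pairSub R f hf := Or.inr (by rw [inv_mul_cancel]; exact R.one_mem)

theorem card_pairSub {R : Subgroup X} [R.Normal] {f : X} {hf : f * f ∈ R} (hfR : f ∉ R) :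
    Nat.card (pairSub R f hf) = 2 * Nat.card R :=
  card_of_two_cosets (fun _ hr => Or.inl hr) mem_pairSub_self hfR fun _ hq => hq

/-- Congruent elements have equal squares. -/
theorem sq_eq_of_congr {R : Subgroup X} {a b : X} (hR2 : ∀ r ∈ R, r * r = 1)
    (hc : ∀ r ∈ R, r * a = a * r) (h : b * a⁻¹ ∈ R) : b * b = a * a := by
  calc b * b = b * a⁻¹ * (a * (b * a⁻¹)) * a := by group
    _ = (b * a⁻¹) * (b * a⁻¹) * (a * a) := by rw [← hc _ h]; group
    _ = a * a := by rw [hR2 _ h, one_mul]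

/-- Some element of order seven moves `Q` modulo a central group of squares. -/
theorem exists_seven_moves [Finite X] {Q R : Subgroup X} (h : Hyp Q)
    (hR2 : ∀ r ∈ R, r * r = 1) (hRc : ∀ r ∈ R, ∀ q ∈ Q, r * q = q * r)
    (hgen : R ≤ sqSub Q) :
    ∃ x : X, x ^ 7 = 1 ∧ ∃ q ∈ Q, x * q * x⁻¹ * q⁻¹ ∉ R := by
  by_contra hcon
  push_neg at hcon
  obtain ⟨x, hxQ, hx⟩ := h.exists_seven
  have hfix : ∀ y ∈ sqSub Q, x * y * x⁻¹ = y := by
    intro y hy
    induction hy using Subgroup.closure_induction with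
    | mem y hy =>
      obtain ⟨q, hq, rfl⟩ := hy
      rw [show x * (q * q) * x⁻¹ = x * q * x⁻¹ * (x * q * x⁻¹) by group]
      exact sq_eq_of_congr hR2 (fun r hr => hRc r hr q hq) (hcon x hx q hq)
    | one => group
    | mul a b _ _ ha hb =>
      rw [show x * (a * b) * x⁻¹ = x * a * x⁻¹ * (x * b * x⁻¹) by group, ha, hb]
    | inv a _ ha => rw [show x * a⁻¹ * x⁻¹ = (x * a * x⁻¹)⁻¹ by group, ha]
  refine h.seven_not_series hxQ hx (A := R) (hgen.trans (sqSub_le Q)) (fun r hr => hfix r (hgen hr))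
    fun q hq => ?_
  have hg := hcon x hx q hq
  rw [show q⁻¹ * (x * q * x⁻¹) = q⁻¹ * ((x * q * x⁻¹ * q⁻¹) * q) by group, hRc _ hg q hq,
    inv_mul_cancel_left]
  exact hg

/-- A radical with a central subgroup of exponent two containing the squares has its commutators
there. -/
theorem comm_mem' {Q R : Subgroup X} (hsq : ∀ q ∈ Q, q * q ∈ R)
    (hRc : ∀ r ∈ R, ∀ q ∈ Q, r * q = q * r) :
    ∀ a ∈ Q, ∀ b ∈ Q, a * b * a⁻¹ * b⁻¹ ∈ R := fun a ha b hb =>
  comm_mem_of_sq_mem hsq (fun x hx y hy => by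
    rw [← hRc y hy x hx, mul_inv_cancel_right]; exact hy) ha hb

/-- The commutator with `c` is multiplicative when commutators are central. -/
theorem comm_mul_right {c a b : X} (h : a * (c * b * c⁻¹ * b⁻¹) = (c * b * c⁻¹ * b⁻¹) * a) :
    c * (a * b) * c⁻¹ * (a * b)⁻¹ = (c * a * c⁻¹ * a⁻¹) * (c * b * c⁻¹ * b⁻¹) := by
  calc c * (a * b) * c⁻¹ * (a * b)⁻¹
      = c * a * c⁻¹ * a⁻¹ * (a * (c * b * c⁻¹ * b⁻¹)) * a⁻¹ := by group
    _ = (c * a * c⁻¹ * a⁻¹) * (c * b * c⁻¹ * b⁻¹) := by rw [h]; group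

end Cfsg.Agent.Lib.L32Core58
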