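import Cfsg.Agent.Lib.L32Core58.Chart
import Cfsg.Agent.Lib.Gaschutz

/-!
A normal subgroup of index two in the radical with an outside involution modulo it has a supplement
satisfying the hypotheses again.
-/

set_option autoImplicit false

namespace Cfsg.Agent.Lib.L32Core58

open Matrix
open scoped Pointwise

/-- The induction hypothesis: the conclusion holds for groups of order below `n`. -/
def Below.{u} (n : ℕ) : Prop :=
  ∀ (Y : Type u) [Group Y] [Finite Y] (Q : Subgroup Y), Nat.card Y < n → Hyp Q → Good Q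

variable {X : Type*} [Group X]

/-- An element of order dividing seven acting on `N` as an element of a `2`-group centralises
`N`. -/
theorem centralises_of_agree {Q N : Subgroup X} (hQ : IsPGroup 2 Q) {x q : X} (hx : x ^ 7 = 1)
    (hq : q ∈ Q) (hN : ∀ a ∈ N, x * a * x⁻¹ ∈ N) (h : ∀ a ∈ N, x * a * x⁻¹ = q * a * q⁻¹) :
    ∀ a ∈ N, x * a * x⁻¹ = a := by
  have hit : ∀ n : ℕ, ∀ a ∈ N, x ^ n * a * (x ^ n)⁻¹ = q ^ n * a * (q ^ n)⁻¹ := by
    intro n
    induction n with
    | zero => intro a _; simp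
    | succ n ih =>
      intro a ha
      have h1 : x ^ (n + 1) * a * (x ^ (n + 1))⁻¹ = x ^ n * (x * a * x⁻¹) * (x ^ n)⁻¹ := by
        rw [pow_succ, _root_.mul_inv_rev]; group
      rw [h1, ih _ (hN a ha), h a ha, pow_succ, _root_.mul_inv_rev]
      group
  obtain ⟨k, hk⟩ := hQ ⟨q, hq⟩
  have hk' : q ^ 2 ^ k = 1 := congrArg Subtype.val hk
  have hcop : Nat.Coprime 7 (orderOf q) :=
    Nat.Coprime.coprime_dvd_right (orderOf_dvd_of_pow_eq_one hk')
      (Nat.Coprime.pow_right k (by norm_num))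
  obtain ⟨m, hm⟩ := exists_pow_eq_self_of_coprime hcop
  intro a ha
  have h7 := hit 7 a ha
  rw [hx, one_mul, inv_one, mul_one, eq_comm, mul_inv_eq_iff_eq_mul] at h7
  have hc : Commute q a := hm ▸ (show Commute (q ^ 7) a from h7).pow_left m
  rw [h a ha, hc.eq, mul_inv_cancel_right]

/-- A Gaschütz supplement. -/
theorem exists_half [Finite X] {Q A B : Subgroup X} (h : Hyp Q) (C : Chart Q A B) (N : Subgroup X)
    [N.Normal] (hNQ : N ≤ Q) (hcard : Nat.card Q = 2 * Nat.card N)
    (hx : ∃ x : X, x ∉ Q ∧ x * x ∈ N) :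
    ∃ X0 : Subgroup X, X0 ⊓ Q = N ∧ X0 ⊔ Q = ⊤ ∧ Hyp (N.subgroupOf X0) := by
  classical
  haveI := h.normal
  have hidx : (N.subgroupOf Q).index = 2 := by
    have h1 := (N.subgroupOf Q).card_mul_index
    rw [Nat.card_congr (Subgroup.subgroupOfEquivOfLe hNQ).toEquiv, hcard] at h1
    have h2 : 0 < Nat.card N := Nat.card_pos
    nlinarith
  have hsqQ : ∀ q ∈ Q, q * q ∈ N := fun q hq =>
    Subgroup.mem_subgroupOf.mp (Subgroup.mul_self_mem_of_index_two hidx ⟨q, hq⟩)
  set π := QuotientGroup.mk' N with hπdef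
  have hπs : Function.Surjective π := QuotientGroup.mk'_surjective N
  have hπ1 : ∀ x, π x = 1 ↔ x ∈ N := fun x => QuotientGroup.eq_one_iff x
  set QY := Q.map π with hQY
  haveI : QY.Normal := h.normal.map π hπs
  have hcomap : QY.comap π = Q := by
    rw [hQY, Subgroup.comap_map_eq, QuotientGroup.ker_mk', sup_eq_left.mpr hNQ]
  have hYN : Nat.card X = Nat.card (X ⧸ N) * Nat.card N :=
    Subgroup.card_eq_card_quotient_mul_card_subgroup N
  have hcY : Nat.card (X ⧸ N) = 2 * 168 := by
    have h1 := Q.card_mul_index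
    rw [h.index, hcard, hYN] at h1
    refine Nat.eq_of_mul_eq_mul_right (Nat.card_pos (α := N)) ?_
    rw [← h1]; ring
  have hcQY : Nat.card QY = 2 := by
    have h1 : QY.index = 168 := by
      rw [← Subgroup.index_comap_of_surjective _ hπs, hcomap, h.index]
    have h2 := QY.card_mul_index
    rw [h1, hcY] at h2
    omega
  have hcen : ∀ q ∈ Q, ∀ y, π q * y = y * π q := by
    intro q hq y
    have hmem : y * π q * y⁻¹ ∈ QY := Subgroup.Normal.conj_mem inferInstance _ (show π q ∈ QY from ⟨q, hq, rfl⟩) y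
    obtain ⟨u, v, huv, huv'⟩ := Nat.card_eq_two_iff.mp hcQY
    by_cases hq1 : π q = 1
    · rw [hq1, one_mul, mul_one]
    · have key : ∀ w : QY, w = 1 ∨ w = ⟨π q, ⟨q, hq, rfl⟩⟩ := by
        intro w
        have h1 : ∀ w : QY, w = u ∨ w = v := fun w => by
          have : w ∈ ({u, v} : Set QY) := huv' ▸ Set.mem_univ w
          simpa using this
        have hne : (1 : QY) ≠ ⟨π q, ⟨q, hq, rfl⟩⟩ := fun h' => hq1 (congrArg Subtype.val h').symm
        rcases h1 w with hw | hw <;> rcases h1 1 with h0 | h0 <;>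
          rcases h1 ⟨π q, ⟨q, hq, rfl⟩⟩ with h2 | h2 <;> simp_all
      rcases key ⟨_, hmem⟩ with h1 | h1
      · have h1' : y * π q * y⁻¹ = 1 := congrArg Subtype.val h1
        exact absurd (conj_eq_one_iff.mp h1') hq1
      · have h1' : y * π q * y⁻¹ = π q := congrArg Subtype.val h1
        exact (mul_inv_eq_iff_eq_mul.mp h1').symm
  -- every lift of an involution of the top squares into `N`
  have hinv : ∀ x : X, x ∉ Q → x * x ∈ Q → x * x ∈ N := by
    obtain ⟨e, he⟩ := C.surj mE det_eq.1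
    have hconj : ∀ y : X, ∀ q ∈ Q, (y * e * y⁻¹ * q) * (y * e * y⁻¹ * q) ∈ N ↔ e * e ∈ N := by
      intro y q hq
      rw [← hπ1, ← hπ1, map_mul _ _ (_ * q), map_mul _ _ q,
        show π (y * e * y⁻¹) * π q * (π (y * e * y⁻¹) * π q) =
          π (y * e * y⁻¹) * (π q * π (y * e * y⁻¹)) * π q by group, hcen q hq,
        show π (y * e * y⁻¹) * (π (y * e * y⁻¹) * π q) * π q =
          π (y * e * y⁻¹ * (y * e * y⁻¹)) * π (q * q) by
          rw [map_mul π (y * e * y⁻¹) (y * e * y⁻¹), map_mul π q q]; group,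
        (hπ1 _).mpr (hsqQ q hq), mul_one,
        show y * e * y⁻¹ * (y * e * y⁻¹) = y * (e * e) * y⁻¹ by group, map_mul, map_mul, map_inv,
        conj_eq_one_iff]
    obtain ⟨x, hxQ, hxN⟩ := hx
    obtain ⟨y, q, hq, rfl⟩ := C.involution_lift he hxQ (hNQ hxN)
    have hee := (hconj y q hq).mp hxN
    intro x' hx'Q hx'2
    obtain ⟨y', q', hq', rfl⟩ := C.involution_lift he hx'Q hx'2
    exact (hconj y' q' hq').mpr hee
  have hlift : ∀ x : X, C.ρ x * C.ρ x = 1 → C.ρ x ≠ 1 → π x * π x = 1 := by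
    intro x h1 h2
    rw [← map_mul, hπ1]
    exact hinv x (fun hxQ => h2 ((C.ker x).mpr hxQ)) (C.sq_mem_of_ρ h1)
  obtain ⟨c, hc⟩ := C.surj mC1 det_eq.2.2.1
  obtain ⟨d, hd⟩ := C.surj mD1 det_eq.2.2.2.2.2.1
  set a := π c with hadef
  set b := π d with hbdef
  have ha4 : a ^ 4 = 1 := by
    rw [show a ^ 4 = π (c * c) * π (c * c) by
      simp only [hadef, map_mul, pow_succ, pow_zero, one_mul, mul_assoc]]
    exact hlift _ (by rw [map_mul, hc, squares_eq.1, dihedral_eq.2.2.1])
      (by rw [map_mul, hc, squares_eq.1]; exact ne_one.1)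
  have hb2 : b * b = 1 := hlift d (by rw [hd, dihedral_eq.1]) (by rw [hd]; decide +kernel)
  have hab : (a * b) * (a * b) = 1 := by
    rw [show a * b = π (c * d) from (map_mul π c d).symm]
    exact hlift _ (by rw [map_mul, hc, hd, dihedral_eq.2.1])
      (by rw [map_mul, hc, hd]; decide +kernel)
  have hamod : ∀ n : ℕ, a ^ n = a ^ (n % 4) := fun n => by
    conv_lhs => rw [← Nat.mod_add_div n 4, pow_add, pow_mul, ha4, one_pow, mul_one]
  have hbmod : ∀ n : ℕ, b ^ n = b ^ (n % 2) := fun n => by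
    conv_lhs => rw [← Nat.mod_add_div n 2, pow_add, pow_mul, pow_two, hb2, one_pow, mul_one]
  have hswap : ∀ i : ℕ, b * a ^ i = a ^ (3 * i) * b := by
    intro i
    induction i with
    | zero => simp
    | succ i ih =>
      have h1 : b * a = a ^ 3 * b := by
        have h2 : a * b * a * b = 1 := by rw [mul_assoc (a * b)]; exact hab
        calc b * a = a⁻¹ * (a * b * a * b) * b⁻¹ := by group
          _ = a⁻¹ * b⁻¹ := by rw [h2, mul_one]
          _ = a ^ 3 * b := by
            rw [inv_eq_of_mul_eq_one_right hb2, inv_eq_of_mul_eq_one_right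
              (show a * a ^ 3 = 1 by rw [← pow_succ']; exact ha4)]
      calc b * a ^ (i + 1) = b * a ^ i * a := by rw [pow_succ, mul_assoc]
        _ = a ^ (3 * i) * (b * a) := by rw [ih, mul_assoc]
        _ = a ^ (3 * (i + 1)) * b := by rw [h1, ← mul_assoc, ← pow_add, Nat.mul_succ]
  let g : Fin 4 × Fin 2 → X ⧸ N := fun p => a ^ p.1.val * b ^ p.2.val
  have hmem_g : ∀ i j : ℕ, a ^ i * b ^ j ∈ Set.range g := fun i j =>
    ⟨(⟨i % 4, Nat.mod_lt _ (by norm_num)⟩, ⟨j % 2, Nat.mod_lt _ (by norm_num)⟩),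
      by show a ^ (i % 4) * b ^ (j % 2) = _; rw [← hamod, ← hbmod]⟩
  set D := Subgroup.closure ({a, b} : Set (X ⧸ N)) with hD
  have hDsub : ∀ y ∈ D, y ∈ Set.range g := by
    intro y hy
    induction hy using Subgroup.closure_induction_left with
    | one => simpa using hmem_g 0 0
    | mul_left x hx y _ ih =>
      obtain ⟨⟨i, j⟩, rfl⟩ := ih
      rcases hx with rfl | rfl
      · simpa [g, ← mul_assoc, ← pow_succ'] using hmem_g (i.val + 1) j.val
      · show b * (a ^ i.val * b ^ j.val) ∈ _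
        rw [← mul_assoc, hswap, mul_assoc, ← pow_succ']
        exact hmem_g _ _
    | inv_mul_cancel x hx y _ ih =>
      obtain ⟨⟨i, j⟩, rfl⟩ := ih
      rcases hx with rfl | rfl
      · rw [inv_eq_of_mul_eq_one_right (show a * a ^ 3 = 1 by rw [← pow_succ']; exact ha4)]
        show a ^ 3 * (a ^ i.val * b ^ j.val) ∈ _
        rw [← mul_assoc, ← pow_add]
        exact hmem_g _ _
      · rw [inv_eq_of_mul_eq_one_right hb2]
        show b * (a ^ i.val * b ^ j.val) ∈ _
        rw [← mul_assoc, hswap, mul_assoc, ← pow_succ']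
        exact hmem_g _ _
  have hinj : ∀ p : Fin 4 × Fin 2, g p ∈ QY → p = 0 := by
    intro p hp
    have h1 : c ^ p.1.val * d ^ p.2.val ∈ Q := by
      rw [← hcomap, Subgroup.mem_comap, map_mul, map_pow, map_pow]
      exact hp
    rw [← C.ker, map_mul, map_pow, map_pow, hc, hd] at h1
    clear hp
    revert h1 p
    decide +kernel
  have hdis : D ⊓ QY = ⊥ := by
    rw [eq_bot_iff]
    rintro y ⟨hy, hy'⟩
    obtain ⟨p, rfl⟩ := hDsub y hy
    rw [hinj p hy']
    simp [g]
  have hgD : ∀ p, g p ∈ D := fun p => mul_mem (pow_mem (Subgroup.subset_closure (by simp)) _)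
    (pow_mem (Subgroup.subset_closure (by simp)) _)
  have hcD : Nat.card D = 8 := by
    have hg : Function.Injective g := by
      intro p p' hpp
      have h1 : c ^ p.1.val * d ^ p.2.val * (c ^ p'.1.val * d ^ p'.2.val)⁻¹ ∈ Q := by
        apply hNQ
        rw [← hπ1, map_mul, map_inv, map_mul, map_mul, map_pow, map_pow, map_pow, map_pow]
        exact mul_inv_eq_one.mpr hpp
      have h2 : C.ρ (c ^ p.1.val * d ^ p.2.val) = C.ρ (c ^ p'.1.val * d ^ p'.2.val) := by
        rw [← C.ker, map_mul] at h1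
        calc C.ρ (c ^ p.1.val * d ^ p.2.val)
            = C.ρ (c ^ p.1.val * d ^ p.2.val) *
                C.ρ (c ^ p'.1.val * d ^ p'.2.val)⁻¹ * C.ρ (c ^ p'.1.val * d ^ p'.2.val) := by
              rw [mul_assoc, C.ρ_inv_mul, mul_one]
          _ = _ := by rw [h1, one_mul]
      rw [map_mul, map_mul, map_pow, map_pow, map_pow, map_pow, hc, hd] at h2
      revert h2
      clear * -
      revert p p'
      decide +kernel
    rw [show (8 : ℕ) = Nat.card (Fin 4 × Fin 2) by simp]
    exact (Nat.card_congr (Equiv.ofBijective (fun p => (⟨g p, hgD p⟩ : D))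
      ⟨fun p p' h' => hg (congrArg Subtype.val h'),
        fun ⟨y, hy⟩ => by obtain ⟨p, hp⟩ := hDsub y hy; exact ⟨p, Subtype.ext hp⟩⟩)).symm
  set U := QY ⊔ D with hU
  have hcU : Nat.card U ≤ 16 := by
    have h1 : Nat.card ((QY : Set (X ⧸ N)) * (D : Set (X ⧸ N)) : Set (X ⧸ N)) ≤
        Nat.card QY * Nat.card D := Set.natCard_mul_le
    rw [← Subgroup.normal_mul, ← hU, hcQY, hcD] at h1
    exact h1
  have hUidx : U.index = 21 := by
    have h1 := U.card_mul_index
    rw [hcY] at h1
    have h2 : 8 ∣ Nat.card U := hcD ▸ Subgroup.card_dvd_of_le le_sup_right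
    have h3 : Nat.card U ≠ 8 := by
      intro h3
      have hDU : D = U := Subgroup.eq_of_le_of_card_ge le_sup_right (by omega)
      have h4 : QY = ⊥ := by
        rw [← le_bot_iff, ← hdis]
        exact le_inf (hDU ▸ le_sup_left) le_rfl
      rw [h4, Subgroup.card_bot] at hcQY
      omega
    have h5 : Nat.card U = 16 := by
      have : 0 < Nat.card U := Nat.card_pos
      omega
    rw [h5] at h1
    omega
  haveI : IsCyclic QY := isCyclic_of_prime_card (hp := ⟨Nat.prime_two⟩) hcQY
  haveI : IsMulCommutative QY := inferInstance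
  obtain ⟨H, hH⟩ := Gaschutz.exists_complement QY U le_sup_left (by rw [hcQY, hUidx]; norm_num) D
    le_sup_right hdis rfl
  have hcH : Nat.card H = 168 := by
    have h1 := hH.card_mul
    rw [hcQY, hcY] at h1
    omega
  refine ⟨H.comap π, ?_, ?_, ?_⟩
  · ext x
    rw [Subgroup.mem_inf, Subgroup.mem_comap, ← hcomap, Subgroup.mem_comap]
    constructor
    · rintro ⟨h1, h2⟩
      rw [← hπ1]
      exact Subgroup.disjoint_def.mp hH.disjoint h2 h1
    · intro hxN
      rw [(hπ1 x).mpr hxN]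
      exact ⟨H.one_mem, QY.one_mem⟩
  · rw [eq_top_iff]
    intro x _
    obtain ⟨⟨u, v⟩, huv⟩ := hH.2 (π x)
    obtain ⟨q, hq, hqu⟩ := u.2
    have h1 : q⁻¹ * x ∈ H.comap π := by
      rw [Subgroup.mem_comap, map_mul, map_inv, hqu, ← huv, inv_mul_cancel_left]
      exact v.2
    rw [← mul_inv_cancel_left q x]
    exact mul_mem (Subgroup.mem_sup_right hq) (Subgroup.mem_sup_left h1)
  · set X0 := H.comap π with hX0
    have hNX0 : N ≤ X0 := fun n hn => by
      rw [hX0, Subgroup.mem_comap, (hπ1 n).mpr hn]; exact H.one_mem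
    have hinf : X0 ⊓ Q = N := by
      refine le_antisymm (fun x hx => ?_) (le_inf hNX0 hNQ)
      rw [← hπ1]
      exact Subgroup.disjoint_def.mp hH.disjoint ⟨x, hx.2, rfl⟩ hx.1
    have hsup : X0 ⊔ Q = ⊤ := by
      rw [eq_top_iff]
      intro x _
      obtain ⟨⟨u, v⟩, huv⟩ := hH.2 (π x)
      obtain ⟨q, hq, hqu⟩ := u.2
      have h1 : q⁻¹ * x ∈ X0 := by
        rw [hX0, Subgroup.mem_comap, map_mul, map_inv, hqu, ← huv, inv_mul_cancel_left]
        exact v.2
      rw [← mul_inv_cancel_left q x]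
      exact mul_mem (Subgroup.mem_sup_right hq) (Subgroup.mem_sup_left h1)
    refine ⟨inferInstance, ?_, ?_, ?_, ?_, ?_⟩
    · exact (h.pgrp.to_le hNQ).of_equiv (Subgroup.subgroupOfEquivOfLe hNX0).symm
    · intro z hz
      rw [Subgroup.mem_subgroupOf, ← hinf]
      refine ⟨z.2, ?_⟩
      by_contra hzQ
      have hzc : (z : X) ∈ Subgroup.centralizer (N : Set X) := by
        rw [Subgroup.mem_centralizer_iff]
        intro n hn
        exact congrArg Subtype.val (Subgroup.mem_centralizer_iff.mp hz ⟨n, hNX0 hn⟩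
          (Subgroup.mem_subgroupOf.mpr hn))
      set M := Subgroup.centralizer (N : Set X) ⊔ Q with hM
      rcases h.simple M inferInstance le_sup_right with hMQ | hMtop
      · exact hzQ (hMQ ▸ Subgroup.mem_sup_left hzc)
      obtain ⟨w, hwQ, hw⟩ := h.exists_seven
      have hwmem : w ∈ M := hMtop ▸ Subgroup.mem_top w
      rw [hM, ← SetLike.mem_coe, Subgroup.mul_normal] at hwmem
      obtain ⟨m, hm, q, hq, hwmq⟩ := hwmem
      have hagree : ∀ n ∈ N, w * n * w⁻¹ = q * n * q⁻¹ := by
        intro n hn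
        rw [← hwmq, show m * q * n * (m * q)⁻¹ = m * (q * n * q⁻¹) * m⁻¹ by group,
          ← Subgroup.mem_centralizer_iff.mp hm _ (Subgroup.Normal.conj_mem inferInstance n hn q),
          mul_inv_cancel_right]
      refine h.seven_not_series hwQ hw hNQ (centralises_of_agree h.pgrp hw hq
        (fun n hn => Subgroup.Normal.conj_mem inferInstance n hn w) hagree) fun u hu => ?_
      rw [← hπ1, map_mul, map_mul, map_mul, map_inv, map_inv, ← hcen u hu, mul_inv_cancel_right,
        inv_mul_cancel]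
    · have h1 := (N.subgroupOf X0).card_mul_index
      have h2 : Nat.card X0 = Nat.card N * 168 := by
        have h3 := Subgroup.index_comap_of_surjective H hπs
        have h4 := X0.card_mul_index
        have h5 := H.card_mul_index
        rw [h3, hYN, ← h5, hcH] at h4
        have h6 : 0 < H.index := Nat.pos_of_ne_zero H.index_ne_zero_of_finite
        exact Nat.eq_of_mul_eq_mul_right h6 (by rw [h4]; ring)
      rw [Nat.card_congr (Subgroup.subgroupOfEquivOfLe hNX0).toEquiv, h2] at h1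
      exact Nat.eq_of_mul_eq_mul_left Nat.card_pos h1
    · intro M hM hNM
      set M' := M.map X0.subtype with hM'
      have hM'X : M' ≤ X0 := Subgroup.map_subtype_le M
      have hNM' : N ≤ M' := fun n hn =>
        ⟨⟨n, hNX0 hn⟩, hNM (Subgroup.mem_subgroupOf.mpr hn), rfl⟩
      have hKn : (M' ⊔ Q).Normal := by
        rw [← Subgroup.normalizer_eq_top_iff, eq_top_iff, ← hsup, sup_le_iff]
        refine ⟨fun x hx => ?_, le_trans le_sup_right Subgroup.le_normalizer⟩
        have hx' : ∀ y : X, y ∈ X0 → ∀ k ∈ M' ⊔ Q, y * k * y⁻¹ ∈ M' ⊔ Q := by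
          intro y hy k hk
          rw [← SetLike.mem_coe, Subgroup.mul_normal] at hk
          obtain ⟨_, ⟨m, hm, rfl⟩, q, hq, rfl⟩ := hk
          dsimp only
          rw [show y * (X0.subtype m * q) * y⁻¹ = y * X0.subtype m * y⁻¹ * (y * q * y⁻¹) by group]
          exact mul_mem (Subgroup.mem_sup_left ⟨⟨y, hy⟩ * m * ⟨y, hy⟩⁻¹, hM.conj_mem m hm _, rfl⟩)
            (Subgroup.mem_sup_right (h.normal.conj_mem q hq y))
        rw [Subgroup.mem_normalizer_iff]
        refine fun k => ⟨hx' x hx k, fun hk => ?_⟩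
        have h' := hx' x⁻¹ (inv_mem hx) _ hk
        rwa [show x⁻¹ * (x * k * x⁻¹) * x⁻¹⁻¹ = k by group] at h'
      rcases h.simple _ hKn le_sup_right with hK | hK
      · left
        refine le_antisymm (fun m hm => ?_) hNM
        rw [Subgroup.mem_subgroupOf, ← hinf]
        exact ⟨m.2, hK ▸ Subgroup.mem_sup_left ⟨m, hm, rfl⟩⟩
      · right
        rw [eq_top_iff]
        intro x _
        have hxK : (x : X) ∈ M' ⊔ Q := hK ▸ Subgroup.mem_top _
        rw [← SetLike.mem_coe, Subgroup.mul_normal] at hxK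
        obtain ⟨m', hm', q, hq, hmq⟩ := hxK
        have hmq' : m' * q = (x : X) := hmq
        have hqX : q ∈ X0 := by
          rw [show q = m'⁻¹ * (x : X) by rw [← hmq']; group]
          exact X0.mul_mem (X0.inv_mem (hM'X hm')) x.2
        have hqN : q ∈ N := hinf ▸ Subgroup.mem_inf.mpr ⟨hqX, hq⟩
        have hmem : (x : X) ∈ M' := by rw [← hmq']; exact M'.mul_mem hm' (hNM' hqN)
        obtain ⟨y, hy, hyx⟩ := hmem
        exact (Subtype.ext hyx : y = x) ▸ hy
    · intro P D' hDP hn hsq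
      have hcm : ∀ S : Subgroup X0, Nat.card (S.map X0.subtype) = Nat.card S := fun S =>
        (Nat.card_congr (S.equivMapOfInjective _ X0.subtype_injective).toEquiv).symm
      have := h.rank (P.map X0.subtype) (D'.map X0.subtype) (Subgroup.map_mono hDP)
        (by rintro _ ⟨x, hx, rfl⟩ _ ⟨y, hy, rfl⟩; exact ⟨_, hn x hx y hy, rfl⟩)
        (by rintro _ ⟨x, hx, rfl⟩; exact ⟨_, hsq x hx, rfl⟩)
      rwa [hcm, hcm] at this

/-- With the induction hypothesis, such a subgroup has order at most `32`. -/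
theorem half_bound.{u} {X : Type u} [Group X] [Finite X] {Q A B : Subgroup X} (h : Hyp Q)
    (C : Chart Q A B) (IH : Below.{u} (Nat.card X)) (N : Subgroup X) [N.Normal] (hNQ : N ≤ Q)
    (hcard : Nat.card Q = 2 * Nat.card N) (hx : ∃ x : X, x ∉ Q ∧ x * x ∈ N) :
    Nat.card N ≤ 32 := by
  obtain ⟨X0, hinf, -, hyp⟩ := exists_half h C N hNQ hcard hx
  have hlt : Nat.card X0 < Nat.card X := by
    rcases lt_or_ge (Nat.card X0) (Nat.card X) with hlt | hge
    · exact hlt
    · exfalso
      rw [Subgroup.eq_top_of_card_eq X0 (le_antisymm (Subgroup.card_le_card_group X0) hge),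
        top_inf_eq] at hinf
      subst hinf
      have : 0 < Nat.card Q := Nat.card_pos
      omega
  have := (IH X0 (N.subgroupOf X0) hlt hyp).card_le
  rwa [Nat.card_congr (Subgroup.subgroupOfEquivOfLe (hinf ▸ inf_le_left : N ≤ X0)).toEquiv] at this

end Cfsg.Agent.Lib.L32Core58
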