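import Cfsg.Agent.Lib.L32Core58.Main

/-!
Recognition of `ℤ/4 × (ℤ/2)³`.
-/

set_option autoImplicit false

namespace Cfsg.Agent.Lib.L32Core58

variable {X : Type*} [Group X] [Finite X]

theorem Good32.nonempty_mulEquiv {Q : Subgroup X} (h : Good32 Q) :
    Nonempty (↥Q ≃* Multiplicative (ZMod 4) × (Fin 3 → Multiplicative (ZMod 2))) := by
  classical
  obtain ⟨hcard, hab, z, hzQ, hz1, hz2, hsq, c, hc, hcz⟩ := h
  let T : Subgroup X :=
    { carrier := {q | q ∈ Q ∧ q * q = 1}
      one_mem' := ⟨Q.one_mem, one_mul 1⟩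
      mul_mem' := by
        rintro a b ⟨ha, ha2⟩ ⟨hb, hb2⟩
        refine ⟨mul_mem ha hb, ?_⟩
        calc a * b * (a * b) = a * (b * a) * b := by group
          _ = a * a * (b * b) := by rw [← hab a ha b hb]; group
          _ = 1 := by rw [ha2, hb2, mul_one]
      inv_mem' := by
        rintro a ⟨ha, ha2⟩
        exact ⟨inv_mem ha, by rw [← _root_.mul_inv_rev, ha2, inv_one]⟩ }
  have hcT : c ∉ T := fun h1 => hz1 (hcz.symm.trans h1.2)
  have hQT : Nat.card Q = 2 * Nat.card T := by
    refine card_of_two_cosets (fun q hq => hq.1) hc hcT fun q hq => ?_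
    rcases hsq q hq with h1 | h1
    · exact Or.inl ⟨hq, h1⟩
    · refine Or.inr ⟨mul_mem (inv_mem hc) hq, ?_⟩
      calc c⁻¹ * q * (c⁻¹ * q) = c⁻¹ * (q * c⁻¹) * q := by group
        _ = (c * c)⁻¹ * (q * q) := by rw [← hab _ (inv_mem hc) q hq]; group
        _ = 1 := by rw [hcz, h1, inv_mul_cancel]
  obtain ⟨W, ⟨hWT, hzW⟩, hmax⟩ := (Set.toFinite {S : Subgroup X | S ≤ T ∧ z ∉ S}).exists_maximal
    ⟨⊥, bot_le, fun h1 => hz1 (Subgroup.mem_bot.mp h1)⟩
  have hzT : z ∈ T := ⟨hzQ, hz2⟩
  have hTW : Nat.card T = 2 * Nat.card W := by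
    refine card_of_two_cosets hWT hzT hzW fun t ht => ?_
    by_cases htW : t ∈ W
    · exact Or.inl htW
    right
    have hWt : ∀ w ∈ W, t * w = w * t := fun w hw => hab t ht.1 w (hWT hw).1
    let S : Subgroup X :=
      { carrier := {u | u ∈ W ∨ t * u ∈ W}
        one_mem' := Or.inl W.one_mem
        mul_mem' := by
          rintro a b (ha | ha) (hb | hb)
          · exact Or.inl (mul_mem ha hb)
          · refine Or.inr ?_
            rw [← mul_assoc, hWt a ha, mul_assoc]
            exact mul_mem ha hb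
          · exact Or.inr (by rw [← mul_assoc]; exact mul_mem ha hb)
          · refine Or.inl ?_
            have h1 := mul_mem ha hb
            rw [← mul_assoc, ← hWt _ ha, ← mul_assoc, ht.2, one_mul] at h1
            exact h1
        inv_mem' := by
          rintro a (ha | ha)
          · exact Or.inl (inv_mem ha)
          · refine Or.inr ?_
            have h1 := inv_mem ha
            have h2 := hWt _ h1
            rw [_root_.mul_inv_rev, inv_eq_of_mul_eq_one_right ht.2] at h1 h2
            rw [← mul_assoc] at h2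
            have h3 : t * a⁻¹ = a⁻¹ * t := by
              calc t * a⁻¹ = t * a⁻¹ * (t * t) := by rw [ht.2, mul_one]
                _ = a⁻¹ * t * t * t := by rw [← h2]; group
                _ = a⁻¹ * t := by rw [mul_assoc (a⁻¹ * t), ht.2, mul_one]
            rw [h3]; exact h1 }
    have hWS : W ≤ S := fun w hw => Or.inl hw
    have hST : S ≤ T := by
      rintro u (hu | hu)
      · exact hWT hu
      · rw [show u = t⁻¹ * (t * u) by group]; exact mul_mem (inv_mem ht) (hWT hu)
    have hzS : z ∈ S := by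
      by_contra hzS
      exact htW ((hmax ⟨hST, hzS⟩ hWS) (Or.inr (by rw [ht.2]; exact W.one_mem)))
    rcases hzS with h1 | h1
    · exact absurd h1 hzW
    · rw [inv_eq_of_mul_eq_one_right hz2, hab z hzQ t ht.1]; exact h1
  have hW8 : Nat.card W = 8 := by omega
  have hW2 : ∀ w ∈ W, w * w = 1 := fun w hw => (hWT hw).2
  obtain ⟨κ, hmul, hzero, honto⟩ := exists_coords (A := (⊥ : Subgroup X)) (B := W) inferInstance bot_le
    (by rw [hW8, Subgroup.card_bot]) (fun b hb => Subgroup.mem_bot.mpr (hW2 b hb))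
  have hκinj : ∀ a ∈ W, ∀ b ∈ W, κ a = κ b → a = b := by
    intro a ha b hb h1
    have h2 : κ (a * b) = 0 := by rw [hmul a ha b hb, h1, add_self3]
    rw [hzero _ (mul_mem ha hb), Subgroup.mem_bot] at h2
    calc a = a * (b * b) := by rw [hW2 b hb, mul_one]
      _ = b := by rw [← mul_assoc, h2, one_mul]
  choose s hs hsκ using honto
  have hsadd : ∀ u v, s (u + v) = s u * s v := fun u v =>
    hκinj _ (hs _) _ (mul_mem (hs u) (hs v)) (by rw [hsκ, hmul _ (hs u) _ (hs v), hsκ, hsκ])
  have hc4 : c ^ 4 = 1 := by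
    rw [show c ^ 4 = c * c * (c * c) by simp only [pow_succ, pow_zero, one_mul, mul_assoc], hcz, hz2]
  have hmod : ∀ n : ℕ, c ^ (n % 4) = c ^ n := fun n => by
    conv_rhs => rw [← Nat.mod_add_div n 4, pow_add, pow_mul, hc4, one_pow, mul_one]
  let φ : Multiplicative (ZMod 4) × (Fin 3 → Multiplicative (ZMod 2)) →* ↥Q :=
    MonoidHom.mk' (fun p => ⟨c ^ p.1.toAdd.val * s (fun i => (p.2 i).toAdd),
      mul_mem (pow_mem hc _) (hWT (hs _)).1⟩) (by
      rintro ⟨i, u⟩ ⟨j, v⟩
      apply Subtype.ext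
      simp only [Prod.mk_mul_mk, Subgroup.coe_mul, toAdd_mul, ZMod.val_add, hmod, pow_add, Pi.mul_apply]
      rw [show (fun k => (u k).toAdd + (v k).toAdd) = (fun k => (u k).toAdd) + (fun k => (v k).toAdd) from rfl,
        hsadd]
      have h1 := hab _ (pow_mem hc j.toAdd.val) _ (hWT (hs (fun k => (u k).toAdd))).1
      simp only [mul_assoc]
      congr 1
      rw [← mul_assoc, h1, mul_assoc])
  have hφ : Function.Injective φ := by
    rw [injective_iff_map_eq_one]
    rintro ⟨i, u⟩ hp
    have hp' : c ^ i.toAdd.val * s (fun k => (u k).toAdd) = 1 := congrArg Subtype.val hp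
    have hw := hs fun k => (u k).toAdd
    generalize hi : i.toAdd.val = n at hp'
    have hn : n < 4 := hi ▸ ZMod.val_lt _
    have hcW : c ^ n ∈ W := by rw [eq_inv_of_mul_eq_one_left hp']; exact inv_mem hw
    have hn0 : n = 0 := by
      interval_cases n
      · rfl
      · exact absurd (hWT (by simpa using hcW)) hcT
      · exact absurd (by rw [pow_two, hcz] at hcW; exact hcW) hzW
      · exfalso
        have h1 : c⁻¹ = c ^ 3 := inv_eq_of_mul_eq_one_right (by rw [← pow_succ']; exact hc4)
        exact hcT (by have := inv_mem (hWT (h1 ▸ hcW : c⁻¹ ∈ W)); rwa [inv_inv] at this)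
    subst hn0
    rw [pow_zero, one_mul] at hp'
    have h1 := hsκ fun k => (u k).toAdd
    rw [hp', (hzero 1 W.one_mem).mpr (Subgroup.one_mem ⊥)] at h1
    refine Prod.ext ?_ (funext fun k => ?_)
    · exact Multiplicative.toAdd.injective ((ZMod.val_eq_zero _).mp hi)
    · exact Multiplicative.toAdd.injective (congrFun h1 k).symm
  exact ⟨(MulEquiv.ofBijective φ ((Nat.bijective_iff_injective_and_card _).mpr
    ⟨hφ, by rw [hcard]; simp⟩)).symm⟩

end Cfsg.Agent.Lib.L32Core58
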