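import Cfsg.Agent.Lib.L32Core58.CaseThree
import Cfsg.Agent.Lib.Core.Nilpotent

/-!
The radical of a `2`-constrained group with simple top of order `168` and sectional `2`-rank at
most four is elementary of order `8` or `16`, or `ℤ/4 × (ℤ/2)³`.
-/

set_option autoImplicit false

namespace Cfsg.Agent.Lib.L32Core58

universe u

variable {X : Type u} [Group X] [Finite X]

theorem good_elementary {Q : Subgroup X} (h : Hyp Q) (hsq : ∀ q ∈ Q, q * q = 1) :
    (Nat.card Q = 8 ∨ Nat.card Q = 16) ∧ ∀ q ∈ Q, q * q = 1 := by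
  refine ⟨?_, hsq⟩
  haveI : Fact (Nat.Prime 2) := ⟨Nat.prime_two⟩
  have h16 : Nat.card Q ≤ 16 := by
    have h1 := h.rank Q ⊥ bot_le (fun x _ y hy => by rw [Subgroup.mem_bot] at hy ⊢; rw [hy]; group)
      (fun x hx => Subgroup.mem_bot.mpr (hsq x hx))
    rwa [Subgroup.card_bot, mul_one] at h1
  obtain ⟨k, hk⟩ := h.pgrp.exists_card_eq
  have hk4 : k ≤ 4 := (Nat.pow_le_pow_iff_right (le_refl 2)).mp (hk ▸ h16 : 2 ^ k ≤ 2 ^ 4)
  have h8 : 8 ≤ Nat.card Q := by
    by_contra hlt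
    push_neg at hlt
    have hcomm : ∀ a ∈ Q, ∀ b ∈ Q, a * b = b * a := fun a ha b hb => by
      have hinv : ∀ {w}, w ∈ Q → w⁻¹ = w := fun hw => inv_eq_of_mul_eq_one_right (hsq _ hw)
      rw [← hinv (mul_mem ha hb), _root_.mul_inv_rev, hinv ha, hinv hb]
    refine h.not_series (A := ⊥) bot_le (fun x a ha => ?_) fun x q hq => ?_
    · rw [Subgroup.mem_bot] at ha; subst ha; group
    rw [Subgroup.mem_bot]
    rcases h.class_cases (MonoidHom.id X) q (fun p hp => by
      show p * q * p⁻¹ = q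
      rw [hcomm p hp q hq, mul_inv_cancel_right]) with hfix | ⟨h7, -⟩
    · have h1 : x * q * x⁻¹ = q := hfix x
      rw [h1, inv_mul_cancel]
    · exfalso
      by_cases hq1 : q = 1
      · subst hq1
        simp at h7
      have hsub : {w : X | ∃ x, (MonoidHom.id X) x * q * ((MonoidHom.id X) x)⁻¹ = w} ⊆
          (Q : Set X) \ {1} := by
        rintro w ⟨y, rfl⟩
        exact ⟨h.normal.conj_mem q hq y, fun h1 => hq1 (conj_eq_one_iff.mp h1)⟩
      have h1 := Set.ncard_le_ncard hsub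
      rw [Set.ncard_diff_singleton_of_mem (one_mem Q), ← Nat.card_coe_set_eq (Q : Set X)] at h1
      simp only [SetLike.coe_sort_coe] at h1
      omega
  interval_cases k <;> omega

theorem good_step {Q : Subgroup X} (h : Hyp Q) (IH : Below.{u} (Nat.card X)) : Good Q := by
  classical
  haveI : Fact (Nat.Prime 2) := ⟨Nat.prime_two⟩
  by_cases hel : ∀ q ∈ Q, q * q = 1
  · exact Or.inl (good_elementary h hel)
  push_neg at hel
  obtain ⟨q₀, hq₀, hq₀1⟩ := hel
  -- central elements of order two among the squares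
  let W : Subgroup X :=
    { carrier := {w | w ∈ sqSub Q ∧ (∀ q ∈ Q, w * q = q * w) ∧ w * w = 1}
      one_mem' := ⟨one_mem _, fun q _ => by rw [one_mul, mul_one], one_mul 1⟩
      mul_mem' := by
        rintro a b ⟨ha, ha', ha2⟩ ⟨hb, hb', hb2⟩
        refine ⟨mul_mem ha hb, fun q hq => (Commute.mul_left (ha' q hq) (hb' q hq)).eq, ?_⟩
        calc a * b * (a * b) = a * (b * a) * b := by group
          _ = a * a * (b * b) := by rw [← ha' b (sqSub_le Q hb)]; group
          _ = 1 := by rw [ha2, hb2, mul_one]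
      inv_mem' := by
        rintro a ⟨ha, ha', ha2⟩
        rw [inv_eq_of_mul_eq_one_right ha2]
        exact ⟨ha, ha', ha2⟩ }
  have hWn : W.Normal := by
    refine ⟨fun w hw x => ⟨(sqSub_normal h.normal).conj_mem w hw.1 x, fun q hq => ?_, ?_⟩⟩
    · have h1 : x⁻¹ * q * x ∈ Q := by simpa using h.normal.conj_mem q hq x⁻¹
      calc x * w * x⁻¹ * q = x * (w * (x⁻¹ * q * x)) * x⁻¹ := by group
        _ = q * (x * w * x⁻¹) := by rw [hw.2.1 _ h1]; group
    · rw [show x * w * x⁻¹ * (x * w * x⁻¹) = x * (w * w) * x⁻¹ by group, hw.2.2, mul_one,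
        mul_inv_cancel]
  have hWne : W ≠ ⊥ := by
    haveI := h.pgrp.isNilpotent
    haveI := sqSub_normal h.normal
    have hne : (sqSub Q).subgroupOf Q ≠ ⊥ := by
      intro hb
      apply hq₀1
      have h1 : (⟨q₀ * q₀, mul_mem hq₀ hq₀⟩ : Q) ∈ (sqSub Q).subgroupOf Q :=
        Subgroup.mem_subgroupOf.mpr (mul_self_mem_sqSub hq₀)
      rw [hb, Subgroup.mem_bot] at h1
      exact congrArg Subtype.val h1
    obtain ⟨w, hw, hw1⟩ := (Subgroup.bot_or_exists_ne_one _).resolve_left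
      (Cfsg.Agent.Lib.Nilp.inf_center_ne_bot_of_normal hne)
    obtain ⟨k, hk⟩ := h.pgrp w
    obtain ⟨j, hj1, hj2⟩ : ∃ j, w ^ 2 ^ j ≠ 1 ∧ w ^ 2 ^ j * w ^ 2 ^ j = 1 := by
      induction k with
      | zero => exact absurd (by simpa using hk) hw1
      | succ k ih =>
        by_cases h1 : w ^ 2 ^ k = 1
        · exact ih h1
        · exact ⟨k, h1, by rw [← pow_add, ← two_mul, ← pow_succ']; exact hk⟩
    intro hb
    apply hj1
    obtain ⟨hws, hwc⟩ := Subgroup.mem_inf.mp (pow_mem hw (2 ^ j))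
    have hmem : ((w ^ 2 ^ j : Q) : X) ∈ W := by
      refine ⟨Subgroup.mem_subgroupOf.mp hws, fun q hq => ?_, congrArg Subtype.val hj2⟩
      exact congrArg Subtype.val (Subgroup.mem_center_iff.mp hwc ⟨q, hq⟩).symm
    rw [hb, Subgroup.mem_bot] at hmem
    exact Subtype.ext hmem
  obtain ⟨R, ⟨hRn, hRne, hRW⟩, hmin⟩ := (Set.toFinite {S : Subgroup X | S.Normal ∧ S ≠ ⊥ ∧ S ≤ W}).exists_minimal
    ⟨W, hWn, hWne, le_rfl⟩
  haveI : R.Normal := hRn
  have hgen : R ≤ sqSub Q := fun r hr => (hRW hr).1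
  have hRQ : R ≤ Q := hgen.trans (sqSub_le Q)
  have hRc : ∀ r ∈ R, ∀ q ∈ Q, r * q = q * r := fun r hr => (hRW hr).2.1
  have hR2 : ∀ r ∈ R, r * r = 1 := fun r hr => (hRW hr).2.2
  have hQR' : ∀ q ∈ Q, ∀ r ∈ R, q * r * q⁻¹ = r := fun q hq r hr => by
    rw [← hRc r hr q hq, mul_inv_cancel_right]
  have hmin' : ∀ S : Subgroup X, S.Normal → S ≠ ⊥ → S ≤ R → R ≤ S := fun S h1 h2 h3 =>
    hmin ⟨h1, h2, h3.trans hRW⟩ h3
  have hRcases : (Nat.card R = 2 ∧ ∀ x : X, ∀ r ∈ R, x * r * x⁻¹ = r) ∨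
      (Nat.card R = 8 ∧ ∀ r ∈ R, r ≠ 1 → ∃ x : X, x * r * x⁻¹ ≠ r) := by
    by_cases hfix : ∃ r ∈ R, r ≠ 1 ∧ ∀ x : X, x * r * x⁻¹ = r
    · obtain ⟨r, hr, hr1, hrfix⟩ := hfix
      left
      have hfix' : ∀ x : X, ∀ s ∈ Subgroup.zpowers r, x * s * x⁻¹ = s := by
        intro x s hs
        obtain ⟨n, rfl⟩ := Subgroup.mem_zpowers_iff.mp hs
        rw [← conj_zpow, hrfix]
      have hle := hmin' (Subgroup.zpowers r) ⟨fun s hs x => by rw [hfix' x s hs]; exact hs⟩
        (fun hb => hr1 (Subgroup.mem_bot.mp (hb ▸ Subgroup.mem_zpowers r)))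
        (Subgroup.zpowers_le.mpr hr)
      refine ⟨?_, fun x s hs => hfix' x s (hle hs)⟩
      rw [le_antisymm hle (Subgroup.zpowers_le.mpr hr), Nat.card_zpowers]
      exact orderOf_eq_prime (by rw [pow_two]; exact hR2 r hr) hr1
    push_neg at hfix
    right
    have hfree : ∀ r ∈ R, r ≠ 1 → ∃ x : X, x * r * x⁻¹ ≠ r := hfix
    refine ⟨?_, hfree⟩
    obtain ⟨r, hr, hr1⟩ := (Subgroup.bot_or_exists_ne_one R).resolve_left hRne
    have h8 : 8 ≤ Nat.card R := by
      rcases h.class_cases (MonoidHom.id X) r (fun p hp => hQR' p hp r hr) with h1 | ⟨h7, -⟩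
      · obtain ⟨x, hx⟩ := hfree r hr hr1
        exact absurd (h1 x) hx
      · have hsub : {w : X | ∃ x, (MonoidHom.id X) x * r * ((MonoidHom.id X) x)⁻¹ = w} ⊆
            (R : Set X) \ {1} := by
          rintro w ⟨y, rfl⟩
          exact ⟨hRn.conj_mem r hr y, fun h1 => hr1 (conj_eq_one_iff.mp h1)⟩
        have h1 := Set.ncard_le_ncard hsub
        rw [Set.ncard_diff_singleton_of_mem (one_mem R), ← Nat.card_coe_set_eq (R : Set X)] at h1
        simp only [SetLike.coe_sort_coe] at h1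
        omega
    have h16 : Nat.card R ≤ 16 := by
      have h1 := h.rank R ⊥ bot_le (fun x _ y hy => by rw [Subgroup.mem_bot] at hy ⊢; rw [hy]; group)
        (fun x hx => Subgroup.mem_bot.mpr (hR2 x hx))
      rwa [Subgroup.card_bot, mul_one] at h1
    obtain ⟨k, hk⟩ := (h.pgrp.to_le hRQ).exists_card_eq
    by_contra hne8
    have hk16 : Nat.card R = 16 := by
      have hk4 : k ≤ 4 := (Nat.pow_le_pow_iff_right (le_refl 2)).mp (hk ▸ h16 : 2 ^ k ≤ 2 ^ 4)
      interval_cases k <;> omega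
    have hne : ∃ x : X, x ^ 7 = 1 ∧ ∃ b ∈ R, x * b * x⁻¹ * b⁻¹ ∉ (⊥ : Subgroup X) := by
      obtain ⟨x, hxQ, hx⟩ := h.exists_seven
      refine ⟨x, hx, ?_⟩
      by_contra hcon
      push_neg at hcon
      have hxC : x ∈ Subgroup.centralizer (R : Set X) := by
        rw [Subgroup.mem_centralizer_iff]
        intro b hb
        exact (mul_inv_eq_iff_eq_mul.mp (mul_inv_eq_one.mp (Subgroup.mem_bot.mp (hcon b hb)))).symm
      rcases h.simple (Subgroup.centralizer (R : Set X)) inferInstance (fun q hq => by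
        rw [Subgroup.mem_centralizer_iff]; exact fun b hb => hRc b hb q hq) with hc | hc
      · exact hxQ (hc ▸ hxC)
      · obtain ⟨y, hy⟩ := hfree r hr hr1
        apply hy
        have h1 : y ∈ Subgroup.centralizer (R : Set X) := hc ▸ Subgroup.mem_top y
        rw [← Subgroup.mem_centralizer_iff.mp h1 r hr, mul_inv_cancel_right]
    rcases section16 (A := (⊥ : Subgroup X)) h hRn bot_le (by rw [Subgroup.card_bot, hk16])
        (fun b hb => Subgroup.mem_bot.mpr (hR2 b hb))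
        (fun q hq b hb => by rw [Subgroup.mem_bot, hQR' q hq b hb, mul_inv_cancel]) hne with
      ⟨H, hHn, -, hHR, hcH, -⟩ | ⟨f, hf, hf1, hffix, -⟩
    · rw [Subgroup.card_bot, mul_one] at hcH
      have hHne : H ≠ ⊥ := fun hb => by rw [hb, Subgroup.card_bot] at hcH; omega
      have := Subgroup.card_le_of_le (hmin' H hHn hHne hHR)
      omega
    · obtain ⟨x, hx⟩ := hfree f hf fun h1 => hf1 (Subgroup.mem_bot.mpr h1)
      exact hx (mul_inv_eq_one.mp (Subgroup.mem_bot.mp (hffix x)))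
  set π := QuotientGroup.mk' R with hπ
  have hπ1 : ∀ y, π y = 1 ↔ y ∈ R := fun y => QuotientGroup.eq_one_iff y
  have hQbar : ∀ q ∈ Q, π q ∈ Q.map π := fun q hq => Subgroup.mem_map_of_mem π hq
  have hcard := Hyp.card_map (Q := Q) R hRQ
  rcases IH (X ⧸ R) (Q.map π) (Hyp.card_quotient_lt R hRne) (h.quotient R hgen) with
    ⟨hc, hsq⟩ | ⟨hc, hab, zb, hzb, hzb1, hzb2, hsq, qb, hqb, hqbz⟩
  · have hsqR : ∀ q ∈ Q, q * q ∈ R := fun q hq => by
      rw [← hπ1, map_mul]; exact hsq _ (hQbar q hq)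
    have hcQ : Nat.card Q = 8 * Nat.card R ∨ Nat.card Q = 16 * Nat.card R := by
      rcases hc with hc | hc <;> rw [hcard, hc] <;> simp
    rcases hRcases with ⟨hcR, hfix⟩ | ⟨hcR, hfree⟩
    · exact Or.inr (case_one h R hcR hfix hgen hsqR hcQ)
    · exact (case_two h IH R hcR hR2 hRc hfree hgen hsqR hcQ).elim
  exfalso
  obtain ⟨c, hcQ, rfl⟩ := hqb
  set z := c * c with hzdef
  have hzπ : π z = zb := by rw [hzdef, map_mul]; exact hqbz
  have hzQ : z ∈ Q := mul_mem hcQ hcQ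
  have hzR : z ∉ R := fun h1 => hzb1 (hzπ.symm.trans ((hπ1 z).mpr h1))
  have hzz : z * z ∈ R := by rw [← hπ1, map_mul, hzπ]; exact hzb2
  have hcommR : ∀ a ∈ Q, ∀ b ∈ Q, a * b * a⁻¹ * b⁻¹ ∈ R := fun a ha b hb => by
    rw [← hπ1, map_mul, map_mul, map_mul, map_inv, map_inv, hab _ (hQbar a ha) _ (hQbar b hb)]
    group
  have hsq' : ∀ q ∈ Q, q * q ∈ R ∨ z⁻¹ * (q * q) ∈ R := fun q hq => by
    rcases hsq _ (hQbar q hq) with h1 | h1
    · exact Or.inl (by rw [← hπ1, map_mul]; exact h1)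
    · exact Or.inr (by rw [← hπ1, map_mul, map_inv, map_mul π q, hzπ, h1, inv_mul_cancel])
  have hzfix : ∀ x : X, x * z * x⁻¹ * z⁻¹ ∈ R := by
    intro x
    have hm : x * c * x⁻¹ ∈ Q := h.normal.conj_mem c hcQ x
    have h1 : π (x * z * x⁻¹) = π (x * c * x⁻¹) * π (x * c * x⁻¹) := by
      rw [← map_mul, hzdef]; congr 1; group
    rcases hsq _ (hQbar _ hm) with h2 | h2 <;> rw [← h1] at h2
    · exfalso
      apply hzR
      rw [← hπ1] at *
      rw [map_mul, map_mul, map_inv, conj_eq_one_iff] at h2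
      exact h2
    · rw [← hπ1, map_mul, h2, map_inv, hzπ, mul_inv_cancel]
  have hzc : ∀ q ∈ Q, z * q = q * z := by
    intro q hq
    have hg := hcommR c hcQ q hq
    set g := c * q * c⁻¹ * q⁻¹ with hgdef
    have h1 : z * q * z⁻¹ = q := by
      have h0 := hQR' c hcQ g hg
      calc z * q * z⁻¹ = (c * g * c⁻¹) * (g * q) := by rw [hzdef, hgdef]; group
        _ = g * g * q := by
          rw [h0]
          exact (mul_assoc _ _ _).symm
        _ = q := by rw [hR2 g hg, one_mul]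
    exact mul_inv_eq_iff_eq_mul.mp h1
  have hπQ : ∀ a ∈ Q, ∀ b ∈ Q, π a * π b = π b * π a := fun a ha b hb =>
    hab _ (hQbar a ha) _ (hQbar b hb)
  let H : Subgroup X :=
    { carrier := {q | q ∈ Q ∧ q * q ∈ R}
      one_mem' := ⟨Q.one_mem, by simp⟩
      mul_mem' := by
        rintro a b ⟨ha, ha'⟩ ⟨hb, hb'⟩
        refine ⟨mul_mem ha hb, ?_⟩
        rw [← hπ1, map_mul, map_mul, mul_assoc, ← mul_assoc (π b), ← hπQ a ha b hb, mul_assoc,
          ← mul_assoc, ← map_mul π a a, (hπ1 _).mpr ha', one_mul, ← map_mul, (hπ1 _).mpr hb']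
      inv_mem' := by
        rintro a ⟨ha, ha'⟩
        exact ⟨inv_mem ha, by rw [← _root_.mul_inv_rev]; exact inv_mem ha'⟩ }
  have hHmem : ∀ q, q ∈ H ↔ q ∈ Q ∧ q * q ∈ R := fun q => Iff.rfl
  have hHn : H.Normal := ⟨fun q hq x => (hHmem _).mpr ⟨h.normal.conj_mem q hq.1 x, by
    rw [show x * q * x⁻¹ * (x * q * x⁻¹) = x * (q * q) * x⁻¹ by group]
    exact hRn.conj_mem _ hq.2 x⟩⟩
  have hcosets : ∀ q ∈ Q, q ∈ H ∨ c⁻¹ * q ∈ H := by
    intro q hq
    rcases hsq' q hq with h1 | h1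
    · exact Or.inl ⟨hq, h1⟩
    · refine Or.inr ⟨mul_mem (inv_mem hcQ) hq, ?_⟩
      rw [← hπ1, map_mul, map_mul, map_inv, mul_assoc, ← mul_assoc (π q), ← map_inv,
        hπQ q hq _ (inv_mem hcQ), mul_assoc, ← mul_assoc, ← map_mul, ← map_mul, ← map_mul,
        ← _root_.mul_inv_rev, ← hzdef]
      exact (hπ1 _).mpr h1
  have hcH : c ∉ H := fun h1 => hzR h1.2
  have hcQH : Nat.card Q = 2 * Nat.card H := card_of_two_cosets (fun q hq => hq.1) hcQ hcH hcosets
  rw [hc] at hcard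
  rcases hRcases with ⟨hcR, hfix⟩ | ⟨hcR, hfree⟩
  · exact case_three_two h R hcR hfix hgen hcommR hcQ rfl hzR hzz hzfix hzc hsq' H hHn hHmem hcosets
      (by omega) (by omega)
  · refine case_three_eight h IH R hcR hR2 hRc hfree hzQ hzR hzz hzc hzfix H hHn (fun q hq => hq.1)
      (fun q hq hqH => ?_) (by omega) (by omega) hRQ
    have h1 : q * q ∉ R := fun h1 => hqH ⟨hq, h1⟩
    exact ⟨Or.inr ((hsq' q hq).resolve_left h1), h1⟩

theorem good_below.{v} (n : ℕ) : Below.{v} n := by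
  induction n with
  | zero => intro Y _ _ Q hlt; omega
  | succ n ih =>
    intro Y _ _ Q hlt h
    exact good_step h fun Z _ _ S hS hh => ih Z S (by omega) hh

/-- The conclusion holds under the hypotheses. -/
theorem good_of_hyp {Q : Subgroup X} (h : Hyp Q) : Good Q :=
  good_below (Nat.card X + 1) X Q (Nat.lt_succ_self _) h

end Cfsg.Agent.Lib.L32Core58
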