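import Cfsg.Agent.Lib.L32Core58.Tools

/-!
Invariant maps on a natural module, squares over a chart, and elementary sections of order sixteen.
-/

set_option autoImplicit false

namespace Cfsg.Agent.Lib.L32Core58

open Matrix

variable {X : Type*} [Group X]

namespace Chart

variable {Q A B : Subgroup X} (C : Chart Q A B)

/-- Transitivity on the nonzero coordinates. -/
theorem exists_conj {a b : X} (ha : a ∈ B) (ha0 : C.κ a ≠ 0) (hb0 : C.κ b ≠ 0) :
    ∃ x, C.κ (x * a * x⁻¹) = C.κ b := by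
  obtain ⟨M, hM, hMa⟩ := exists_move_one _ ha0
  obtain ⟨N, hN, hNb⟩ := exists_move_one _ hb0
  obtain ⟨y, rfl⟩ := C.surj M hM
  obtain ⟨w, rfl⟩ := C.surj N hN
  refine ⟨w * y⁻¹, ?_⟩
  rw [C.equiv _ a ha, map_mul, ← hMa, mulVec_mulVec, mul_assoc, C.ρ_inv_mul, mul_one, hNb]

/-- Transitivity on the pairs of independent coordinates. -/
theorem exists_conj_pair {a₁ a₂ c₁ c₂ : X} (ha₁ : a₁ ∈ B) (ha₂ : a₂ ∈ B) (ha₁0 : C.κ a₁ ≠ 0)
    (ha₂0 : C.κ a₂ ≠ 0) (ha : C.κ a₁ ≠ C.κ a₂) (hc₁0 : C.κ c₁ ≠ 0) (hc₂0 : C.κ c₂ ≠ 0)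
    (hc : C.κ c₁ ≠ C.κ c₂) :
    ∃ x, C.κ (x * a₁ * x⁻¹) = C.κ c₁ ∧ C.κ (x * a₂ * x⁻¹) = C.κ c₂ := by
  obtain ⟨M, hM, hMa, hMa'⟩ := exists_move _ _ ha₁0 ha₂0 ha
  obtain ⟨N, hN, hNb, hNb'⟩ := exists_move _ _ hc₁0 hc₂0 hc
  obtain ⟨y, rfl⟩ := C.surj M hM
  obtain ⟨w, rfl⟩ := C.surj N hN
  refine ⟨w * y⁻¹, ?_, ?_⟩
  · rw [C.equiv _ a₁ ha₁, map_mul, ← hMa, mulVec_mulVec, mul_assoc, C.ρ_inv_mul, mul_one, hNb]
  · rw [C.equiv _ a₂ ha₂, map_mul, ← hMa', mulVec_mulVec, mul_assoc, C.ρ_inv_mul, mul_one, hNb']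

include C in
/-- An invariant homomorphism on `B` killing `A` is trivial. -/
theorem invariant_trivial (ψ : X → X) (hmul : ∀ a ∈ B, ∀ b ∈ B, ψ (a * b) = ψ a * ψ b)
    (hA : ∀ a ∈ A, ψ a = 1) (hinv : ∀ x, ∀ b ∈ B, ψ (x * b * x⁻¹) = ψ b) :
    ∀ b ∈ B, ψ b = 1 := by
  have hsame : ∀ a ∈ B, ∀ b ∈ B, C.κ a = C.κ b → ψ a = ψ b := by
    intro a ha b hb hab
    have h1 := hmul a ha (a⁻¹ * b) (mul_mem (inv_mem ha) hb)
    rw [mul_inv_cancel_left, hA _ (C.mem_of_eq ha hb hab), mul_one] at h1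
    exact h1.symm
  have hconst : ∀ a ∈ B, ∀ b ∈ B, C.κ a ≠ 0 → C.κ b ≠ 0 → ψ a = ψ b := by
    intro a ha b hb ha0 hb0
    obtain ⟨x, hx⟩ := C.exists_conj ha ha0 hb0
    rw [← hinv x a ha]
    exact hsame _ (C.conj_mem x ha) b hb hx
  obtain ⟨u, hu, huκ⟩ := C.onto b1
  obtain ⟨v, hv, hvκ⟩ := C.onto b2
  have hu0 : C.κ u ≠ 0 := huκ ▸ b_ne.1
  have huv : C.κ (u * v) ≠ 0 := by rw [C.mul u hu v hv, huκ, hvκ]; exact b_ne.2.2.2.2
  have h1 := hmul u hu v hv
  rw [hconst _ (mul_mem hu hv) u hu huv hu0, hconst v hv u hu (hvκ ▸ b_ne.2.1) hu0] at h1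
  intro b hb
  by_cases hb0 : C.κ b = 0
  · exact hA b ((C.zero b hb).mp hb0)
  · rw [hconst b hb u hu hb0 hu0]
    exact (mul_eq_left.mp h1.symm)

include C in
/-- Commutators in a fixed group of order two force commutativity. -/
theorem commutative_of_comm {r : X} (hr : ∀ x, x * r * x⁻¹ = r)
    (hAB : ∀ a ∈ A, ∀ b ∈ B, a * b = b * a)
    (hcomm : ∀ a ∈ B, ∀ b ∈ B, a * b * a⁻¹ * b⁻¹ = 1 ∨ a * b * a⁻¹ * b⁻¹ = r) :
    ∀ a ∈ B, ∀ b ∈ B, a * b = b * a := by
  have hfix : ∀ x : X, ∀ a ∈ B, ∀ b ∈ B,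
      x * (a * b * a⁻¹ * b⁻¹) * x⁻¹ = a * b * a⁻¹ * b⁻¹ := by
    intro x a ha b hb
    rcases hcomm a ha b hb with h | h <;> rw [h]
    · group
    · exact hr x
  have hleft : ∀ a ∈ B, ∀ a' ∈ B, ∀ b ∈ B, C.κ a = C.κ a' →
      a' * b * a'⁻¹ * b⁻¹ = a * b * a⁻¹ * b⁻¹ := by
    intro a ha a' ha' b hb h
    have h1 := hAB _ (C.mem_of_eq ha ha' h) b hb
    calc a' * b * a'⁻¹ * b⁻¹ = a * ((a⁻¹ * a') * b * (a⁻¹ * a')⁻¹) * a⁻¹ * b⁻¹ := by group
      _ = a * b * a⁻¹ * b⁻¹ := by rw [h1, mul_inv_cancel_right]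
  have hright : ∀ a ∈ B, ∀ b ∈ B, ∀ b' ∈ B, C.κ b = C.κ b' →
      a * b' * a⁻¹ * b'⁻¹ = a * b * a⁻¹ * b⁻¹ := by
    intro a ha b hb b' hb' h
    rw [show a * b' * a⁻¹ * b'⁻¹ = (b' * a * b'⁻¹ * a⁻¹)⁻¹ by group, hleft b hb b' hb' a ha h]
    group
  obtain ⟨u, hu, huκ⟩ := C.onto b1
  obtain ⟨v, hv, hvκ⟩ := C.onto b2
  obtain ⟨w, hw, hwκ⟩ := C.onto b3
  have hconst : ∀ a ∈ B, ∀ b ∈ B, C.κ a ≠ 0 → C.κ b ≠ 0 → C.κ a ≠ C.κ b →
      a * b * a⁻¹ * b⁻¹ = u * v * u⁻¹ * v⁻¹ := by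
    intro a ha b hb ha0 hb0 hab
    obtain ⟨x, hx, hx'⟩ := C.exists_conj_pair hu hv (huκ ▸ b_ne.1) (hvκ ▸ b_ne.2.1)
      (huκ ▸ hvκ ▸ b_ne.2.2.2.1) ha0 hb0 hab
    rw [hleft _ (C.conj_mem x hu) a ha b hb hx, hright _ (C.conj_mem x hu) _ (C.conj_mem x hv) b hb hx',
      show x * u * x⁻¹ * (x * v * x⁻¹) * (x * u * x⁻¹)⁻¹ * (x * v * x⁻¹)⁻¹ =
        x * (u * v * u⁻¹ * v⁻¹) * x⁻¹ by group, hfix x u hu v hv]
  have hne : ∀ v : V3, v ≠ 0 → v ≠ b1 → b1 ≠ v := fun v _ h => fun h' => h h'.symm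
  have h3 : u * v * u⁻¹ * v⁻¹ = 1 := by
    have h31 : b1 ≠ b3 := by decide
    have h23 : b2 + b3 ≠ 0 ∧ b1 ≠ b2 + b3 := by decide
    have e1 := hconst u hu w hw (huκ ▸ b_ne.1) (hwκ ▸ b_ne.2.2.1) (huκ ▸ hwκ ▸ h31)
    have e2 := hconst u hu (v * w) (mul_mem hv hw) (huκ ▸ b_ne.1)
      (by rw [C.mul v hv w hw, hvκ, hwκ]; exact h23.1)
      (by rw [C.mul v hv w hw, huκ, hvκ, hwκ]; exact h23.2)
    have hexp : u * (v * w) * u⁻¹ * (v * w)⁻¹ =
        (u * v * u⁻¹ * v⁻¹) * (v * (u * w * u⁻¹ * w⁻¹) * v⁻¹) := by group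
    rw [e2, hfix v u hu w hw, e1] at hexp
    exact mul_eq_left.mp hexp.symm
  intro a ha b hb
  rw [← mul_inv_eq_iff_eq_mul, ← mul_inv_eq_one]
  by_cases ha0 : C.κ a = 0
  · rw [hAB a ((C.zero a ha).mp ha0) b hb]; group
  by_cases hb0 : C.κ b = 0
  · rw [← hAB b ((C.zero b hb).mp hb0) a ha]; group
  by_cases hab : C.κ a = C.κ b
  · rw [hright a ha a ha b hb hab]; group
  · rw [hconst a ha b hb ha0 hb0 hab, h3]

include C in
theorem sq_mem {b : X} (hb : b ∈ B) : b * b ∈ A := by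
  rw [← C.zero _ (mul_mem hb hb), C.mul b hb b hb, add_self3]

end Chart

variable [Finite X]

/-- Squares over a chart landing in a fixed point free group of order eight: either trivial, or a
bijection onto that group and `B` is commutative. -/
theorem squares_chart {Q A B R : Subgroup X} (h : Hyp Q) (C : Chart Q A B) (hR : R.Normal)
    (hcR : Nat.card R = 8) (hR2 : ∀ r ∈ R, r * r = 1) (hQR : ∀ q ∈ Q, ∀ r ∈ R, q * r * q⁻¹ = r)
    (hfree : ∀ r ∈ R, r ≠ 1 → ∃ x : X, x * r * x⁻¹ ≠ r) (hRB : ∀ r ∈ R, ∀ b ∈ B, r * b = b * r)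
    (hA2 : ∀ a ∈ A, a * a = 1) (hAB : ∀ a ∈ A, ∀ b ∈ B, a * b = b * a)
    (hsq : ∀ b ∈ B, b * b ∈ R) :
    (∀ b ∈ B, b * b = 1) ∨ ((∀ a ∈ B, ∀ b ∈ B, a * b = b * a) ∧
      ∃ CR : Chart Q ⊥ R, CR.ρ = C.ρ ∧ ∀ b ∈ B, CR.κ (b * b) = C.κ b) := by
  classical
  choose s hs hsκ using C.onto
  have hwd : ∀ a ∈ B, ∀ b ∈ B, C.κ a = C.κ b → a * a = b * b := by
    intro a ha b hb hab
    have hα := C.mem_of_eq ha hb hab
    calc a * a = a * a * ((a⁻¹ * b) * (a⁻¹ * b)) := by rw [hA2 _ hα, mul_one]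
      _ = a * (a * (a⁻¹ * b)) * (a⁻¹ * b) := by group
      _ = a * ((a⁻¹ * b) * a) * (a⁻¹ * b) := by rw [hAB _ hα a ha]
      _ = b * b := by group
  let σ : V3 → X := fun v => s v * s v
  have hσR : ∀ v, σ v ∈ R := fun v => hsq _ (hs v)
  have hσ : ∀ b ∈ B, b * b = σ (C.κ b) := fun b hb => hwd b hb _ (hs _) (hsκ _).symm
  have hσM : ∀ x v, x * σ v * x⁻¹ = σ (C.ρ x *ᵥ v) := by
    intro x v
    rw [show x * σ v * x⁻¹ = x * s v * x⁻¹ * (x * s v * x⁻¹) by simp only [σ]; group,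
      hσ _ (C.conj_mem x (hs v)), C.equiv x _ (hs v), hsκ]
  have hσ0 : σ 0 = 1 := by
    rw [← C.κ_one, ← hσ 1 B.one_mem, one_mul]
  by_cases h1 : σ b1 = 1
  · left
    intro b hb
    rw [hσ b hb]
    by_cases hb0 : C.κ b = 0
    · rw [hb0, hσ0]
    obtain ⟨M, hM, hMb⟩ := exists_move_one _ hb0
    obtain ⟨x, rfl⟩ := C.surj M hM
    rw [← hMb, ← hσM, h1, mul_one, mul_inv_cancel]
  right
  have hbij : Function.Bijective (fun v => (⟨σ v, hσR v⟩ : R)) := by
    refine (Nat.bijective_iff_surjective_and_card _).mpr ⟨?_, ?_⟩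
    · rcases h.class_cases (MonoidHom.id X) (σ b1) (fun q hq => hQR q hq _ (hσR b1)) with hfix | ⟨h7, -⟩
      · obtain ⟨x, hx⟩ := hfree _ (hσR b1) h1
        exact absurd (hfix x) hx
      · have hsub : {z : X | ∃ x, (MonoidHom.id X) x * σ b1 * ((MonoidHom.id X) x)⁻¹ = z} ⊆
            (R : Set X) \ {1} := by
          rintro z ⟨x, rfl⟩
          refine ⟨hR.conj_mem _ (hσR b1) x, fun hz => h1 ?_⟩
          exact conj_eq_one_iff.mp hz
        have hc : ((R : Set X) \ {1}).ncard = 7 := by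
          rw [Set.ncard_diff_singleton_of_mem (one_mem R), ← Nat.card_coe_set_eq]
          simp only [SetLike.coe_sort_coe]
          rw [hcR]
        have heq := Set.eq_of_subset_of_ncard_le hsub (hc ▸ h7)
        rintro ⟨r, hr⟩
        by_cases hr1 : r = 1
        · exact ⟨0, Subtype.ext (hσ0.trans hr1.symm)⟩
        have hmem : r ∈ (R : Set X) \ {1} := ⟨hr, hr1⟩
        rw [← heq] at hmem
        obtain ⟨x, hx⟩ := hmem
        exact ⟨C.ρ x *ᵥ b1, Subtype.ext (show σ _ = r by rw [← hσM]; exact hx)⟩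
    · rw [hcR]; simp
  have hinj : ∀ u v, σ u = σ v → u = v := fun u v huv => hbij.injective (Subtype.ext huv)
  have hσadd : ∀ u v, σ (u + v) = σ u * σ v := by
    have hF : σ (b1 + b2) * σ b1 * σ b2 = 1 := by
      obtain ⟨w, hw⟩ := hbij.surjective ⟨_, mul_mem (mul_mem (hσR (b1 + b2)) (hσR b1)) (hσR b2)⟩
      have hw' : σ w = σ (b1 + b2) * σ b1 * σ b2 := congrArg Subtype.val hw
      rw [← hw', ← hσ0]
      congr 1
      refine line_fixed w fun M hM hMc => hinj _ _ ?_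
      obtain ⟨x, rfl⟩ := C.surj M hM
      rw [← hσM, hw', show x * (σ (b1 + b2) * σ b1 * σ b2) * x⁻¹ =
        x * σ (b1 + b2) * x⁻¹ * (x * σ b1 * x⁻¹) * (x * σ b2 * x⁻¹) by group, hσM, hσM, hσM,
        mulVec_add]
      rcases hMc with ⟨e1, e2⟩ | ⟨e1, e2⟩
      · rw [e1, e2, show b2 + (b1 + b2) = b1 by decide]
        have hRc : ∀ u v, σ u * σ v = σ v * σ u := fun u v => hRB _ (hσR u) _ (mul_mem (hs v) (hs v))
        rw [mul_assoc (σ b1), hRc b2, ← mul_assoc, hRc b1 (b1 + b2)]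
      · rw [e1, e2]
    intro u v
    by_cases hu : u = 0
    · rw [hu, zero_add, hσ0, one_mul]
    by_cases hv : v = 0
    · rw [hv, add_zero, hσ0, mul_one]
    by_cases huv : u = v
    · rw [huv, add_self3, hσ0, hR2 _ (hσR v)]
    obtain ⟨M, hM, e1, e2⟩ := exists_move u v hu hv huv
    obtain ⟨x, rfl⟩ := C.surj M hM
    have h3 : σ (u + v) * σ u * σ v = 1 := by
      have h4 := congrArg (fun z => x * z * x⁻¹) hF
      rw [show x * (σ (b1 + b2) * σ b1 * σ b2) * x⁻¹ =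
        x * σ (b1 + b2) * x⁻¹ * (x * σ b1 * x⁻¹) * (x * σ b2 * x⁻¹) by group, hσM, hσM, hσM,
        mulVec_add, e1, e2, mul_one, mul_inv_cancel] at h4
      exact h4
    rw [mul_assoc] at h3
    rw [mul_eq_one_iff_eq_inv.mp h3]
    exact inv_eq_of_mul_eq_one_right (hR2 _ (mul_mem (hσR u) (hσR v)))
  refine ⟨fun a ha b hb => ?_, ?_⟩
  · have h1 := hσ _ (mul_mem ha hb)
    rw [C.mul a ha b hb, hσadd, ← hσ a ha, ← hσ b hb] at h1
    have h2 : a⁻¹ * (a * b * (a * b)) * b⁻¹ = a⁻¹ * (a * a * (b * b)) * b⁻¹ := by rw [h1]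
    rw [show a⁻¹ * (a * b * (a * b)) * b⁻¹ = b * a by group,
      show a⁻¹ * (a * a * (b * b)) * b⁻¹ = a * b by group] at h2
    exact h2.symm
  let E := Equiv.ofBijective _ hbij
  let κR : X → V3 := fun x => if hx : x ∈ R then E.symm ⟨x, hx⟩ else 0
  have hκσ : ∀ v, κR (σ v) = v := fun v => by
    simp only [κR, dif_pos (hσR v)]
    exact E.symm_apply_apply v
  have hσκ : ∀ r ∈ R, σ (κR r) = r := fun r hr => by
    simp only [κR, dif_pos hr]
    exact congrArg Subtype.val (E.apply_symm_apply ⟨r, hr⟩)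
  refine ⟨{ ρ := C.ρ
            κ := κR
            det := C.det
            surj := C.surj
            ker := C.ker
            le := bot_le
            normalA := inferInstance
            normalB := hR
            mul := ?_, zero := ?_, onto := ?_, equiv := ?_ }, rfl, ?_⟩
  · intro a ha b hb
    conv_lhs => rw [← hσκ a ha, ← hσκ b hb, ← hσadd, hκσ]
  · intro a ha
    rw [Subgroup.mem_bot]
    constructor
    · intro h0; rw [← hσκ a ha, h0, hσ0]
    · rintro rfl; rw [← hσ0, hκσ]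
  · exact fun v => ⟨σ v, hσR v, hκσ v⟩
  · intro x b hb
    conv_lhs => rw [← hσκ b hb, hσM, hκσ]
  · intro b hb
    show κR (b * b) = C.κ b
    rw [hσ b hb, hκσ]

/-- A class of seven and a class of eight: products of two members of the first avoid the second. -/
theorem seven_closed {Y : Type*} [Group Y] (S T : Finset Y) (hS : S.card = 7) (hT : T.card = 8)
    (hSt : ∀ a ∈ S, ∀ b ∈ S, ∃ φ : MulAut Y, φ a = b ∧ (∀ z ∈ S, φ z ∈ S) ∧ ∀ z ∈ T, φ z ∈ T)
    (hTt : ∀ a ∈ T, ∀ b ∈ T, ∃ φ : MulAut Y, φ a = b ∧ ∀ z ∈ S, φ z ∈ S) :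
    ∀ a ∈ S, ∀ b ∈ S, a * b ∉ T := by
  classical
  intro a ha b hb hab
  set P := (S ×ˢ S).filter fun p => p.1 * p.2 ∈ T with hP
  let j : Y → ℕ := fun x => (P.filter fun p => p.1 = x).card
  let k : Y → ℕ := fun t => (P.filter fun p => p.1 * p.2 = t).card
  have hmemP : ∀ p : Y × Y, p ∈ P ↔ p.1 ∈ S ∧ p.2 ∈ S ∧ p.1 * p.2 ∈ T := fun p => by
    simp [hP, and_assoc]
  have hj : ∀ x ∈ S, ∀ y ∈ S, j x ≤ j y := by
    intro x hx y hy
    obtain ⟨φ, hφ, hφS, hφT⟩ := hSt x hx y hy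
    refine Finset.card_le_card_of_injOn (fun p => (φ p.1, φ p.2)) (fun p hp => ?_)
      (fun p _ q _ hpq => Prod.ext (φ.injective (Prod.mk.injEq .. ▸ hpq).1)
        (φ.injective (Prod.mk.injEq .. ▸ hpq).2))
    simp only [Finset.mem_coe, Finset.mem_filter, hmemP] at hp ⊢
    exact ⟨⟨hφS _ hp.1.1, hφS _ hp.1.2.1, by rw [← map_mul]; exact hφT _ hp.1.2.2⟩,
      by rw [hp.2, hφ]⟩
  have hk : ∀ x ∈ T, ∀ y ∈ T, k x ≤ k y := by
    intro x hx y hy
    obtain ⟨φ, hφ, hφS⟩ := hTt x hx y hy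
    refine Finset.card_le_card_of_injOn (fun p => (φ p.1, φ p.2)) (fun p hp => ?_)
      (fun p _ q _ hpq => Prod.ext (φ.injective (Prod.mk.injEq .. ▸ hpq).1)
        (φ.injective (Prod.mk.injEq .. ▸ hpq).2))
    simp only [Finset.mem_coe, Finset.mem_filter, hmemP] at hp ⊢
    refine ⟨⟨hφS _ hp.1.1, hφS _ hp.1.2.1, ?_⟩, ?_⟩
    · rw [← map_mul, hp.2, hφ]; exact hy
    · rw [← map_mul, hp.2, hφ]
  have h7 : P.card = 7 * j a := by
    rw [Finset.card_eq_sum_card_fiberwise (f := Prod.fst) (t := S) fun p hp => ((hmemP p).mp hp).1,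
      Finset.sum_congr rfl fun x hx => le_antisymm (hj x hx a ha) (hj a ha x hx), Finset.sum_const, hS,
      smul_eq_mul]
  have h8 : P.card = 8 * k (a * b) := by
    rw [Finset.card_eq_sum_card_fiberwise (f := fun p => p.1 * p.2) (t := T)
        fun p hp => ((hmemP p).mp hp).2.2,
      Finset.sum_congr rfl fun x hx => le_antisymm (hk x hx _ hab) (hk _ hab x hx), Finset.sum_const, hT,
      smul_eq_mul]
  have h49 : P.card ≤ 49 := by
    refine (Finset.card_filter_le _ _).trans ?_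
    rw [Finset.card_product, hS]
  have hpos : 0 < k (a * b) := Finset.card_pos.mpr ⟨(a, b), by simp [hmemP, ha, hb, hab]⟩
  omega

/-- An elementary section of order sixteen has an invariant natural submodule, or a fixed point `f`
over which the outer cosets form a single class. -/
theorem section16 {Q A B : Subgroup X} (h : Hyp Q) [A.Normal] (hB : B.Normal) (hle : A ≤ B)
    (hcB : Nat.card B = 16 * Nat.card A) (hsq : ∀ b ∈ B, b * b ∈ A)
    (hQ : ∀ q ∈ Q, ∀ b ∈ B, q * b * q⁻¹ * b⁻¹ ∈ A)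
    (hne : ∃ x : X, x ^ 7 = 1 ∧ ∃ b ∈ B, x * b * x⁻¹ * b⁻¹ ∉ A) :
    (∃ H : Subgroup X, H.Normal ∧ A ≤ H ∧ H ≤ B ∧ Nat.card H = 8 * Nat.card A ∧
        Nonempty (Chart Q A H)) ∨
      ∃ f ∈ B, f ∉ A ∧ (∀ x : X, x * f * x⁻¹ * f⁻¹ ∈ A) ∧ ∃ F : Subgroup X,
        Nonempty (Chart Q F B) ∧ (∀ z, z ∈ F ↔ z ∈ A ∨ f⁻¹ * z ∈ A) ∧
        ∀ b ∈ B, ∀ b' ∈ B, b ∉ F → b' ∉ F → ∃ x : X, x * b * x⁻¹ * b'⁻¹ ∈ A := by
  classical
  set π := QuotientGroup.mk' A with hπ
  have hπs : Function.Surjective π := QuotientGroup.mk'_surjective A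
  have hπ1 : ∀ y, π y = 1 ↔ y ∈ A := fun y => QuotientGroup.eq_one_iff y
  have hcm : ∀ a b : X, π a = π b ↔ a * b⁻¹ ∈ A := fun a b => by
    rw [← hπ1, map_mul, map_inv, mul_inv_eq_one]
  have hcomm : ∀ a b : X, a * b * a⁻¹ * b⁻¹ ∈ A ↔ π a * π b * (π a)⁻¹ = π b := fun a b => by
    rw [← hcm, map_mul, map_mul, map_inv]
  have hexp : ∀ b ∈ B, π b * π b = 1 := fun b hb => by rw [← map_mul, hπ1]; exact hsq b hb
  haveI : (B.map π).Normal := hB.map π hπs
  by_cases hfix : ∃ f ∈ B, f ∉ A ∧ ∀ x : X, x * f * x⁻¹ * f⁻¹ ∈ A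
  · obtain ⟨f, hfB, hfA, hf⟩ := hfix
    have hfc : ∀ x, π x * π f = π f * π x := fun x =>
      mul_inv_eq_iff_eq_mul.mp ((hcomm x f).mp (hf x))
    have hf2 : π f * π f = 1 := hexp f hfB
    let F : Subgroup X :=
      { carrier := {z | π z = 1 ∨ π z = π f}
        one_mem' := Or.inl (map_one π)
        mul_mem' := by
          rintro a b (ha | ha) (hb | hb) <;> simp [ha, hb, hf2]
        inv_mem' := by
          rintro a (ha | ha)
          · exact Or.inl (by rw [map_inv, ha, inv_one])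
          · exact Or.inr (by rw [map_inv, ha]; exact inv_eq_of_mul_eq_one_right hf2) }
    have hFmem : ∀ z, z ∈ F ↔ z ∈ A ∨ f⁻¹ * z ∈ A := fun z => by
      show (π z = 1 ∨ π z = π f) ↔ _
      rw [← hπ1 z, ← hπ1 (f⁻¹ * z), map_mul, map_inv, inv_mul_eq_one, eq_comm (a := π f)]
    have hFN : F.Normal := by
      refine ⟨?_⟩
      rintro z (hz | hz) x
      · exact Or.inl (by rw [map_mul, map_mul, hz, mul_one, map_inv, mul_inv_cancel])
      · exact Or.inr (by rw [map_mul, map_mul, hz, map_inv, hfc, mul_inv_cancel_right])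
    have hAF : A ≤ F := fun a ha => Or.inl ((hπ1 a).mpr ha)
    have hFB : F ≤ B := by
      intro z hz
      rcases (hFmem z).mp hz with hz | hz
      · exact hle hz
      · rw [← mul_inv_cancel_left f z]
        exact mul_mem hfB (hle hz)
    have hcF : Nat.card F = 2 * Nat.card A := by
      let g : Fin 2 × A → F := fun p => ⟨f ^ p.1.val * p.2, mul_mem
        (pow_mem (show f ∈ F from Or.inr rfl) _) (hAF p.2.2)⟩
      have hg : Function.Bijective g := by
        constructor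
        · rintro ⟨i, a⟩ ⟨j, a'⟩ hh
          have hh' : f ^ i.val * a = f ^ j.val * a' := congrArg Subtype.val hh
          have h1 := congrArg π hh'
          rw [map_mul, map_mul, (hπ1 _).mpr a.2, (hπ1 _).mpr a'.2, mul_one, mul_one] at h1
          have hf1 : π f ≠ 1 := fun h1 => hfA ((hπ1 f).mp h1)
          have hij : i = j := by
            fin_cases i <;> fin_cases j <;> simp [hf1, Ne.symm hf1] at h1 ⊢
          subst hij
          exact Prod.ext rfl (Subtype.ext (mul_left_cancel hh'))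
        · rintro ⟨z, hz⟩
          rcases (hFmem z).mp hz with hz | hz
          · exact ⟨⟨0, z, hz⟩, Subtype.ext (by simp [g])⟩
          · exact ⟨⟨1, f⁻¹ * z, hz⟩, Subtype.ext (by simp [g])⟩
      rw [← Nat.card_congr (Equiv.ofBijective g hg), Nat.card_prod, Nat.card_fin]
    obtain ⟨C⟩ := exists_chart h hFN hB hFB (by rw [hcF, hcB]; ring) (fun b hb => hAF (hsq b hb))
      (fun q hq b hb => hAF (hQ q hq b hb)) (by
        obtain ⟨x, hx7, b, hb, hxb⟩ := hne
        refine ⟨x, b, hb, fun hbF => hxb ?_⟩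
        set g := x * b * x⁻¹ * b⁻¹ with hg
        have hgA : π g * π g = 1 := by
          rcases (hbF : π g = 1 ∨ π g = π f) with h1 | h1 <;> rw [h1]
          · exact one_mul 1
          · exact hf2
        have hgc : π x * π g * (π x)⁻¹ = π g := by
          rcases (hbF : π g = 1 ∨ π g = π f) with h1 | h1 <;> rw [h1]
          · group
          · rw [hfc, mul_inv_cancel_right]
        have hit : ∀ n : ℕ, π x ^ n * π b * (π x ^ n)⁻¹ = π g ^ n * π b := by
          intro n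
          induction n with
          | zero => simp
          | succ n ih =>
            rw [pow_succ' (π x), _root_.mul_inv_rev,
              show π x * π x ^ n * π b * ((π x ^ n)⁻¹ * (π x)⁻¹) =
                π x * (π x ^ n * π b * (π x ^ n)⁻¹) * (π x)⁻¹ by group, ih,
              show π x * (π g ^ n * π b) * (π x)⁻¹ =
                (π x * π g ^ n * (π x)⁻¹) * (π x * π b * (π x)⁻¹) by group,
              ← conj_pow, hgc, show π x * π b * (π x)⁻¹ = π g * π b by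
                rw [hg, map_mul, map_mul, map_mul, map_inv, map_inv, inv_mul_cancel_right],
              ← mul_assoc, ← pow_succ]
        have h7 := hit 7
        rw [← map_pow, hx7, map_one, one_mul, inv_one, mul_one, eq_comm, mul_eq_right,
          show π g ^ 7 = π g * π g * (π g * π g) * (π g * π g) * π g by
            simp only [pow_succ, pow_zero, one_mul, mul_assoc], hgA, one_mul, one_mul,
          one_mul] at h7
        exact (hπ1 g).mp h7)
    have hsame : ∀ a ∈ B, ∀ b ∈ B, C.κ a = C.κ b → π b = π a ∨ π b = π a * π f := by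
      intro a ha b hb hab
      rcases (C.mem_of_eq ha hb hab : π (a⁻¹ * b) = 1 ∨ π (a⁻¹ * b) = π f) with h1 | h1 <;>
        rw [map_mul, map_inv, inv_mul_eq_iff_eq_mul] at h1
      · exact Or.inl (h1.trans (mul_one _))
      · exact Or.inr h1
    have hnot : ∀ b ∈ B, b ∉ F ↔ C.κ b ≠ 0 := fun b hb => (C.zero b hb).not.symm
    obtain ⟨b₀, hb₀, hb₀κ⟩ := C.onto b1
    have hb₀0 : C.κ b₀ ≠ 0 := hb₀κ ▸ b_ne.1
    by_cases hswap : ∃ x, π x * π b₀ * (π x)⁻¹ = π b₀ * π f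
    · refine Or.inr ⟨f, hfB, hfA, hf, F, ⟨C⟩, hFmem, ?_⟩
      have hall : ∀ b ∈ B, b ∉ F → ∃ x, π x * π b₀ * (π x)⁻¹ = π b := by
        intro b hb hbF
        obtain ⟨y, hy⟩ := C.exists_conj hb₀ hb₀0 ((hnot b hb).mp hbF)
        rcases hsame _ (C.conj_mem y hb₀) b hb hy with h1 | h1 <;> rw [map_mul, map_mul, map_inv] at h1
        · exact ⟨y, h1.symm⟩
        · obtain ⟨x, hx⟩ := hswap
          refine ⟨y * x, ?_⟩
          rw [h1, map_mul, show π y * π x * π b₀ * (π y * π x)⁻¹ =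
            π y * (π x * π b₀ * (π x)⁻¹) * (π y)⁻¹ by group, hx, ← mul_assoc,
            mul_assoc (π y * π b₀), show π f * (π y)⁻¹ = (π y)⁻¹ * π f by
              rw [← map_inv]; exact (hfc _).symm, ← mul_assoc]
      intro b hb b' hb' hbF hb'F
      obtain ⟨x, hx⟩ := hall b hb hbF
      obtain ⟨x', hx'⟩ := hall b' hb' hb'F
      refine ⟨x' * x⁻¹, ?_⟩
      rw [← hcm, map_mul, map_mul, ← hx, ← hx', map_inv, map_mul, map_inv]
      group
    push_neg at hswap
    left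
    -- the class of `b₀` contains exactly one coset over each nonzero vector
    let S : Set (X ⧸ A) := {z | ∃ x, π x * π b₀ * (π x)⁻¹ = z}
    have huniq : ∀ a ∈ B, ∀ b ∈ B, π a ∈ S → π b ∈ S → C.κ a = C.κ b → π a = π b := by
      rintro a ha b hb ⟨x, hx⟩ ⟨y, hy⟩ hab
      rcases hsame a ha b hb hab with h1 | h1
      · exact h1.symm
      exfalso
      refine hswap (x⁻¹ * y) ?_
      rw [map_mul, map_inv, show (π x)⁻¹ * π y * π b₀ * ((π x)⁻¹ * π y)⁻¹ =
        (π x)⁻¹ * (π y * π b₀ * (π y)⁻¹) * π x by group, hy, h1, ← hx,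
        show (π x)⁻¹ * (π x * π b₀ * (π x)⁻¹ * π f) * π x = π b₀ * ((π x)⁻¹ * (π f * π x)) by group,
        ← hfc, inv_mul_cancel_left]
    have hSinv : ∀ x, ∀ z ∈ S, π x * z * (π x)⁻¹ ∈ S := by
      rintro x z ⟨y, rfl⟩
      exact ⟨x * y, by rw [map_mul]; group⟩
    have hlift : ∀ v : V3, v ≠ 0 → ∃ b ∈ B, π b ∈ S ∧ C.κ b = v := by
      intro v hv
      obtain ⟨M, hM, hMv⟩ := exists_move_one v hv
      obtain ⟨x, rfl⟩ := C.surj M hM
      exact ⟨x * b₀ * x⁻¹, C.conj_mem x hb₀, ⟨x, by rw [map_mul, map_mul, map_inv]⟩,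
        by rw [C.equiv x b₀ hb₀, hb₀κ, hMv]⟩
    obtain ⟨a, ha, haS, haκ⟩ := hlift b1 b_ne.1
    obtain ⟨c, hc, hcS, hcκ⟩ := hlift b2 b_ne.2.1
    obtain ⟨d, hd, hdS, hdκ⟩ := hlift (b1 + b2) b_ne.2.2.2.2
    obtain ⟨g, hgF, hg⟩ : ∃ g ∈ F, π (a * c * g) ∈ S := by
      have h1 : C.κ d = C.κ (a * c) := by rw [C.mul a ha c hc, haκ, hcκ, hdκ]
      rcases hsame d hd (a * c) (mul_mem ha hc) h1 with h2 | h2
      · exact ⟨1, F.one_mem, by rw [mul_one, h2]; exact hdS⟩
      · exact ⟨f, Or.inr rfl, by rw [map_mul, h2, mul_assoc, hf2, mul_one]; exact hdS⟩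
    have hgc : ∀ x, π x * π g = π g * π x := by
      rcases (hgF : π g = 1 ∨ π g = π f) with h1 | h1 <;> intro x <;> rw [h1]
      · rw [mul_one, one_mul]
      · exact hfc x
    have hg2 : π g * π g = 1 := hexp g (hFB hgF)
    -- the translate `S * g` is closed
    have hclosed : ∀ u ∈ B, ∀ v ∈ B, π u * π g ∈ S → π v * π g ∈ S → C.κ u ≠ C.κ v →
        C.κ u ≠ 0 → C.κ v ≠ 0 → π (u * v) * π g ∈ S := by
      intro u hu v hv huS hvS huv hu0 hv0
      have hκg : ∀ w ∈ B, C.κ (w * g) = C.κ w := fun w hw => C.κ_mul_right hw hgF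
      obtain ⟨x, hx, hx'⟩ := C.exists_conj_pair (a₁ := a) (a₂ := c) (c₁ := u * g) (c₂ := v * g) ha hc
        (haκ ▸ b_ne.1) (hcκ ▸ b_ne.2.1) (haκ ▸ hcκ ▸ b_ne.2.2.2.1) (by rw [hκg u hu]; exact hu0)
        (by rw [hκg v hv]; exact hv0) (by rw [hκg u hu, hκg v hv]; exact huv)
      have e1 := huniq _ (C.conj_mem x ha) _ (mul_mem hu (hFB hgF))
        (by rw [map_mul, map_mul, map_inv]; exact hSinv x _ haS) (by rw [map_mul]; exact huS) hx
      have e2 := huniq _ (C.conj_mem x hc) _ (mul_mem hv (hFB hgF))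
        (by rw [map_mul, map_mul, map_inv]; exact hSinv x _ hcS) (by rw [map_mul]; exact hvS) hx'
      have e3 := hSinv x _ hg
      rw [map_mul π (a * c) g, map_mul π a c,
        show π x * (π a * π c * π g) * (π x)⁻¹ =
          π x * π a * (π x)⁻¹ * (π x * π c * (π x)⁻¹) * (π x * π g * (π x)⁻¹) by group,
        hgc x, mul_inv_cancel_right] at e3
      rw [map_mul, map_mul, map_inv, map_mul π u g] at e1
      rw [map_mul, map_mul, map_inv, map_mul π v g] at e2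
      rw [e1, e2, show π u * π g * (π v * π g) * π g = π u * (π g * π v) * (π g * π g) by group,
        hg2, mul_one, ← hgc v, ← mul_assoc, ← map_mul π u v] at e3
      exact e3
    let H : Subgroup X :=
      { carrier := {z | z ∈ B ∧ (π z = 1 ∨ π z * π g ∈ S)}
        one_mem' := ⟨B.one_mem, Or.inl (map_one π)⟩
        mul_mem' := by
          rintro u v ⟨hu, hu'⟩ ⟨hv, hv'⟩
          refine ⟨mul_mem hu hv, ?_⟩
          rcases hu' with hu' | hu'
          · rw [map_mul, hu', one_mul]; exact hv'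
          rcases hv' with hv' | hv'
          · rw [map_mul, hv', mul_one]; exact Or.inr hu'
          by_cases huv : C.κ u = C.κ v
          · left
            have h1 := huniq (u * g) (mul_mem hu (hFB hgF)) (v * g) (mul_mem hv (hFB hgF))
              (by rw [map_mul]; exact hu') (by rw [map_mul]; exact hv')
              (by rw [C.κ_mul_right hu hgF, C.κ_mul_right hv hgF, huv])
            rw [map_mul, map_mul, mul_left_inj] at h1
            rw [map_mul, h1, hexp v hv]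
          · have hne0 : ∀ w ∈ B, π w * π g ∈ S → C.κ w ≠ 0 := by
              rintro w hw ⟨y, hy⟩
              rw [← C.κ_mul_right hw hgF, Ne, C.zero _ (mul_mem hw (hFB hgF))]
              intro hwF
              apply (hnot b₀ hb₀).mpr hb₀0
              have h2 : π (y⁻¹ * (w * g) * y⁻¹⁻¹) = π b₀ := by
                simp only [map_mul, map_inv]; rw [← hy]; group
              show π b₀ = 1 ∨ π b₀ = π f
              rw [← h2]
              exact hFN.conj_mem _ hwF y⁻¹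
            exact Or.inr (hclosed u hu v hv hu' hv' huv (hne0 u hu hu') (hne0 v hv hv'))
        inv_mem' := by
          rintro u ⟨hu, hu'⟩
          refine ⟨inv_mem hu, ?_⟩
          rw [map_inv, inv_eq_of_mul_eq_one_right (hexp u hu)]
          exact hu' }
    have hHB : H ≤ B := fun z hz => hz.1
    have hAH : A ≤ H := fun z hz => ⟨hle hz, Or.inl ((hπ1 z).mpr hz)⟩
    have hHN : H.Normal := by
      refine ⟨fun z hz x => ⟨hB.conj_mem z hz.1 x, ?_⟩⟩
      rcases hz.2 with h1 | h1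
      · exact Or.inl (by rw [map_mul, map_mul, h1, mul_one, map_inv, mul_inv_cancel])
      · refine Or.inr ?_
        have h2 := hSinv x _ h1
        rwa [show π x * (π z * π g) * (π x)⁻¹ = π x * π z * (π g * (π x)⁻¹) by group,
          show π g * (π x)⁻¹ = (π x)⁻¹ * π g by rw [← map_inv]; exact (hgc _).symm, ← mul_assoc,
          ← map_inv, ← map_mul, ← map_mul] at h2
    let C' : Chart Q A H :=
      { ρ := C.ρ
        κ := C.κ
        det := C.det
        surj := C.surj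
        ker := C.ker
        le := hAH
        normalA := inferInstance
        normalB := hHN
        mul := fun a ha b hb => C.mul a ha.1 b hb.1
        zero := by
          intro z hz
          rw [C.zero z hz.1]
          refine ⟨fun hzF => ?_, fun hzA => hAF hzA⟩
          rcases hz.2 with h1 | h1
          · exact (hπ1 z).mp h1
          exfalso
          obtain ⟨y, hy⟩ := h1
          apply (hnot b₀ hb₀).mpr hb₀0
          have h2 : π (y⁻¹ * (z * g) * y⁻¹⁻¹) = π b₀ := by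
            simp only [map_mul, map_inv]; rw [← hy]; group
          show π b₀ = 1 ∨ π b₀ = π f
          rw [← h2]
          exact hFN.conj_mem _ (F.mul_mem hzF hgF) y⁻¹
        onto := by
          intro v
          by_cases hv : v = 0
          · exact ⟨1, H.one_mem, hv ▸ C.κ_one⟩
          obtain ⟨b, hb, hbS, hbκ⟩ := hlift v hv
          refine ⟨b * g, ⟨mul_mem hb (hFB hgF), Or.inr ?_⟩, by rw [C.κ_mul_right hb hgF, hbκ]⟩
          rw [map_mul, mul_assoc, hg2, mul_one]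
          exact hbS
        equiv := fun x b hb => C.equiv x b hb.1 }
    exact ⟨H, hHN, hAH, hHB, C'.relIndex_card, ⟨C'⟩⟩
  push_neg at hfix
  left
  haveI : Fintype (X ⧸ A) := Fintype.ofFinite _
  set N : Set (X ⧸ A) := (B.map π : Set (X ⧸ A)) \ {1} with hN
  have hcN : N.ncard = 15 := by
    rw [hN, Set.ncard_diff_singleton_of_mem (one_mem _), ← Nat.card_coe_set_eq]
    simp only [SetLike.coe_sort_coe]
    have h1 : Nat.card B = Nat.card (B.map π) * Nat.card A := Hyp.card_map A hle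
    rw [hcB] at h1
    rw [← Nat.eq_of_mul_eq_mul_right Nat.card_pos h1]
  let cl : X ⧸ A → Set (X ⧸ A) := fun z => {w | ∃ x, π x * z * (π x)⁻¹ = w}
  have hclN : ∀ z ∈ N, cl z ⊆ N := by
    rintro z ⟨hz, hz1⟩ w ⟨x, rfl⟩
    exact ⟨Subgroup.Normal.conj_mem inferInstance z hz _, fun h1 => hz1 (conj_eq_one_iff.mp h1)⟩
  have hcl7 : ∀ z ∈ N, 7 ≤ (cl z).ncard ∧ (cl z).ncard ∣ 168 := by
    rintro z ⟨⟨b, hb, rfl⟩, hb1⟩
    rcases h.class_cases π (π b) (fun q hq => (hcomm q b).mp (hQ q hq b hb)) with h1 | h1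
    · obtain ⟨x, hx⟩ := hfix b hb fun hbA => hb1 ((hπ1 b).mpr hbA)
      exact absurd ((hcomm x b).mpr (h1 x)) hx
    · exact h1
  have hclsym : ∀ z w, w ∈ cl z → cl w = cl z := by
    rintro z w ⟨x, rfl⟩
    ext u
    constructor
    · rintro ⟨y, rfl⟩; exact ⟨y * x, by rw [map_mul]; group⟩
    · rintro ⟨y, rfl⟩; exact ⟨y * x⁻¹, by rw [map_mul, map_inv]; group⟩
  obtain ⟨S, T, hS, hT, hST, hSc, hTc, hcover⟩ : ∃ S T : Set (X ⧸ A), S.ncard = 7 ∧ T.ncard = 8 ∧
      Disjoint S T ∧ (∀ z ∈ S, cl z = S) ∧ (∀ z ∈ T, cl z = T) ∧ S ∪ T = N := by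
    obtain ⟨z, hz⟩ : N.Nonempty := Set.nonempty_of_ncard_ne_zero (by omega)
    have hzle : (cl z).ncard ≤ 15 := hcN ▸ Set.ncard_le_ncard (hclN z hz)
    have hz15 : (cl z).ncard ≠ 15 := fun h1 => by
      have := (hcl7 z hz).2; rw [h1] at this; norm_num at this
    have hdiff : (N \ cl z).ncard = 15 - (cl z).ncard := by rw [Set.ncard_diff (hclN z hz), hcN]
    obtain ⟨w, hw⟩ : (N \ cl z).Nonempty := Set.nonempty_of_ncard_ne_zero (by omega)
    have hdis : Disjoint (cl z) (cl w) := by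
      rw [Set.disjoint_left]
      intro u huz huw
      apply hw.2
      rw [← hclsym z u huz, hclsym w u huw]
      exact ⟨1, by simp⟩
    have hwsub : cl w ⊆ N \ cl z := fun u hu =>
      ⟨hclN w hw.1 hu, fun hu' => Set.disjoint_left.mp hdis hu' hu⟩
    have hwle : (cl w).ncard ≤ 15 - (cl z).ncard := hdiff ▸ Set.ncard_le_ncard hwsub
    have hcov : cl z ∪ cl w = N := by
      refine Set.eq_of_subset_of_ncard_le (Set.union_subset (hclN z hz) (hclN w hw.1)) ?_
      by_contra hlt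
      push_neg at hlt
      obtain ⟨u, hu⟩ : (N \ (cl z ∪ cl w)).Nonempty := Set.nonempty_of_ncard_ne_zero (by
        rw [Set.ncard_diff (Set.union_subset (hclN z hz) (hclN w hw.1)), hcN]; omega)
      have hsub : cl u ⊆ N \ (cl z ∪ cl w) := fun v hv => by
        refine ⟨hclN u hu.1 hv, fun hv' => hu.2 ?_⟩
        have h1 : u ∈ cl v := by rw [hclsym u v hv]; exact ⟨1, by simp⟩
        rcases hv' with h2 | h2
        · exact Or.inl (hclsym z v h2 ▸ h1)
        · exact Or.inr (hclsym w v h2 ▸ h1)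
      have h1 := Set.ncard_le_ncard hsub
      rw [Set.ncard_diff (Set.union_subset (hclN z hz) (hclN w hw.1)), hcN,
        Set.ncard_union_eq hdis] at h1
      rw [Set.ncard_union_eq hdis, hcN] at hlt
      have := (hcl7 u hu.1).1
      have := (hcl7 z hz).1
      have := (hcl7 w hw.1).1
      omega
    have hsum : (cl z).ncard + (cl w).ncard = 15 := by
      rw [← Set.ncard_union_eq hdis, hcov, hcN]
    have := (hcl7 z hz).1
    have := (hcl7 w hw.1).1
    rcases (by omega : (cl z).ncard = 7 ∧ (cl w).ncard = 8 ∨ (cl z).ncard = 8 ∧ (cl w).ncard = 7)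
      with ⟨h1, h2⟩ | ⟨h1, h2⟩
    · exact ⟨cl z, cl w, h1, h2, hdis, fun u hu => hclsym z u hu, fun u hu => hclsym w u hu, hcov⟩
    · exact ⟨cl w, cl z, h2, h1, hdis.symm, fun u hu => hclsym w u hu, fun u hu => hclsym z u hu,
        by rw [Set.union_comm]; exact hcov⟩
  have hsub : S ⊆ N := hcover ▸ Set.subset_union_left
  have hST' : ∀ a ∈ S, ∀ b ∈ S, a * b ∉ T := by
    have hc : ∀ (U : Set (X ⧸ A)), (∀ z ∈ U, cl z = U) → ∀ x : X, ∀ z ∈ U,
        MulAut.conj (π x) z ∈ U := fun U hU x z hz => by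
      rw [MulAut.conj_apply, ← hU z hz]; exact ⟨x, rfl⟩
    intro a ha b hb
    have := seven_closed S.toFinset T.toFinset (by rw [← Set.ncard_eq_toFinset_card']; exact hS)
      (by rw [← Set.ncard_eq_toFinset_card']; exact hT)
      (fun u hu v hv => by
        rw [Set.mem_toFinset] at hu hv
        rw [← hSc u hu] at hv
        obtain ⟨x, hx⟩ := hv
        exact ⟨MulAut.conj (π x), hx, fun z hz => Set.mem_toFinset.mpr
          (hc S hSc x z (Set.mem_toFinset.mp hz)), fun z hz => Set.mem_toFinset.mpr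
          (hc T hTc x z (Set.mem_toFinset.mp hz))⟩)
      (fun u hu v hv => by
        rw [Set.mem_toFinset] at hu hv
        rw [← hTc u hu] at hv
        obtain ⟨x, hx⟩ := hv
        exact ⟨MulAut.conj (π x), hx, fun z hz => Set.mem_toFinset.mpr
          (hc S hSc x z (Set.mem_toFinset.mp hz))⟩)
      a (Set.mem_toFinset.mpr ha) b (Set.mem_toFinset.mpr hb)
    simpa using this
  let K : Subgroup (X ⧸ A) :=
    { carrier := {1} ∪ S
      one_mem' := Or.inl rfl
      mul_mem' := by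
        rintro u v (rfl | hu) (rfl | hv)
        · exact Or.inl (mul_one 1)
        · exact Or.inr (by rwa [one_mul])
        · exact Or.inr (by rwa [mul_one])
        by_cases h1 : u * v = 1
        · exact Or.inl h1
        have h2 : u * v ∈ N := ⟨mul_mem (hsub hu).1 (hsub hv).1, h1⟩
        rw [← hcover] at h2
        exact Or.inr (h2.resolve_right (hST' u hu v hv))
      inv_mem' := by
        rintro u (rfl | hu)
        · exact Or.inl inv_one
        · obtain ⟨⟨w, hw, rfl⟩, -⟩ := hsub hu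
          rw [inv_eq_of_mul_eq_one_right (hexp w hw)]
          exact Or.inr hu }
  have hKN : ∀ (x : X) (u : X ⧸ A), u ∈ K → π x * u * (π x)⁻¹ ∈ K := by
    rintro x u (rfl | hu)
    · exact Or.inl (by simp)
    · exact Or.inr (by rw [← hSc u hu]; exact ⟨x, rfl⟩)
  set H := K.comap π with hH
  have hHN : H.Normal := ⟨fun z hz x => by
    rw [hH, Subgroup.mem_comap, map_mul, map_mul, map_inv]; exact hKN x _ hz⟩
  have hAH : A ≤ H := fun z hz => by
    rw [hH, Subgroup.mem_comap, (hπ1 z).mpr hz]; exact K.one_mem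
  have hHB : H ≤ B := by
    intro z hz
    rcases hz with hz | hz
    · exact hle ((hπ1 z).mp hz)
    · obtain ⟨⟨w, hw, hwz⟩, -⟩ := hsub hz
      have h1 := (hcm w z).mp hwz
      rw [show z = (w * z⁻¹)⁻¹ * w by group]
      exact mul_mem (inv_mem (hle h1)) hw
  have hcH : Nat.card H = 8 * Nat.card A := by
    rw [Hyp.card_map A hAH, hH, Subgroup.map_comap_eq_self_of_surjective hπs]
    congr 1
    have h1 : Nat.card K = ({1} ∪ S : Set (X ⧸ A)).ncard := Nat.card_coe_set_eq _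
    rw [h1, Set.ncard_union_eq (Set.disjoint_singleton_left.mpr fun h1 => (hsub h1).2 rfl),
      Set.ncard_singleton, hS]
  obtain ⟨u, hu⟩ : S.Nonempty := Set.nonempty_of_ncard_ne_zero (by omega)
  obtain ⟨⟨w, hw, rfl⟩, hw1⟩ := hsub hu
  obtain ⟨x, hx⟩ := hfix w hw fun hwA => hw1 ((hπ1 w).mpr hwA)
  exact ⟨H, hHN, hAH, hHB, hcH, exists_chart h inferInstance hHN hAH hcH
    (fun b hb => hsq b (hHB hb)) (fun q hq b hb => hQ q hq b (hHB hb))
    ⟨x, w, Or.inr hu, hx⟩⟩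

end Cfsg.Agent.Lib.L32Core58
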