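import Cfsg.Agent.Lib.L32Core58.Half

/-!
General tools: coprime action along series, quotients by centralised subgroups, elementary
sections from generators, and fixed cosets outside an invariant subgroup of index two.
-/

set_option autoImplicit false

namespace Cfsg.Agent.Lib.L32Core58

open Matrix
open scoped Pointwise

variable {X : Type*} [Group X]

/-- An element of order dividing seven which centralises a `2`-section `F/A` and moves `u` into it
fixes `u` modulo `A`. -/
theorem seven_lift {Q A F : Subgroup X} (hQ : IsPGroup 2 Q) [A.Normal] (hFQ : F ≤ Q) {x u : X}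
    (hx : x ^ 7 = 1) (hF : ∀ g ∈ F, x * g * x⁻¹ * g⁻¹ ∈ A) (hu : x * u * x⁻¹ * u⁻¹ ∈ F) :
    x * u * x⁻¹ * u⁻¹ ∈ A := by
  set g := x * u * x⁻¹ * u⁻¹ with hg
  set π := QuotientGroup.mk' A with hπ
  have h1 : ∀ y, π y = 1 ↔ y ∈ A := fun y => QuotientGroup.eq_one_iff y
  have hgx : π x * π g = π g * π x := by
    have h2 := (h1 _).mpr (hF g hu)
    rw [map_mul, map_mul, map_mul, map_inv, map_inv, mul_inv_eq_one, mul_inv_eq_iff_eq_mul] at h2
    exact h2
  have hux : π x * π u * (π x)⁻¹ = π g * π u := by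
    rw [hg, map_mul, map_mul, map_mul, map_inv, map_inv, inv_mul_cancel_right]
  have hit : ∀ n : ℕ, π x ^ n * π u * (π x ^ n)⁻¹ = π g ^ n * π u := by
    intro n
    induction n with
    | zero => simp
    | succ n ih =>
      rw [pow_succ' (π x), _root_.mul_inv_rev,
        show π x * π x ^ n * π u * ((π x ^ n)⁻¹ * (π x)⁻¹) =
          π x * (π x ^ n * π u * (π x ^ n)⁻¹) * (π x)⁻¹ by group, ih,
        show π x * (π g ^ n * π u) * (π x)⁻¹ = π x * π g ^ n * π u * (π x)⁻¹ by group,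
        ((show Commute (π x) (π g) from hgx).pow_right n).eq,
        show π g ^ n * π x * π u * (π x)⁻¹ = π g ^ n * (π x * π u * (π x)⁻¹) by group, hux,
        ← mul_assoc, ← pow_succ]
  have h7 := hit 7
  rw [← map_pow, hx, map_one, one_mul, inv_one, mul_one, eq_comm, mul_eq_right, ← map_pow, h1] at h7
  obtain ⟨k, hk⟩ := hQ ⟨g, hFQ hu⟩
  have hk' : g ^ 2 ^ k = 1 := congrArg Subtype.val hk
  obtain ⟨m, hm⟩ := exists_pow_eq_self_of_coprime (x := g) (n := 7)
    (Nat.Coprime.coprime_dvd_right (orderOf_dvd_of_pow_eq_one hk')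
      (Nat.Coprime.pow_right k (by norm_num)))
  rw [← hm]
  exact pow_mem h7 m

namespace Hyp

variable [Finite X] {Q : Subgroup X}

/-- The hypotheses pass to a quotient by a subgroup centralised by `X`. -/
theorem quotient_central (h : Hyp Q) (R : Subgroup X) [R.Normal] (hR : R ≤ Q)
    (hfix : ∀ x : X, ∀ r ∈ R, x * r * x⁻¹ = r) : Hyp (Q.map (QuotientGroup.mk' R)) := by
  haveI := h.normal
  set π := QuotientGroup.mk' R with hπ
  have hs : Function.Surjective π := QuotientGroup.mk'_surjective R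
  have hker : π.ker = R := QuotientGroup.ker_mk' R
  have hπ1 : ∀ y, π y = 1 ↔ y ∈ R := fun y => QuotientGroup.eq_one_iff y
  have hcm : (Q.map π).comap π = Q := by
    rw [Subgroup.comap_map_eq, hker, sup_eq_left.mpr hR]
  refine ⟨h.normal.map π hs, h.pgrp.map π, ?_, ?_, ?_, ?_⟩
  · intro y hy
    obtain ⟨x, rfl⟩ := hs y
    haveI : (Q.map π).Normal := h.normal.map π hs
    set C := (Subgroup.centralizer ((Q.map π : Subgroup (X ⧸ R)) : Set (X ⧸ R))).comap π with hC
    have hxC : x ∈ C ⊔ Q := Subgroup.mem_sup_left hy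
    rcases h.simple (C ⊔ Q) inferInstance le_sup_right with hc | hc
    · exact Subgroup.mem_map_of_mem π (hc ▸ hxC)
    · exfalso
      obtain ⟨w, hwQ, hw⟩ := h.exists_seven
      have hwmem : w ∈ C ⊔ Q := hc ▸ Subgroup.mem_top w
      rw [← SetLike.mem_coe, Subgroup.mul_normal] at hwmem
      obtain ⟨c, hcC, q, hq, hwcq⟩ := hwmem
      have hwcq' : c * q = w := hwcq
      have hagree : ∀ v ∈ Q.map π, π w * v * (π w)⁻¹ = π q * v * (π q)⁻¹ := by
        intro v hv
        have hc1 := Subgroup.mem_centralizer_iff.mp (Subgroup.mem_comap.mp hcC) _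
          (Subgroup.Normal.conj_mem inferInstance v hv (π q))
        rw [← hwcq', map_mul, show π c * π q * v * (π c * π q)⁻¹ =
          π c * (π q * v * (π q)⁻¹) * (π c)⁻¹ by group, ← hc1, mul_inv_cancel_right]
      have hcentral := centralises_of_agree (h.pgrp.map π) (x := π w) (by rw [← map_pow, hw, map_one])
        (Subgroup.mem_map_of_mem π hq)
        (fun v hv => Subgroup.Normal.conj_mem inferInstance v hv (π w)) hagree
      refine h.seven_not_series hwQ hw hR (hfix w) fun u hu => ?_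
      rw [← hπ1, map_mul, map_mul, map_mul, map_inv, map_inv,
        hcentral _ (Subgroup.mem_map_of_mem π hu), inv_mul_cancel]
  · rw [← Subgroup.index_comap_of_surjective _ hs, hcm]; exact h.index
  · intro N hN hQN
    haveI := hN
    have h1 : Q ≤ N.comap π := by
      rw [← hcm]; exact Subgroup.comap_mono hQN
    rcases h.simple _ (hN.comap π) h1 with hc | hc
    · left; rw [← Subgroup.map_comap_eq_self_of_surjective hs N, hc]
    · right; rw [← Subgroup.map_comap_eq_self_of_surjective hs N, hc,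
        Subgroup.map_top_of_surjective π hs]
  · intro P D hDP hn hsq
    have hk : ∀ S : Subgroup (X ⧸ R), Nat.card ↥(S.comap π) = Nat.card R * Nat.card ↥S := by
      intro S
      have h1 := Subgroup.index_comap_of_surjective S hs
      have h2 := (S.comap π).card_mul_index
      have h3 := S.card_mul_index
      have h4 : Nat.card X = Nat.card R * Nat.card (X ⧸ R) := by
        rw [Subgroup.card_eq_card_quotient_mul_card_subgroup R, mul_comm]
      rw [h1, h4, ← h3, ← mul_assoc] at h2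
      exact Nat.eq_of_mul_eq_mul_right (Nat.pos_of_ne_zero S.index_ne_zero_of_finite) h2
    have := h.rank (P.comap π) (D.comap π) (Subgroup.comap_mono hDP)
      (fun x hx y hy => by
        simp only [Subgroup.mem_comap, map_mul, map_inv]; exact hn _ hx _ hy)
      (fun x hx => by simp only [Subgroup.mem_comap, map_mul]; exact hsq _ hx)
    rw [hk, hk, ← mul_assoc, mul_comm 16, mul_assoc] at this
    exact Nat.le_of_mul_le_mul_left this Nat.card_pos

/-- The cardinality of the image of `Q` in a quotient. -/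
theorem card_map (R : Subgroup X) [R.Normal] (hR : R ≤ Q) :
    Nat.card Q = Nat.card (Q.map (QuotientGroup.mk' R)) * Nat.card R := by
  have h1 := Subgroup.card_eq_card_quotient_mul_card_subgroup (R.subgroupOf Q)
  rw [Nat.card_congr (Subgroup.subgroupOfEquivOfLe hR).toEquiv] at h1
  rw [h1]
  congr 1
  have h2 : ((QuotientGroup.mk' R).subgroupMap Q).ker = R.subgroupOf Q := by
    ext q
    rw [MonoidHom.mem_ker, Subgroup.mem_subgroupOf, ← QuotientGroup.eq_one_iff]
    exact ⟨fun h => congrArg Subtype.val h, fun h => Subtype.ext h⟩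
  rw [← h2]
  exact Nat.card_congr (QuotientGroup.quotientKerEquivOfSurjective _
    ((QuotientGroup.mk' R).subgroupMap_surjective Q)).toEquiv

theorem card_quotient_lt (R : Subgroup X) [R.Normal] (hR : R ≠ ⊥) :
    Nat.card (X ⧸ R) < Nat.card X := by
  rw [Subgroup.card_eq_card_quotient_mul_card_subgroup R]
  have h1 : 1 < Nat.card R := R.one_lt_card_iff_ne_bot.mpr hR
  exact lt_mul_of_one_lt_right Nat.card_pos h1

end Hyp

/-- A subgroup centralised by `X` in a large radical gives a contradiction by induction. -/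
theorem central_bound.{u} {X : Type u} [Group X] [Finite X] {Q : Subgroup X} (h : Hyp Q)
    (IH : Below.{u} (Nat.card X)) {k : X} (hk : k ∈ Q) (hk1 : k ≠ 1)
    (hfix : ∀ x, x * k * x⁻¹ = k) : Nat.card Q ≤ 32 * Nat.card (Subgroup.zpowers k) := by
  set R := Subgroup.zpowers k with hR
  have hfix' : ∀ x : X, ∀ r ∈ R, x * r * x⁻¹ = r := by
    intro x r hr
    obtain ⟨n, rfl⟩ := Subgroup.mem_zpowers_iff.mp hr
    rw [← conj_zpow, hfix]
  haveI : R.Normal := ⟨fun r hr x => by rw [hfix' x r hr]; exact hr⟩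
  have hRQ : R ≤ Q := Subgroup.zpowers_le.mpr hk
  have := (IH (X ⧸ R) _ (Hyp.card_quotient_lt R (by simpa [hR] using hk1))
    (h.quotient_central R hRQ hfix')).card_le
  rw [Hyp.card_map R hRQ]
  exact Nat.mul_le_mul_right _ this

/-- Squares in the group generated by commuting elements of exponent two modulo `K`. -/
theorem sq_mem_of_gens {G : Set X} {K : Subgroup X} (hn : ∀ g ∈ G, g ∈ Subgroup.normalizer (K : Set X))
    (hsq : ∀ g ∈ G, g * g ∈ K) (hcomm : ∀ g ∈ G, ∀ g' ∈ G, g * g' * g⁻¹ * g'⁻¹ ∈ K) :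
    ∀ x ∈ Subgroup.closure G, x ∈ Subgroup.normalizer (K : Set X) ∧ x * x ∈ K := by
  set M := Subgroup.normalizer (K : Set X) with hM
  have hPM : Subgroup.closure G ≤ M := (Subgroup.closure_le M).mpr hn
  have hKM : K ≤ M := Subgroup.le_normalizer
  haveI : (K.subgroupOf M).Normal := Subgroup.normal_in_normalizer
  let f : ↥M →* ↥M ⧸ K.subgroupOf M := QuotientGroup.mk' _
  have hf : ∀ m : M, f m = 1 ↔ (m : X) ∈ K := fun m => by
    rw [QuotientGroup.mk'_apply, QuotientGroup.eq_one_iff, Subgroup.mem_subgroupOf]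
  have hcentral : ∀ g : M, (g : X) ∈ G → ∀ x (hx : x ∈ Subgroup.closure G),
      Commute (f g) (f ⟨x, hPM hx⟩) := by
    intro g hg x hx
    induction hx using Subgroup.closure_induction with
    | mem x hx =>
      have h1 := (hf (g * ⟨x, hn x hx⟩ * g⁻¹ * ⟨x, hn x hx⟩⁻¹)).mpr (hcomm _ hg x hx)
      rw [map_mul, map_mul, map_mul, map_inv, map_inv, mul_inv_eq_one, mul_inv_eq_iff_eq_mul] at h1
      exact h1
    | one => exact (map_one f).symm ▸ Commute.one_right _
    | mul a b ha hb iha ihb =>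
      rw [show (⟨a * b, hPM (mul_mem ha hb)⟩ : M) = ⟨a, hPM ha⟩ * ⟨b, hPM hb⟩ from rfl, map_mul]
      exact iha.mul_right ihb
    | inv a ha iha =>
      rw [show (⟨a⁻¹, hPM (inv_mem ha)⟩ : M) = ⟨a, hPM ha⟩⁻¹ from rfl, map_inv]
      exact iha.inv_right
  intro x hx
  refine ⟨hPM hx, ?_⟩
  have key : f ⟨x, hPM hx⟩ * f ⟨x, hPM hx⟩ = 1 := by
    induction hx using Subgroup.closure_induction with
    | mem x hx =>
      rw [← map_mul, hf]
      exact hsq x hx
    | one => exact (map_one f).symm ▸ mul_one _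
    | mul a b ha hb iha ihb =>
      have hab : Commute (f ⟨a, hPM ha⟩) (f ⟨b, hPM hb⟩) := by
        clear iha ihb
        induction ha using Subgroup.closure_induction with
        | mem a ha' => exact hcentral ⟨a, hn a ha'⟩ ha' b hb
        | one => exact (map_one f).symm ▸ Commute.one_left _
        | mul c d hc hd ihc ihd =>
          rw [show (⟨c * d, hPM (mul_mem hc hd)⟩ : M) = ⟨c, hPM hc⟩ * ⟨d, hPM hd⟩ from rfl, map_mul]
          exact ihc.mul_left ihd
        | inv c hc ihc =>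
          rw [show (⟨c⁻¹, hPM (inv_mem hc)⟩ : M) = ⟨c, hPM hc⟩⁻¹ from rfl, map_inv]
          exact ihc.inv_left
      rw [show (⟨a * b, hPM (mul_mem ha hb)⟩ : M) = ⟨a, hPM ha⟩ * ⟨b, hPM hb⟩ from rfl, map_mul,
        hab.symm.mul_mul_mul_comm, iha, ihb, one_mul]
    | inv a ha iha =>
      rw [show (⟨a⁻¹, hPM (inv_mem ha)⟩ : M) = ⟨a, hPM ha⟩⁻¹ from rfl, map_inv,
        ← _root_.mul_inv_rev, iha, inv_one]
  rw [← map_mul, hf] at key
  exact key

variable [Finite X]

/-- A four-group of the top over a subgroup of `Q` with all squares and commutators in `K` contradicts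
the rank bound. -/
theorem four_contra {Q A B : Subgroup X} (h : Hyp Q) (C : Chart Q A B) {S K : Subgroup X} {e f : X}
    (hSQ : S ≤ Q) (hKS : K ≤ S) (he : C.ρ e = mE) (hf : C.ρ f = mF)
    (hn : ∀ g ∈ (S : Set X) ∪ {e, f}, ∀ k ∈ K, g * k * g⁻¹ ∈ K)
    (hS : ∀ s ∈ S, s * s ∈ K) (he2 : e * e ∈ K) (hf2 : f * f ∈ K)
    (hef : e * f * e⁻¹ * f⁻¹ ∈ K) (hse : ∀ s ∈ S, e * s * e⁻¹ * s⁻¹ ∈ K)
    (hsf : ∀ s ∈ S, f * s * f⁻¹ * s⁻¹ ∈ K) : 4 * Nat.card S ≤ 16 * Nat.card K := by
  classical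
  set G : Set X := (S : Set X) ∪ {e, f} with hG
  have hnorm : ∀ g ∈ G, g ∈ Subgroup.normalizer (K : Set X) := by
    intro g hg
    rw [Subgroup.mem_normalizer_iff]
    intro k
    refine ⟨fun hk => hn g hg k hk, fun hk => ?_⟩
    have hg2 : g * g ∈ K := by
      rcases hg with hg | rfl | rfl
      exacts [hS g hg, he2, hf2]
    have h1 := mul_mem (mul_mem (inv_mem hg2) (hn g hg _ hk)) hg2
    rwa [show (g * g)⁻¹ * (g * (g * k * g⁻¹) * g⁻¹) * (g * g) = k by group] at h1
  have hinv : ∀ {a b : X}, a * b * a⁻¹ * b⁻¹ ∈ K → b * a * b⁻¹ * a⁻¹ ∈ K := fun {a b} hh => by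
    have h1 := inv_mem hh
    rwa [show (a * b * a⁻¹ * b⁻¹)⁻¹ = b * a * b⁻¹ * a⁻¹ by group] at h1
  have hall := sq_mem_of_gens (G := G) (K := K) hnorm
    (by rintro g (hg | rfl | rfl); exacts [hS g hg, he2, hf2])
    (by
      rintro g (hg | rfl | rfl) g' (hg' | rfl | rfl)
      · exact comm_mem_of_sq_mem hS (fun s hs => hn s (Or.inl hs)) hg hg'
      · exact hinv (hse g hg)
      · exact hinv (hsf g hg)
      · exact hse g' hg'
      · rw [mul_inv_cancel_right, mul_inv_cancel]; exact one_mem K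
      · exact hef
      · exact hsf g' hg'
      · exact hinv hef
      · rw [mul_inv_cancel_right, mul_inv_cancel]; exact one_mem K)
  set P := Subgroup.closure G with hP
  have hGP : G ⊆ P := Subgroup.subset_closure
  have hrank := h.rank P K (fun k hk => hGP (Or.inl (hKS hk)))
    (fun x hx y hy => (Subgroup.mem_normalizer_iff.mp (hall x hx).1 y).mp hy) fun x hx => (hall x hx).2
  let g : S × (Fin 2 × Fin 2) → P := fun p => ⟨p.1 * (e ^ p.2.1.val * f ^ p.2.2.val),
    mul_mem (hGP (Or.inl p.1.2)) (mul_mem (pow_mem (hGP (Or.inr (by simp))) _)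
      (pow_mem (hGP (Or.inr (by simp))) _))⟩
  have hg : Function.Injective g := by
    rintro ⟨s, i, j⟩ ⟨s', i', j'⟩ hh
    have hh' : (s : X) * (e ^ i.val * f ^ j.val) = (s' : X) * (e ^ i'.val * f ^ j'.val) :=
      congrArg Subtype.val hh
    have h2 := congrArg C.ρ hh'
    simp only [map_mul, map_pow, (C.ker _).mpr (hSQ s.2), (C.ker _).mpr (hSQ s'.2), one_mul, he,
      hf] at h2
    have hij : (i, j) = (i', j') := by
      revert h2
      clear * -
      revert i j i' j'
      decide +kernel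
    obtain ⟨rfl, rfl⟩ := Prod.mk.injEq .. ▸ hij
    exact Prod.ext (Subtype.ext (mul_right_cancel hh')) rfl
  have hle := Nat.card_le_card_of_injective g hg
  simp only [Nat.card_prod, Nat.card_fin] at hle
  omega

/-- The preimage of the line through `b1`. -/
def lineOver {Q A B : Subgroup X} (C : Chart Q A B) : Subgroup X where
  carrier := {b | b ∈ B ∧ (C.κ b = 0 ∨ C.κ b = b1)}
  one_mem' := ⟨B.one_mem, Or.inl C.κ_one⟩
  mul_mem' := by
    rintro a b ⟨ha, ha'⟩ ⟨hb, hb'⟩
    refine ⟨mul_mem ha hb, ?_⟩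
    rw [C.mul a ha b hb]
    rcases ha' with h | h <;> rcases hb' with h' | h' <;> simp [h, h', add_self3]
  inv_mem' := by
    rintro a ⟨ha, ha'⟩
    exact ⟨inv_mem ha, by rw [C.κ_inv ha]; exact ha'⟩

theorem mem_lineOver {Q A B : Subgroup X} {C : Chart Q A B} {b : X} :
    b ∈ lineOver C ↔ b ∈ B ∧ (C.κ b = 0 ∨ C.κ b = b1) := Iff.rfl

theorem card_lineOver {Q A B : Subgroup X} (C : Chart Q A B) :
    Nat.card (lineOver C) = 2 * Nat.card A := by
  classical
  obtain ⟨b, hb, hbκ⟩ := C.onto b1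
  let f : Fin 2 × A → lineOver C := fun p => ⟨b ^ p.1.val * p.2, mul_mem
    (pow_mem (mem_lineOver.mpr ⟨hb, Or.inr hbκ⟩) _)
    (mem_lineOver.mpr ⟨C.le p.2.2, Or.inl ((C.zero _ (C.le p.2.2)).mpr p.2.2)⟩)⟩
  have hf : Function.Bijective f := by
    constructor
    · rintro ⟨i, a⟩ ⟨j, a'⟩ hh
      have hh' : b ^ i.val * a = b ^ j.val * a' := congrArg Subtype.val hh
      have h1 := congrArg C.κ hh'
      rw [C.κ_mul_right (pow_mem hb _) a.2, C.κ_mul_right (pow_mem hb _) a'.2] at h1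
      have hij : i = j := by
        fin_cases i <;> fin_cases j <;> simp [C.κ_one, hbκ, b_ne.1, b_ne.1.symm] at h1 ⊢
      subst hij
      exact Prod.ext rfl (Subtype.ext (mul_left_cancel hh'))
    · rintro ⟨x, hx, hx'⟩
      rcases hx' with hx' | hx'
      · exact ⟨⟨0, x, (C.zero x hx).mp hx'⟩, Subtype.ext (by simp [f])⟩
      · exact ⟨⟨1, b⁻¹ * x, C.mem_of_eq hb hx (hbκ.trans hx'.symm)⟩, Subtype.ext (by simp [f])⟩
  rw [← Nat.card_congr (Equiv.ofBijective f hf), Nat.card_prod, Nat.card_fin]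

/-- If an element squaring into `Q` from outside fixes a coset of `A` in `B` outside the invariant
half `H`, then `X` fixes such a coset. -/
theorem fixed_outside {Q A H B : Subgroup X} (h : Hyp Q) [A.Normal] (hH : H.Normal) (hB : B.Normal)
    (hAH : A ≤ H) (hHB : H ≤ B) (hcH : Nat.card H = 8 * Nat.card A)
    (hcB : Nat.card B = 16 * Nat.card A) (hQ : ∀ q ∈ Q, ∀ b ∈ B, q * b * q⁻¹ * b⁻¹ ∈ A) {e y : X}
    (he : e ∉ Q) (he2 : e * e ∈ Q) (hy : y ∈ B) (hyH : y ∉ H)
    (hey : e * y * e⁻¹ * y⁻¹ ∈ A) :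
    ∃ c ∈ B, c ∉ H ∧ ∀ x : X, x * c * x⁻¹ * c⁻¹ ∈ A := by
  classical
  set π := QuotientGroup.mk' A with hπ
  have hπs : Function.Surjective π := QuotientGroup.mk'_surjective A
  have hc1 : ∀ a b : X, π a = π b ↔ a * b⁻¹ ∈ A := by
    intro a b
    rw [← mul_inv_eq_one, ← map_inv, ← map_mul]
    exact QuotientGroup.eq_one_iff _
  have hcomm : ∀ a b : X, a * b * a⁻¹ * b⁻¹ ∈ A ↔ π a * π b * (π a)⁻¹ = π b := by
    intro a b
    rw [← hc1, map_mul, map_mul, map_inv]
  have hmapcard : ∀ S : Subgroup X, A ≤ S → Nat.card S = Nat.card (S.map π) * Nat.card A :=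
    fun S hS => Hyp.card_map A hS
  have hcH' : Nat.card (H.map π) = 8 := by
    have := hmapcard H hAH
    rw [hcH] at this
    exact (Nat.eq_of_mul_eq_mul_right Nat.card_pos this).symm
  have hcB' : Nat.card (B.map π) = 16 := by
    have := hmapcard B (hAH.trans hHB)
    rw [hcB] at this
    exact (Nat.eq_of_mul_eq_mul_right Nat.card_pos this).symm
  set O : Set (X ⧸ A) := (B.map π : Set (X ⧸ A)) \ (H.map π) with hO
  have hOc : O.ncard = 8 := by
    rw [hO, Set.ncard_diff (Subgroup.map_mono hHB), ← Nat.card_coe_set_eq, ← Nat.card_coe_set_eq]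
    simp only [SetLike.coe_sort_coe]
    rw [hcH', hcB']
  haveI : (H.map π).Normal := hH.map π hπs
  haveI : (B.map π).Normal := hB.map π hπs
  have hOinv : ∀ (x : X) (z : X ⧸ A), z ∈ O → π x * z * (π x)⁻¹ ∈ O := by
    intro x z hz
    refine ⟨Subgroup.Normal.conj_mem inferInstance z hz.1 _, fun hz' => hz.2 ?_⟩
    have h1 : (π x)⁻¹ * (π x * z * (π x)⁻¹) * (π x)⁻¹⁻¹ ∈ H.map π :=
      Subgroup.Normal.conj_mem inferInstance _ hz' _
    rwa [show (π x)⁻¹ * (π x * z * (π x)⁻¹) * (π x)⁻¹⁻¹ = z by group] at h1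
  have hyO : π y ∈ O := by
    refine ⟨Subgroup.mem_map_of_mem π hy, fun hy' => hyH ?_⟩
    obtain ⟨w, hw, hwy⟩ := hy'
    have h1 := (hc1 w y).mp hwy
    rw [show y = (w * y⁻¹)⁻¹ * w by group]
    exact mul_mem (inv_mem (hAH h1)) hw
  have hclass : ∀ z ∈ O, {w : X ⧸ A | ∃ x, π x * z * (π x)⁻¹ = w} ⊆ O := by
    rintro z hz w ⟨x, rfl⟩
    exact hOinv x z hz
  have hQfix : ∀ z ∈ O, ∀ q ∈ Q, π q * z * (π q)⁻¹ = z := by
    rintro z ⟨⟨b, hb, rfl⟩, -⟩ q hq
    exact (hcomm q b).mp (hQ q hq b hb)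
  have hfound : (∃ z ∈ O, ∀ x, π x * z * (π x)⁻¹ = z) → ∃ c ∈ B, c ∉ H ∧
      ∀ x : X, x * c * x⁻¹ * c⁻¹ ∈ A := by
    rintro ⟨z, ⟨⟨c, hc, rfl⟩, hcH⟩, hz⟩
    exact ⟨c, hc, fun hc' => hcH (Subgroup.mem_map_of_mem π hc'), fun x => (hcomm x c).mpr (hz x)⟩
  apply hfound
  rcases h.class_cases π (π y) (hQfix _ hyO) with hfix | ⟨h7, hdvd⟩
  · exact ⟨_, hyO, hfix⟩
  set S := {w : X ⧸ A | ∃ x, π x * π y * (π x)⁻¹ = w} with hS
  have hSO : S ⊆ O := hclass _ hyO
  have hS8 : S.ncard ≤ 8 := hOc ▸ Set.ncard_le_ncard hSO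
  rcases (by omega : S.ncard = 7 ∨ S.ncard = 8) with h7' | h8'
  · have h1 : (O \ S).ncard = 1 := by rw [Set.ncard_diff hSO, hOc, h7']
    obtain ⟨z, hz⟩ := Set.ncard_eq_one.mp h1
    have hzO : z ∈ O \ S := hz ▸ rfl
    refine ⟨z, hzO.1, fun x => ?_⟩
    have h2 : π x * z * (π x)⁻¹ ∈ O \ S := by
      refine ⟨hOinv x z hzO.1, ?_⟩
      rintro ⟨x', hx'⟩
      refine hzO.2 ⟨x⁻¹ * x', ?_⟩
      rw [map_mul, map_inv, show (π x)⁻¹ * π x' * π y * ((π x)⁻¹ * π x')⁻¹ =
        (π x)⁻¹ * (π x' * π y * (π x')⁻¹) * π x by group, hx']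
      group
    rw [hz] at h2
    exact h2
  · exfalso
    apply he
    letI : MulAction X (X ⧸ A) :=
      MulAction.compHom _ ((MulAut.conj : (X ⧸ A) →* MulAut (X ⧸ A)).comp π)
    have horb : MulAction.orbit X (π y) = S := by
      ext z; simp [MulAction.mem_orbit_iff, hS]; rfl
    set T := MulAction.stabilizer X (π y) with hT
    have hTidx : T.index = 8 := by
      rw [hT, MulAction.index_stabilizer, horb, h8']
    have hQT : Q ≤ T := fun q hq => hQfix _ hyO q hq
    have heT : e ∈ T := (hcomm e y).mp hey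
    haveI := h.normal
    haveI : (Q.subgroupOf T).Normal := inferInstance
    have hidx : (Q.subgroupOf T).index = 21 := by
      have h1 := Subgroup.relIndex_mul_index hQT
      rw [h.index, hTidx] at h1
      show Q.relIndex T = 21
      omega
    have h21 := Subgroup.pow_index_mem (Q.subgroupOf T) (⟨e, heT⟩ : T)
    rw [hidx, Subgroup.mem_subgroupOf] at h21
    have h21' : e ^ 21 ∈ Q := h21
    have h20 : e ^ 20 ∈ Q := by
      rw [show e ^ 20 = (e * e) ^ 10 by rw [← pow_two, ← pow_mul]]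
      exact pow_mem he2 10
    rw [show e = (e ^ 20)⁻¹ * e ^ 21 by rw [pow_succ e 20, inv_mul_cancel_left]]
    exact mul_mem (inv_mem h20) h21'

end Cfsg.Agent.Lib.L32Core58
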